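import Cfsg.Agent.StdL2.TowA

/-!
# Standard subgroups of type `L₂(2ᵃ)`: the tower above `⟨t⟩ V`, second step
-/

set_option autoImplicit false
set_option linter.unusedSectionVars false

namespace Cfsg.Lib.StdL2

open Subgroup Cfsg.Lib.Gold Cfsg.Lib.Trans Cfsg.Lib.StdSz
open scoped commutatorElement MatrixGroups

variable {G : Type*} [Group G] [Finite G] {F : Type*} [Field F] [Finite F]

namespace Tow

section
variable (two : (2 : F) = 0)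

/-- The square root. -/
noncomputable def rt2 (c : F) : F := (StdU3.exists_sqrt_of_two two c).choose

theorem rt2_sq (c : F) : rt2 two c * rt2 two c = c := (StdU3.exists_sqrt_of_two two c).choose_spec

theorem rt2_mul_self (c : F) : rt2 two (c * c) = c := StdU3.sq_inj_of_two two (rt2_sq two _)

theorem rt2_mul (c d : F) : rt2 two (c * d) = rt2 two c * rt2 two d :=
  StdU3.sq_inj_of_two two (by rw [mul_mul_mul_comm, rt2_sq, rt2_sq, rt2_sq])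

theorem rt2_add (c d : F) : rt2 two (c + d) = rt2 two c + rt2 two d :=
  StdU3.sq_inj_of_two two (by
    linear_combination rt2_sq two (c + d) - rt2_sq two c - rt2_sq two d -
      rt2 two c * rt2 two d * two)

theorem rt2_eq_zero {c : F} : rt2 two c = 0 ↔ c = 0 :=
  ⟨fun h => by rw [← rt2_sq two c, h, mul_zero],
    fun h => mul_self_eq_zero.1 ((rt2_sq two c).trans h)⟩

theorem rt2_zero : rt2 two 0 = 0 := (rt2_eq_zero two).2 rfl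

theorem rt2_one : rt2 two 1 = 1 := by simpa using rt2_mul_self two 1

theorem formR (c : F → F → F) (h1 : ∀ a a' b, c (a + a') b = c a b + c a' b)
    (h1' : ∀ a b b', c a (b + b') = c a b + c a b')
    (h : ∀ l : F, l ≠ 0 → ∀ a b, c (l * a) (l * b) = l * c a b) (a b : F) :
    c a b = c 1 1 * rt2 two (a * b) := by
  rw [rt2_mul, ← StdU3.form_sqrt two c h1 h1' h, rt2_sq, rt2_sq]

end

variable {D : Dat G F}

namespace IL

section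
variable {n : ℕ} (L : IL D n) {w w' x y z z' : G} {κ : F}

theorem iv : IV D L.W := L.fr.iv

theorem V_le : D.V ≤ L.Z := L.iv.V_le.trans L.W_le

theorem H_Z (k : Fˣ) (z : G) (hz : z ∈ L.Z) : D.h k * z * (D.h k)⁻¹ ∈ L.Z :=
  mem_normalizer_conj (L.B_le (D.h_mem_B k)) hz

theorem bsq (hx : x ∈ L.Z) : x * x ∈ L.W :=
  L.ker _ (L.Z.mul_mem hx hx) (by rw [L.p_add _ hx _ hx, D.addF])

theorem bcm (hx : x ∈ L.Z) (hy : y ∈ L.Z) : ⁅x, y⁆ ∈ L.W := comm_mem_of_sq (fun _ => L.bsq) hx hy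

theorem bconj (hx : x ∈ L.Z) (hw : w ∈ L.W) : x * w * x⁻¹ ∈ L.W :=
  mem_normalizer_conj (L.NW hx) hw

theorem bh (k : Fˣ) (hw : w ∈ L.W) : D.h k * w * (D.h k)⁻¹ ∈ L.W :=
  mem_normalizer_conj (L.iv.B_le (D.h_mem_B k)) hw

theorem η_h (k : Fˣ) (hw : w ∈ L.W) : η D n (D.h k * w * (D.h k)⁻¹) = k * η D n w := by
  rw [L.fr.η_c _ hw, lam_h]

theorem bpt (hx : x ∈ L.Z) : ∃ w ∈ L.W, D.t * x * D.t = w * x ∧ x * D.t * x⁻¹ = D.t * w ∧
    η D n w = L.p x := by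
  obtain ⟨w, hw, e, h⟩ := L.pt x hx
  refine ⟨w, hw, ?_, e, h⟩
  rw [show D.t * x * D.t = D.t * (x * D.t * x⁻¹) * x by group, e, D.tt_mul]

theorem tz (hz : z ∈ L.Z) : D.t * z * D.t ∈ L.Z := by
  obtain ⟨a, ha, e, -⟩ := L.bpt hz
  exact e ▸ L.Z.mul_mem (L.W_le ha) hz

theorem tN : D.t ∈ Ns L.Z := mem_Ns fun _ hz => by rw [D.t_inv]; exact L.tz hz

theorem exists_conj_tW (hw : w ∈ L.W) : ∃ x ∈ L.Z, D.t * w = x * D.t * x⁻¹ := by
  obtain ⟨z, hz, h1⟩ := L.p_surj (η D n w)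
  obtain ⟨a, ha, -, e, h2⟩ := L.bpt hz
  obtain ⟨u, hu, h3⟩ := L.fr.η_root (L.W.mul_mem (L.W.inv_mem ha) hw) (by
    rw [L.fr.η_add _ (L.W.inv_mem ha) _ hw, L.fr.η_add.inv ha, h2, h1, neg_add_cancel])
  refine ⟨u⁻¹ * z, L.Z.mul_mem (L.Z.inv_mem (L.W_le hu)) hz, ?_⟩
  rw [show u⁻¹ * z * D.t * (u⁻¹ * z)⁻¹ = u⁻¹ * (z * D.t * z⁻¹) * u by group, e, ← mul_assoc,
    L.iv.mul_t (L.W.inv_mem hu), inv_inv, mul_assoc D.t, (L.iv.comm hu ha).eq, mul_assoc,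
    mul_assoc, ← pow_two, ← h3, mul_inv_cancel_left]

/-- The commutator form on `Z × W`. -/
theorem exists_form {i : ℕ} (h : ∀ z ∈ L.Z, ∀ w ∈ L.W, ⁅z, w⁆ ^ 2 ^ (i + 1) = 1) :
    ∃ κ, ∀ z ∈ L.Z, ∀ w ∈ L.W, ⁅z, w⁆ ^ 2 ^ i = D.v (κ * rt2 D.two (L.p z * η D n w)) := by
  have m : ∀ z ∈ L.Z, ∀ w ∈ L.W, ⁅z, w⁆ ∈ L.W := fun z hz w hw => L.bcm hz (L.W_le hw)
  have v : ∀ z ∈ L.Z, ∀ w ∈ L.W, ⁅z, w⁆ ^ 2 ^ i ∈ D.V := fun z hz w hw =>
    L.fr.pow_memV (m z hz w hw) (h z hz w hw)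
  have r : ∀ z ∈ L.Z, ∀ w ∈ L.W, ∀ w' ∈ L.W, ⁅z, w * w'⁆ = ⁅z, w⁆ * ⁅z, w'⁆ :=
    fun z hz w hw w' hw' => by
      rw [comm_mul_right, conj_eq_of_commute (L.iv.comm hw (m z hz w' hw'))]
  obtain ⟨c, c1, c2, hc⟩ := pair (A := L.Z) (B := L.W) L.p (η D n)
    (fun z w => D.γ (⁅z, w⁆ ^ 2 ^ i)) L.p_add L.fr.η_add L.p_surj L.fr.η_onto
    (fun w hw z hz z' hz' => by
      simp only
      rw [comm_mul_left, (L.iv.comm (L.bconj hz (m z' hz' w hw)) (m z hz w hw)).mul_pow,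
        conj_pow, cjV _ (L.cV hz) (v z' hz' w hw),
        D.γ_add _ (v z' hz' w hw) _ (v z hz w hw), add_comm])
    (fun z hz w hw w' hw' => by
      simp only
      rw [r z hz w hw w' hw', (L.iv.comm (m z hz w hw) (m z hz w' hw')).mul_pow,
        D.γ_add _ (v z hz w hw) _ (v z hz w' hw')])
    (fun z hz w hw e => by
      rw [(L.iv.comm (L.ker z hz e) hw).commutator_eq, one_pow, D.γ_one])
    fun z hz w hw e => by
      obtain ⟨u, hu, rfl⟩ := L.fr.η_root hw e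
      rw [pow_two u, r z hz u hu u hu, ← pow_two, ← pow_mul, ← pow_succ', h z hz u hu, D.γ_one]
  have hκ := formR D.two c c1 c2 fun l hl a b => by
    obtain ⟨k, rfl⟩ : ∃ k : Fˣ, (k : F) = l := ⟨Units.mk0 l hl, rfl⟩
    obtain ⟨z, hz, rfl⟩ := L.p_surj a
    obtain ⟨w, hw, rfl⟩ := L.fr.η_onto b
    rw [← L.p_H k z hz, ← L.η_h k hw, ← hc _ (L.H_Z k z hz) _ (L.bh k hw), ← hc z hz w hw,
      conj_comm, conj_pow, γH _ k (v z hz w hw)]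
  exact ⟨c 1 1, fun z hz w hw => by rw [← hκ, ← hc z hz w hw, D.v_γ (v z hz w hw)]⟩

theorem comm_pow (hx : x ∈ L.Z) (hw : w ∈ L.W) : ⁅x, w⁆ ^ 2 ^ n = 1 := by
  rw [commutatorElement_def, (L.iv.comm (L.bconj hx hw) (L.W.inv_mem hw)).mul_pow, conj_pow,
    inv_pow, cjV _ (L.cV hx) (L.fr.pow_memV hw (L.fr.exp w hw)), mul_inv_cancel]

theorem comm_comm (hx : x ∈ L.Z) (hw : w ∈ L.W) : ⁅x, ⁅x, w⁆⁆ * ⁅x, w⁆ * ⁅x, w⁆ = 1 := by
  rw [← conj_eq_comm, ← comm_mul_left, (L.iv.comm (L.bsq hx) hw).commutator_eq]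

theorem comm_pow_right (hx : x ∈ L.Z) (hw : w ∈ L.W) (m : ℕ) : ⁅x, w ^ m⁆ = ⁅x, w⁆ ^ m := by
  rw [commutatorElement_def, commutatorElement_def,
    (L.iv.comm (L.bconj hx hw) (L.W.inv_mem hw)).mul_pow, conj_pow, inv_pow]

theorem sq_rel (hx : x ∈ L.Z) (hw : w ∈ L.W) (e : x * D.t * x⁻¹ = D.t * w) :
    (x * x)⁻¹ ^ 2 = ⁅x, w⁆ * w ^ 2 := by
  have h1 : x * x * D.t * (x * x)⁻¹ = D.t * (w * (⁅x, w⁆ * w)) := by
    rw [show x * x * D.t * (x * x)⁻¹ = x * (x * D.t * x⁻¹) * x⁻¹ by group, e, ← conj_mul, e,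
      conj_eq_comm, mul_assoc]
  have h2 := L.iv.inv _ (L.bsq hx)
  rw [← mul_assoc w, (L.iv.comm hw (L.bcm hx (L.W_le hw))).eq, mul_assoc ⁅x, w⁆,
    ← pow_two w] at h1
  rw [pow_two]
  nth_rw 1 [← h2]
  rw [mul_assoc D.t, mul_assoc D.t, h1, D.tt_mul]

/-- An `H`-invariant subgroup `R` of `Z` with commutators in `V`, on which `p` is onto with central
kernel, is abelian. -/
theorem comm_of {R : Subgroup G} (hR : R ≤ L.Z) (hs : ∀ b, ∃ z ∈ R, L.p z = b)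
    (hH : ∀ k, ∀ z ∈ R, D.h k * z * (D.h k)⁻¹ ∈ R) (v : ∀ z ∈ R, ∀ z' ∈ R, ⁅z, z'⁆ ∈ D.V)
    (hk : ∀ z ∈ R, L.p z = 0 → ∀ z' ∈ R, Commute z z') (hz : z ∈ R) (hz' : z' ∈ R) :
    Commute z z' := by
  have hp := L.p_add.mono hR
  obtain ⟨c, c1, c2, hc⟩ := pair (A := R) (B := R) L.p L.p (fun z w => D.γ ⁅z, w⁆) hp hp hs hs
    (fun w hw z hz z' hz' => γcl _ (L.cV (hR hz)) (v z hz w hw) (v z' hz' w hw))
    (fun z hz w hw w' hw' => γcr _ (L.cV (hR hw)) (v z hz w hw) (v z hz w' hw'))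
    (fun z hz w hw e => γcc _ (hk z hz e w hw))
    fun z hz w hw e => γcc _ (hk w hw e z hz).symm
  have hκ := formR D.two c c1 c2 fun l hl a b => by
    obtain ⟨k, rfl⟩ : ∃ k : Fˣ, (k : F) = l := ⟨Units.mk0 l hl, rfl⟩
    obtain ⟨z, hz, rfl⟩ := hs a
    obtain ⟨w, hw, rfl⟩ := hs b
    rw [← L.p_H k z (hR hz), ← L.p_H k w (hR hw), ← hc _ (hH k z hz) _ (hH k w hw),
      ← hc z hz w hw, conj_comm, γH _ k (v z hz w hw)]
  obtain ⟨z1, hz1, e⟩ := hs 1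
  have := hc z1 hz1 z1 hz1
  rw [γcc _ (.refl z1), e] at this
  refine commutatorElement_eq_one_iff_commute.1 (γ0 _ (v z hz z' hz') ?_)
  rw [hc z hz z' hz', hκ, ← this, zero_mul]

/-- An additive equivariant function killing the kernel of `p` is a multiple of `p`. -/
theorem lin_of {R : Subgroup G} (hR : R ≤ L.Z) (hs : ∀ b, ∃ z ∈ R, L.p z = b)
    (hH : ∀ k, ∀ z ∈ R, D.h k * z * (D.h k)⁻¹ ∈ R) {f : G → F} (hf : AddOn R f)
    (h0 : ∀ z ∈ R, L.p z = 0 → f z = 0)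
    (hfH : ∀ k : Fˣ, ∀ z ∈ R, f (D.h k * z * (D.h k)⁻¹) = k * f z) :
    ∃ ν, ∀ z ∈ R, f z = ν * L.p z := by
  obtain ⟨z1, hz1, e1⟩ := hs 1
  refine ⟨f z1, fun z hz => ?_⟩
  rcases eq_or_ne (L.p z) 0 with e | e
  · rw [h0 z hz e, e, mul_zero]
  rw [(L.p_add.mono hR).congr_of hf h0 hz (hH (Units.mk0 _ e) z1 hz1)
    (by rw [L.p_H _ _ (hR hz1), e1, mul_one, Units.val_mk0]), hfH _ z1 hz1, Units.val_mk0, mul_comm]

theorem abelian (h : ∀ z ∈ L.Z, ∀ w ∈ L.W, Commute z w) :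
    (∀ z ∈ L.Z, ∀ z' ∈ L.Z, Commute z z') ∧
      ∃ κ, ∀ z ∈ L.Z, D.t * z * D.t * z = D.v (κ * L.p z) := by
  have c : ∀ z ∈ L.Z, ∀ z' ∈ L.Z, Commute z z' := fun z hz z' hz' =>
    L.comm_of le_rfl L.p_surj L.H_Z (fun z hz z' hz' => by
      have m := L.bcm hz hz'
      refine L.iv.omega m ?_
      rw [← (h _ hz' _ (L.bsq hz)).symm.commutator_eq, comm_mul_left,
        conj_eq_of_commute (h _ hz _ m)])
      (fun z hz e z' hz' => (h _ hz' _ (L.ker z hz e)).symm) hz hz'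
  have ν : ∀ z ∈ L.Z, D.t * z * D.t * z ∈ D.V := fun z hz => by
    obtain ⟨a, ha, e, e', -⟩ := L.bpt hz
    have hb := L.bsq hz
    have := L.sq_rel hz ha e'
    rw [(h _ hz _ ha).commutator_eq, one_mul] at this
    rw [e, mul_assoc]
    refine L.iv.omega (L.W.mul_mem ha hb) ?_
    rw [← pow_two, (L.iv.comm ha hb).mul_pow, ← this, inv_pow, inv_mul_cancel]
  obtain ⟨κ, hκ⟩ := L.lin_of le_rfl L.p_surj L.H_Z (f := fun z => D.γ (D.t * z * D.t * z))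
    (fun z hz z' hz' => by
      simp only
      rw [← D.γ_add _ (ν z hz) _ (ν z' hz'), mul_assoc _ z (_ * z'), ← mul_assoc z,
        (c z hz _ (L.tz hz')).eq]
      congr 1
      rw [show D.t * z * D.t * (D.t * z' * D.t * z * z') =
        D.t * z * (D.t * D.t) * z' * D.t * (z * z') by group, D.t_sq]
      group)
    (fun z hz e => by rw [L.iv.inv z (L.ker z hz e), inv_mul_cancel, D.γ_one])
    fun k z hz => by
      rw [← γH _ k (ν z hz)]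
      congr 1
      nth_rw 1 [← H_t D.toMod k]
      nth_rw 2 [← H_t D.toMod k]
      group
  exact ⟨c, κ, fun z hz => by rw [← hκ z hz, D.v_γ (ν z hz)]⟩

theorem top (c : ∀ z ∈ L.Z, ∀ z' ∈ L.Z, Commute z z') (root : ∀ b, ∃ z ∈ L.Z, z * z = D.v b)
    (om : ∀ z ∈ L.Z, z * z = 1 → L.p z = 0) (hκ : κ ≠ 0)
    (ht : ∀ z ∈ L.Z, D.t * z * D.t * z = D.v (κ * L.p z)) : Top D L.Z := by
  have om' : ∀ z ∈ L.Z, z * z = 1 → z ∈ D.V := fun z hz h => L.iv.omega (L.ker z hz (om z hz h)) h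
  refine ⟨L.two, c, root, om', L.t_not, L.B_le, fun g hg => ?_⟩
  have hm : ∀ {x}, x ∈ L.Z ⊔ zpowers D.t → x ∈ L.Z ∨ D.t * x ∈ L.Z :=
    (StdU3.mem_sup_invol D.t_sq L.tN).1
  have h2 : g * D.t * g⁻¹ * (g * D.t * g⁻¹) = 1 := by rw [conj_sq, D.t_sq]; group
  have h3 := (hm (mem_normalizer_conj hg (mem_sup_right (mem_zpowers D.t)))).resolve_left
    fun h => by
      obtain ⟨b, hb⟩ := om' _ h h2
      obtain ⟨z, hz, e⟩ := L.p_surj 1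
      obtain ⟨w, hw, -, e1, e2⟩ := L.bpt hz
      have c1 : Commute (g * z * g⁻¹) (D.v b) := by
        rcases hm (mem_normalizer_conj hg (mem_sup_left hz)) with h1 | h1
        · exact L.cV h1 b
        · exact D.tt_mul (g * z * g⁻¹) ▸ (D.t_v b).mul_left (L.cV h1 b)
      have c2 := commute_conj c1 g⁻¹
      rw [← hb, show g⁻¹ * (g * z * g⁻¹) * g⁻¹⁻¹ = z by group,
        show g⁻¹ * (g * D.t * g⁻¹) * g⁻¹⁻¹ = D.t by group] at c2
      rw [conj_eq_of_commute c2, left_eq_mul] at e1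
      rw [e1, L.fr.η_add.one, e] at e2
      exact zero_ne_one e2
  have h4 := ht _ h3
  rw [D.tt_mul, mul_assoc, D.tt_mul, h2, eq_comm, D.v_eq_one, mul_eq_zero] at h4
  obtain ⟨x, hx, e⟩ := L.exists_conj_tW (L.ker _ h3 (h4.resolve_left hκ))
  exact ⟨x, hx, by rw [← e, D.tt_mul]⟩

theorem inv_of (ht : ∀ z ∈ L.Z, D.t * z * D.t * z = D.v (0 * L.p z)) : Inv D L.Z ∧ L.W < L.Z := by
  refine ⟨⟨L.two, fun z hz => ?_, L.V_le, L.t_not, L.O_c, L.B_le⟩,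
    lt_of_le_of_ne L.W_le fun e => ?_⟩
  · rw [← mul_eq_one_iff_eq_inv, ht z hz, zero_mul, D.v_zero]
  · obtain ⟨z, hz, e'⟩ := L.p_surj 1
    exact one_ne_zero (e'.symm.trans (L.p_W z (e ▸ hz)))

end

theorem cases0 (L : IL D 0) : (Inv D L.Z ∧ L.W < L.Z) ∨ Top D L.Z ∨ Nonempty (El D) := by
  have hV : ∀ w ∈ L.W, w ∈ D.V := fun w hw => L.iv.omega hw (by simpa [sq] using L.fr.exp w hw)
  obtain ⟨c, κ, ht⟩ := L.abelian fun z hz w hw => by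
    obtain ⟨b, rfl⟩ := hV w hw; exact L.cV hz b
  have tZ : ∀ z ∈ L.Z, D.t * z * D.t = z * D.v (L.p z) := fun z hz => by
    obtain ⟨w, hw, e, -, e'⟩ := L.bpt hz
    rw [e, ← e', L.fr.v_η hw, pow_zero, pow_one, (c z hz w (L.W_le hw)).eq]
  have sq : ∀ z ∈ L.Z, z * z = D.v ((κ + 1) * L.p z) := fun z hz => by
    rw [add_mul, one_mul, D.v_add, ← ht z hz, tZ z hz, mul_assoc, mul_assoc, (L.cV hz _).eq,
      ← mul_assoc (D.v _), D.v_sq, one_mul]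
  rcases eq_or_ne κ 0 with rfl | hκ
  · exact Or.inl (L.inv_of ht)
  rcases eq_or_ne (κ + 1) 0 with h1 | h1
  · exact Or.inr (Or.inr ⟨⟨L.Z, L.p, fun z hz => by rw [sq z hz, h1, zero_mul, D.v_zero], L.V_le,
      L.p_add, L.p_surj, fun z hz e => hV z (L.ker z hz e), tZ, L.B_le⟩⟩)
  refine Or.inr (Or.inl (L.top c (fun b => ?_) (fun z hz e => ?_) hκ ht))
  · obtain ⟨z, hz, e⟩ := L.p_surj (b / (κ + 1))
    exact ⟨z, hz, by rw [sq z hz, e, mul_div_cancel₀ _ h1]⟩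
  · rw [sq z hz, D.v_eq_one, mul_eq_zero] at e
    exact e.resolve_left h1

section
variable {j : ℕ} (L : IL D (j + 1)) {w w' x y z z' : G} {κ : F}

omit L in
theorem η_V (hw : w ∈ D.V) : η D (j + 1) w = 0 := by
  rw [η, pow_succ', pow_mul, pow_two, D.V_sq hw, one_pow, D.γ_one]

theorem η_sq
    (h : ∀ z ∈ L.Z, ∀ w ∈ L.W, ⁅z, w⁆ ^ 2 ^ j = D.v (κ * rt2 D.two (L.p z * η D (j + 1) w)))
    (hz : z ∈ L.Z) : η D (j + 1) (z * z) = (1 + κ) * L.p z := by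
  obtain ⟨a, ha, -, e, h1⟩ := L.bpt hz
  have h2 := congrArg (· ^ 2 ^ j) (L.sq_rel hz ha e)
  rw [(L.iv.comm (L.bcm hz (L.W_le ha)) (L.W.pow_mem ha 2)).mul_pow, h z hz a ha, ← pow_mul,
    ← pow_mul, ← pow_succ', inv_pow, ← L.fr.v_η ha, ← L.fr.v_η (L.bsq hz), D.v_inv, ← D.v_add,
    h1, rt2_mul_self] at h2
  rw [D.v_inj h2]; ring

theorem κ_or
    (h : ∀ z ∈ L.Z, ∀ w ∈ L.W, ⁅z, w⁆ ^ 2 ^ j = D.v (κ * rt2 D.two (L.p z * η D (j + 1) w))) :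
    κ = 0 ∨ κ = 1 := by
  obtain ⟨z, hz, e⟩ := L.p_surj 1
  have := h z hz _ (L.bsq hz)
  rw [((Commute.refl z).mul_right (.refl z)).commutator_eq, one_pow, L.η_sq h hz, e, eq_comm,
    D.v_eq_one, mul_eq_zero, rt2_eq_zero, one_mul, mul_one, D.add_eq_zeroF] at this
  exact this.imp id Eq.symm

theorem j_eq
    (h : ∀ z ∈ L.Z, ∀ w ∈ L.W, ⁅z, w⁆ ^ 2 ^ j = D.v (rt2 D.two (L.p z * η D (j + 1) w))) :
    j = 0 := by
  by_contra n
  obtain ⟨i, rfl⟩ := Nat.exists_eq_add_one_of_ne_zero n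
  obtain ⟨z, hz, e⟩ := L.p_surj 1
  obtain ⟨r, r0, r1⟩ := StdU3.exists_ne_01 D.big
  obtain ⟨w, hw, e'⟩ := L.fr.η_onto (r * r)
  obtain ⟨u, hu, h1⟩ := L.iv.pow_root L.fr.surj (i + 1 + 1) 1 rfl _ (L.bcm hz (L.W_le hw))
    (L.comm_pow hz hw)
  rw [pow_one] at h1
  have h2 : η D (i + 1 + 1) u = r := by
    rw [η, pow_succ', pow_mul, ← h1, h z hz w hw, e, e', one_mul, rt2_mul_self, D.γ_v]
  have h3 := L.comm_comm hz hw
  have c := L.iv.comm (L.bcm hz (L.W_le hu)) (L.W.pow_mem hu 2)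
  rw [h1, L.comm_pow_right hz hu, mul_assoc, ← pow_two, ← c.mul_pow] at h3
  have h4 := congrArg (· ^ 2 ^ i) h3
  rw [← pow_mul, ← pow_succ', c.mul_pow, h z hz u hu, ← pow_mul,
    ← pow_succ', ← L.fr.v_η hu, ← D.v_add, one_pow, D.v_eq_one, e, h2, one_mul,
    D.add_eq_zeroF] at h4
  have h5 := rt2_sq D.two r
  rw [h4] at h5
  exact r1 (mul_left_cancel₀ r0 (h5.trans (mul_one r).symm))

theorem cW (h : ∀ z ∈ L.Z, ∀ w ∈ L.W, ⁅z, w⁆ ^ 2 ^ j = 1) (hz : z ∈ L.Z) (hw : w ∈ L.W) :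
    Commute z w := by
  have k : ∀ z ∈ L.Z, ∀ m, (∀ w ∈ L.W, ⁅z, w⁆ ^ 2 ^ (m + 1) = 1) →
      ∀ w ∈ L.W, ⁅z, w⁆ ^ 2 ^ (0 + 1) = 1 :=
    fun z hz m => by
      induction m with
      | zero => exact id
      | succ m ih =>
        refine fun H => ih fun w hw => ?_
        obtain ⟨u, hu, h1⟩ := L.iv.pow_root L.fr.surj j 2 rfl _ (L.bcm hz (L.W_le hw))
          (h z hz w hw)
        have h2 := L.comm_comm hz hw
        nth_rw 1 [h1] at h2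
        rw [L.comm_pow_right hz hu, mul_assoc, ← pow_two, mul_eq_one_iff_inv_eq] at h2
        rw [pow_succ', pow_mul, ← h2, inv_pow, ← pow_mul, ← pow_add, add_comm 2, H u hu, inv_one]
  obtain ⟨κ, hκ⟩ := L.exists_form (i := 0) fun z hz => k z hz j fun w hw => L.comm_pow hz hw
  obtain ⟨z', hz', e⟩ := L.p_surj 1
  have := hκ z' hz' _ (L.bsq hz')
  rw [((Commute.refl z').mul_right (.refl z')).commutator_eq, one_pow, L.η_sq (κ := 0)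
    (fun z hz w hw => by rw [h z hz w hw, zero_mul, D.v_zero]) hz', e, eq_comm, D.v_eq_one,
    mul_eq_zero, rt2_eq_zero] at this
  have h1 := hκ z hz w hw
  rw [this.resolve_right (by simp), zero_mul, D.v_zero, pow_zero, pow_one] at h1
  exact commutatorElement_eq_one_iff_commute.1 h1

end

theorem refl (L : IL D (0 + 1))
    (h : ∀ z ∈ L.Z, ∀ w ∈ L.W, ⁅z, w⁆ = D.v (rt2 D.two (L.p z * η D (0 + 1) w))) :
    Nonempty (Q3 D) := by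
  have vη : ∀ w ∈ L.W, w * w = D.v (η D (0 + 1) w) := fun w hw => by
    rw [L.fr.v_η hw, zero_add, pow_one, pow_two]
  have η0 : ∀ w ∈ L.W, η D (0 + 1) w = 0 → w ∈ D.V := fun w hw e =>
    L.iv.omega hw (by rw [vη w hw, e, D.v_zero])
  have e0 : ∀ z ∈ L.Z, η D (0 + 1) (z * z) = 0 := fun z hz => by
    rw [L.η_sq (κ := 1) (fun z hz w hw => by rw [h z hz w hw, pow_zero, pow_one, one_mul]) hz,
      D.addF, zero_mul]
  have sq : ∀ z ∈ L.Z, z * z ∈ D.V := fun z hz => η0 _ (L.bsq hz) (e0 z hz)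
  have hI : Odd (Nat.card Fˣ) := by
    obtain ⟨a, ha, e⟩ := D.exists_pow
    rw [Nat.card_units, e]
    exact Nat.Even.sub_odd Nat.one_le_two_pow (Nat.even_pow.2 ⟨even_two, by omega⟩) odd_one
  obtain ⟨r, hr, r1, r2⟩ := exists_ext (I := Fˣ) hI D.addF L.W_le
    (fun w => rt2 D.two (η D (0 + 1) w))
    (fun w hw w' hw' => by simp only [L.fr.η_add w hw w' hw', rt2_add])
    (fun z hz => ⟨L.bsq hz, by simp only [e0 z hz, rt2_zero]⟩) D.h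
    (fun k m => rt2 D.two k * m) (fun _ _ _ => mul_add _ _ _)
    (fun k l m => by rw [Units.val_mul, rt2_mul, mul_assoc])
    (fun m => by rw [Units.val_one, rt2_one, one_mul])
    (fun k w hw => L.bh k hw) L.H_Z
    fun k w hw => by simp only [L.η_h k hw, rt2_mul]
  have dec : ∀ z ∈ L.Z, ∃ w ∈ L.W, ∃ ρ ∈ hr.ker, z = ρ * w ∧ rt2 D.two (η D (0 + 1) w) = r z ∧
      L.p ρ = L.p z := fun z hz => by
    obtain ⟨w, hw, e⟩ := L.fr.η_onto (r z * r z)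
    have m := L.Z.inv_mem (L.W_le hw)
    refine ⟨w, hw, z * w⁻¹, ⟨L.Z.mul_mem hz m, ?_⟩, by group, by rw [e, rt2_mul_self], ?_⟩
    · rw [hr z hz _ m, hr.inv (L.W_le hw), r1 w hw, e, rt2_mul_self, add_neg_cancel]
    · rw [L.p_add z hz _ m, L.p_W _ (L.W.inv_mem hw), add_zero]
  have hs : ∀ b, ∃ z ∈ hr.ker, L.p z = b := fun b => by
    obtain ⟨z, hz, rfl⟩ := L.p_surj b
    obtain ⟨-, -, ρ, hρ, -, -, e⟩ := dec z hz
    exact ⟨ρ, hρ, e⟩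
  have hH : ∀ k, ∀ z ∈ hr.ker, D.h k * z * (D.h k)⁻¹ ∈ hr.ker := fun k z hz =>
    ⟨L.H_Z k z hz.1, by rw [r2 k z hz.1, hz.2, mul_zero]⟩
  have kV : ∀ z ∈ L.Z, r z = 0 → L.p z = 0 → z ∈ D.V := fun z hz h1 h2 =>
    η0 z (L.ker z hz h2) ((rt2_eq_zero _).1 ((r1 z (L.ker z hz h2)).symm.trans h1))
  have c : ∀ z ∈ hr.ker, ∀ z' ∈ hr.ker, Commute z z' := fun z hz z' hz' =>
    L.comm_of hr.ker_le hs hH (fun z hz z' hz' => comm_mem_of_sq sq hz.1 hz'.1)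
      (fun z hz e z' hz' => by
        obtain ⟨b, hb⟩ := kV z hz.1 hz.2 e
        exact hb ▸ (L.cV hz'.1 b).symm) hz hz'
  obtain ⟨ν, hν⟩ := L.lin_of hr.ker_le hs hH (f := fun z => D.γ (z * z))
    (fun z hz z' hz' => by
      simp only
      rw [(c z hz z' hz').symm.mul_mul_mul_comm, D.γ_add _ (sq z hz.1) _ (sq z' hz'.1)])
    (fun z hz e => by rw [D.V_sq (kV z hz.1 hz.2 e), D.γ_one])
    fun k z hz => by rw [conj_sq, γH _ k (sq z hz.1)]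
  refine ⟨⟨L.Z, r, fun z => rt2 D.two (L.p z), ν, hr, fun z hz z' hz' => by
      simp only [L.p_add z hz z' hz', rt2_add], L.V_le, fun b c => ?_,
    fun g hg h2 h3 => kV g hg h2 ((rt2_eq_zero _).1 h3), fun b => ⟨?_, ?_⟩, fun _ => L.cV,
    fun z hz => ?_, fun z hz => ?_, fun k => ⟨rt2 D.two k, rt2_sq _ _, fun z hz => ?_⟩, L.B_le⟩⟩
  · obtain ⟨ρ, hρ, e⟩ := hs (c * c)
    obtain ⟨w, hw, e'⟩ := L.fr.η_onto (b * b)
    refine ⟨_, L.Z.mul_mem hρ.1 (L.W_le hw), ?_, ?_⟩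
    · rw [hr ρ hρ.1 w (L.W_le hw), hρ.2, r1 w hw, e', rt2_mul_self, zero_add]
    · rw [L.p_add ρ hρ.1 w (L.W_le hw), L.p_W w hw, e, add_zero, rt2_mul_self]
  · rw [r1 _ (L.iv.v_mem b), η_V (D.v_mem b), rt2_zero]
  · rw [L.p_W _ (L.iv.v_mem b), rt2_zero]
  · obtain ⟨w, hw, ρ, hρ, e, e1, e2⟩ := dec z hz
    rw [← e1, ← e2, rt2_sq, rt2_sq, ← hν ρ hρ, e, mul_sq_eq, ← commutatorElement_inv,
      h ρ hρ.1 w hw, D.v_inv, conj_eq_of_commute (L.cV hρ.1 _), ← D.v_γ (sq ρ hρ.1), D.γ_v, vη w hw,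
      ← D.v_add, ← D.v_add, rt2_mul]
    congr 1; ring
  · obtain ⟨a, ha', e, -, e'⟩ := L.bpt hz
    rw [e, hr a (L.W_le ha') z hz, r1 a ha', e', L.p_add a (L.W_le ha') z hz, L.p_W a ha',
      zero_add (L.p z)]
    exact ⟨add_comm _ _, rfl⟩
  · rw [r2 k z hz, L.p_H k z hz, rt2_mul]
    exact ⟨rfl, rfl⟩

theorem cases {j : ℕ} (L : IL D (j + 1)) :
    (Inv D L.Z ∧ L.W < L.Z) ∨ Top D L.Z ∨ Nonempty (Q3 D) := by
  obtain ⟨κ, h⟩ := L.exists_form (i := j) fun z hz w hw => L.comm_pow hz hw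
  rcases L.κ_or h with rfl | rfl
  · obtain ⟨c, κ, ht⟩ := L.abelian fun z hz w hw =>
      L.cW (fun z hz w hw => by rw [h z hz w hw, zero_mul, D.v_zero]) hz hw
    rcases eq_or_ne κ 0 with rfl | hκ
    · exact Or.inl (L.inv_of ht)
    refine Or.inr (Or.inl (L.top c (fun b => ?_) (fun z hz e => ?_) hκ ht))
    · obtain ⟨w, hw, e⟩ := L.iv.root L.fr.surj b
      exact ⟨w, L.W_le hw, e⟩
    · have := L.η_sq h hz
      rwa [e, L.fr.η_add.one, add_zero, one_mul, eq_comm] at this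
  · simp only [one_mul] at h
    obtain rfl := L.j_eq h
    exact Or.inr (Or.inr (L.refl fun z hz w hw => by rw [← h z hz w hw, pow_zero, pow_one]))

end IL

end Tow

theorem Dat.tower (D : Dat G F) (h : Ns D.W ≤ Ns D.V) : Ns D.W ≤ C1 D.t ∨ (∃ Z, Top D Z) ∨
    Nonempty (El D) ∨ Nonempty (Q3 D) ∨ ∃ U, Exc D U := by
  obtain ⟨W, hW, hmax⟩ := exists_maximal_of_wellFoundedGT (fun W : Subgroup G => Inv D W)
    ⟨D.V, D.two_W.to_le le_sup_left, by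
      rintro _ ⟨b, rfl⟩; rw [(D.t_v b).eq, mul_assoc, D.t_sq, mul_one, D.v_inv], le_rfl,
      D.t_not_mem_V, fun o ho u hu => D.O_W ho (mem_sup_left hu), inf_le_right⟩
  obtain ⟨n, h1, h2⟩ := Tow.IV.exists_exp hW
  obtain h1 | h1 | h1 | ⟨L, rfl⟩ := Tow.Fr.step ⟨hW, h, h1, h2⟩
  · exact Or.inl h1
  · exact Or.inr (Or.inl ⟨W, h1⟩)
  · exact Or.inr (Or.inr (Or.inr (Or.inr ⟨W, h1⟩)))
  cases n with
  | zero =>
    obtain ⟨h1, h2⟩ | h1 | h1 := L.cases0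
    · exact absurd (hmax h1 h2.le) h2.not_ge
    · exact Or.inr (Or.inl ⟨_, h1⟩)
    · exact Or.inr (Or.inr (Or.inl h1))
  | succ j =>
    obtain ⟨h1, h2⟩ | h1 | h1 := L.cases
    · exact absurd (hmax h1 h2.le) h2.not_ge
    · exact Or.inr (Or.inl ⟨_, h1⟩)
    · exact Or.inr (Or.inr (Or.inr (Or.inl h1)))

theorem Tow.rt2_eq_1' : type_of% @Tow.rt2.eq_1 := @Tow.rt2.eq_1

end Cfsg.Lib.StdL2
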