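import Cfsg.Agent.StdL2.Defs
import Cfsg.Agent.StdU3.Model
import Cfsg.Agent.StdU3.Frame
import Cfsg.Agent.Bender.Groups
import Cfsg.Agent.AB.L34Syl

/-!
# Standard subgroups of type `L₂(2ᵃ)`: special groups of order `q³`
-/

set_option autoImplicit false

namespace Cfsg.Lib.StdL2

open Subgroup Cfsg.Lib.Gold Cfsg.Lib.Trans Cfsg.Lib.StdSz
open scoped commutatorElement MatrixGroups

variable {G : Type*} [Group G] [Finite G] {F : Type*} [Field F] [Finite F]

omit [Finite F] in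
theorem sq_inj_hom {P P' : Type*} [Group P] [Group P'] [Finite P] [Finite P'] {N : Type*}
    [AddCommGroup N] (π : P → N) (π' : P' → N) (v : F → P) (v' : F → P') (Q : N → F)
    (ha : ∀ x y, π (x * y) = π x + π y) (ha' : ∀ x y, π' (x * y) = π' x + π' y)
    (hs' : Function.Surjective π')
    (va : ∀ b c, v (b + c) = v b * v c) (va' : ∀ b c, v' (b + c) = v' b * v' c)
    (vi : Function.Injective v) (vi' : Function.Injective v')
    (hk : ∀ x, π x = 0 ↔ ∃ b, x = v b) (hk' : ∀ x, π' x = 0 ↔ ∃ b, x = v' b)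
    (sq : ∀ x, x * x = v (Q (π x))) (sq' : ∀ x, x * x = v' (Q (π' x))) :
    ∃ f : P →* P', Function.Injective f := by
  have hD : AddOn ⊤ fun x : P × P' => π x.1 - π' x.2 := fun x _ y _ => by
    simp only [Prod.fst_mul, Prod.snd_mul, ha, ha']
    abel
  have hZ : AddOn hD.ker fun x : P × P' => π x.1 := fun x _ y _ => ha _ _
  have v0 : v 0 = 1 := mul_eq_left.1 ((va 0 0).symm.trans (by rw [add_zero]))
  have v0' : v' 0 = 1 := mul_eq_left.1 ((va' 0 0).symm.trans (by rw [add_zero]))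
  have p1 : π 1 = 0 := (hk 1).2 ⟨0, v0.symm⟩
  have p1' : π' 1 = 0 := (hk' 1).2 ⟨0, v0'.symm⟩
  obtain ⟨R, h1, h2, h3, h4⟩ := exists_compl_sq (K := StdU3.vsub (fun b => (v b, v' b))
    fun b c => Prod.ext (va b c) (va' b c)) (A := hZ.ker) (A' := hD.ker)
    (by
      rintro _ ⟨b, rfl⟩
      exact ⟨⟨trivial, by simp [(hk _).2 ⟨b, rfl⟩, (hk' _).2 ⟨b, rfl⟩]⟩, (hk _).2 ⟨b, rfl⟩⟩)
    hZ.ker_le fun x hx => ⟨_, Prod.ext (sq _) ((sq' _).trans (by rw [sub_eq_zero.1 hx.2]))⟩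
  have key : ∀ x : R, π x.1.1 = 0 → ∃ b, x.1 = (v b, v' b) := fun x hx => h3 ⟨x.2, h1 x.2, hx⟩
  let e := MulEquiv.ofBijective ((MonoidHom.fst P P').comp R.subtype) ⟨(injective_iff_map_eq_one _).2
    fun x hx => by
      have hx : x.1.1 = 1 := hx
      obtain ⟨b, e⟩ := key x (hx ▸ p1)
      rw [e, ← v0] at hx
      exact Subtype.ext (by rw [e, vi hx, v0, v0']; rfl), fun x => by
      obtain ⟨x', hx'⟩ := hs' (π x)
      obtain ⟨z, hz, r, hr, e⟩ := (Solv.mem_sup_of_le_normalizer (H := R) (N := hZ.ker)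
        fun r hr => mem_Ns fun z hz => ⟨mul_mem (mul_mem (h1 hr) hz.1) (inv_mem (h1 hr)), by
          simp only [ha, Prod.fst_mul, hZ.inv (h1 hr), hz.2, add_zero, add_neg_cancel]⟩).1
        (h4 (x := (x, x')) ⟨trivial, sub_eq_zero.2 hx'.symm⟩)
      obtain ⟨b, hb⟩ := (hk _).1 hz.2
      exact ⟨⟨_, mul_mem (h2 ⟨b, rfl⟩) hr⟩, by simpa [← hb] using congrArg Prod.fst e⟩⟩
  refine ⟨((MonoidHom.snd P P').comp R.subtype).comp e.symm.toMonoidHom,
    ((injective_iff_map_eq_one ((MonoidHom.snd P P').comp R.subtype)).2 fun x hx => ?_).comp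
      e.symm.injective⟩
  have hx : x.1.2 = 1 := hx
  obtain ⟨b, e⟩ := key x ((sub_eq_zero.1 (h1 x.2).2).trans (hx ▸ p1'))
  rw [e, ← v0'] at hx
  exact Subtype.ext (by rw [e, vi' hx, v0, v0']; rfl)

omit [Finite F] in
theorem sq_unique {P P' : Type*} [Group P] [Group P'] [Finite P] [Finite P'] {N : Type*}
    [AddCommGroup N] (π : P → N) (π' : P' → N) (v : F → P) (v' : F → P') (Q : N → F)
    (ha : ∀ x y, π (x * y) = π x + π y) (ha' : ∀ x y, π' (x * y) = π' x + π' y)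
    (hs : Function.Surjective π) (hs' : Function.Surjective π')
    (va : ∀ b c, v (b + c) = v b * v c) (va' : ∀ b c, v' (b + c) = v' b * v' c)
    (vi : Function.Injective v) (vi' : Function.Injective v')
    (hk : ∀ x, π x = 0 ↔ ∃ b, x = v b) (hk' : ∀ x, π' x = 0 ↔ ∃ b, x = v' b)
    (sq : ∀ x, x * x = v (Q (π x))) (sq' : ∀ x, x * x = v' (Q (π' x))) : Nonempty (P ≃* P') := by
  obtain ⟨f, hf⟩ := sq_inj_hom π π' v v' Q ha ha' hs' va va' vi vi' hk hk' sq sq'
  obtain ⟨g, hg⟩ := sq_inj_hom π' π v' v Q ha' ha hs va' va vi' vi hk' hk sq' sq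
  exact ⟨.ofBijective f ((Nat.bijective_iff_injective_and_card f).2
    ⟨hf, (Nat.card_le_card_of_injective f hf).antisymm (Nat.card_le_card_of_injective g hg)⟩)⟩

theorem exists_as (two : (2 : F) = 0) {a b : F} (ha : ∀ d, d * d + d ≠ a) (hb : ∀ d, d * d + d ≠ b) :
    ∃ d, d * d + d = a + b := by
  let f : F →+ F := .mk' (fun d => d * d + d) fun x y => by linear_combination x * y * two
  have hk : Nat.card f.ker = 2 := Nat.card_eq_two_iff' (0 : f.ker) |>.2
    ⟨⟨1, by simpa [f, one_add_one_eq_two] using two⟩, by simp [Subtype.ext_iff], fun y hy => by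
      have : y.1 * (y.1 - 1) = 0 := by
        have : y.1 * y.1 + y.1 = 0 := y.2
        linear_combination this - y.1 * two
      exact Subtype.ext (sub_eq_zero.1 ((mul_eq_zero_iff_left (by simpa using hy)).1 this))⟩
  have h1 := f.ker.card_mul_index
  rw [hk, AddSubgroup.index_ker, ← f.range.card_mul_index, mul_comm] at h1
  exact (AddSubgroup.add_mem_iff_of_index_two (Nat.eq_of_mul_eq_mul_left Nat.card_pos h1).symm).2
    (iff_of_false (fun ⟨d, e⟩ => ha d e) fun ⟨d, e⟩ => hb d e)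

theorem Q3.iso {D : Dat G F} (E : Q3 D) {P' : Type*} [Group P'] [Finite P'] {N : Type*}
    [AddCommGroup N] (φ : F × F ≃+ N) (π' : P' → N) (v' : F → P')
    (ha' : ∀ x y, π' (x * y) = π' x + π' y) (hs' : Function.Surjective π')
    (va' : ∀ b c, v' (b + c) = v' b * v' c) (vi' : Function.Injective v')
    (hk' : ∀ x, π' x = 0 ↔ ∃ b, x = v' b)
    (sq' : ∀ x r s, π' x = φ (r, s) → x * x = v' (r * r + r * s + E.ν * (s * s))) :
    Nonempty (E.P ≃* P') :=
  sq_unique (fun x => (E.r x, E.s x)) (fun x => φ.symm (π' x))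
    (fun b => ⟨D.v b, E.V_le (D.v_mem b)⟩) v' (fun a => a.1 * a.1 + a.1 * a.2 + E.ν * (a.2 * a.2))
    (fun x y => Prod.ext (E.r_add _ x.2 _ y.2) (E.s_add _ x.2 _ y.2))
    (fun x y => by rw [ha', map_add])
    (fun a => have ⟨g, hg, h1, h2⟩ := E.surj a.1 a.2; ⟨⟨g, hg⟩, Prod.ext h1 h2⟩)
    (φ.symm.surjective.comp hs') (fun b c => Subtype.ext (D.v_add b c)) va'
    (fun _ _ e => D.v_inj (congrArg Subtype.val e)) vi'
    (fun x => ⟨fun e => have ⟨b, hb⟩ := E.ker _ x.2 (congrArg Prod.fst e) (congrArg Prod.snd e)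
      ⟨b, Subtype.ext hb⟩, by
      rintro ⟨b, rfl⟩
      exact Prod.ext (E.rs_v b).1 (E.rs_v b).2⟩)
    (fun x => by rw [map_eq_zero_iff _ φ.symm.injective, hk'])
    (fun x => Subtype.ext (E.sq _ x.2)) fun x => sq' x _ _ (φ.apply_symm_apply _).symm

theorem Q3.sylow {D : Dat G F} (E : Q3 D) {n : ℕ} (hn : Nat.card F = 2 ^ n) :
    (∃ (K : Type) (_ : Field K) (_ : Fintype K), Fintype.card K = 4 ^ n ∧
      ∃ S : Sylow 2 (PSU 3 K (2 ^ n)), Nonempty (E.P ≃* (S : Subgroup (PSU 3 K (2 ^ n))))) ∨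
    (∃ (K : Type) (_ : Field K) (_ : Fintype K), Fintype.card K = 2 ^ n ∧
      ∃ S : Sylow 2 PSL(3, K), Nonempty (E.P ≃* (S : Subgroup PSL(3, K)))) := by
  have two := D.two
  have h2 : 2 ≤ n := (Nat.pow_le_pow_iff_right one_lt_two).1 (hn ▸ D.big)
  have := Fintype.ofFinite F
  by_cases hν : ∃ d, d * d + d = E.ν
  · obtain ⟨d, hd⟩ := hν
    let K := GaloisField 2 n
    have := Fintype.ofFinite K
    have hK : Fintype.card K = 2 ^ n :=
      Fintype.card_eq_nat_card.trans (GaloisField.card 2 n (by omega))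
    obtain ⟨S⟩ : Nonempty (Sylow 2 PSL(3, K)) := inferInstance
    obtain ⟨u, h, e⟩ := Gomi.exists_hs S (.refl _)
    refine .inr ⟨K, inferInstance, this, hK, S, e ▸ ?_⟩
    let φ := FiniteField.ringEquivOfCardEq ((Fintype.card_eq_nat_card.trans hn).trans hK.symm)
    choose a b c habc using fun g : h.S => h.mem_S.1 g.2
    have hm := fun x y => h.inj ((habc (x * y)).trans (by rw [coe_mul, ← habc, ← habc, h.mul]))
    refine E.iso (AddEquiv.trans ⟨⟨fun p => (p.1 + d * p.2, p.1 + (d + 1) * p.2),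
      fun p => (p.1 + d * (p.1 + p.2), p.1 + p.2),
      fun p => Prod.ext (by linear_combination (d * p.2 + d * p.1 + d * d * p.2) * two)
        (by linear_combination (p.1 + d * p.2) * two),
      fun p => Prod.ext (by linear_combination d * (p.1 + p.2) * two)
        (by linear_combination (p.1 + d * (p.1 + p.2)) * two)⟩,
      fun p q => Prod.ext (by simp; ring) (by simp; ring)⟩ (φ.toAddEquiv.prodCongr φ.toAddEquiv))
      (fun x => (a x, b x)) (fun z => ⟨u 0 0 (φ z), h.mem_S.2 ⟨_, _, _, rfl⟩⟩)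
      (fun x y => Prod.ext (hm x y).1 (hm x y).2.1)
      (fun p => have := h.inj (habc ⟨u p.1 p.2 0, h.mem_S.2 ⟨_, _, _, rfl⟩⟩)
        ⟨_, Prod.ext this.1 this.2.1⟩)
      (fun x y => Subtype.ext (by simp [h.mul]))
      (fun x y e => φ.injective (h.inj (congrArg Subtype.val e)).2.2)
      (fun x => ⟨fun e => ⟨φ.symm (c x), Subtype.ext (by
        rw [← habc, show a x = 0 from congrArg Prod.fst e, show b x = 0 from congrArg Prod.snd e,
          φ.apply_symm_apply])⟩, by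
        rintro ⟨z, rfl⟩
        exact Prod.ext (h.inj (habc _)).1 (h.inj (habc _)).2.1⟩) fun x r s e => Subtype.ext ?_
    rw [coe_mul, ← habc, h.mul, CharTwo.add_self_eq_zero, CharTwo.add_self_eq_zero,
      CharTwo.add_self_eq_zero, zero_add, show a x = φ (r + d * s) from congrArg Prod.fst e,
      show b x = φ (r + (d + 1) * s) from congrArg Prod.snd e, ← map_mul, ← hd]
    congr 2
    linear_combination d * r * s * two
  let K := GaloisField 2 (2 * n)
  have := Fintype.ofFinite K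
  have hK : Fintype.card K = 2 ^ (2 * n) :=
    Fintype.card_eq_nat_card.trans (GaloisField.card 2 _ (by omega))
  have hK' : Fintype.card K = 4 ^ n := by rw [hK, pow_mul]; rfl
  have hB : Bender.IsBender (⊤ : Subgroup (PSU 3 K (2 ^ n))) :=
    .inr (.inr ⟨K, inferInstance, this, n, h2, by rw [hK, ← pow_mul, mul_comm], ⟨topEquiv⟩⟩)
  have := hB.isSimpleGroup
  have hq := isQuasisimple_of_isSimpleGroup hB.not_commutative
  obtain ⟨-, F0, τ, hF0, M, hM⟩ := StdU3.exists_mod' hK' hq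
    (((QuotientGroup.quotientMulEquivOfEq ((IsSimpleGroup.eq_bot_or_eq_top_of_normal _
      inferInstance).resolve_right (IsQuasisimple.center_ne_top hq))).trans
      QuotientGroup.quotientBot).trans topEquiv)
  obtain ⟨S, e⟩ := hM.exists_sylow_eq
  refine .inl ⟨K, inferInstance, inferInstance, hK', S, e ▸ ?_⟩
  have := Fintype.ofFinite F0
  let φ : F ≃+* F0 := FiniteField.ringEquivOfCardEq
    ((Fintype.card_eq_nat_card.trans hn).trans (Fintype.card_eq_nat_card.trans hF0).symm)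
  have hN : ∀ (ω : K) (x y : F0), τ.N (algebraMap F0 K x + y • ω) =
      x * x + x * y * τ.Tr ω + τ.N ω * (y * y) := fun ω x y => by
    rw [τ.N_add, τ.N_alg, τ.N_smul, τ.B_apply, τ.bar_alg, ← Algebra.smul_def, τ.Tr_smul, τ.Tr_smul]
    ring
  obtain ⟨ω, h1, h3⟩ : ∃ ω, τ.Tr ω = 1 ∧ τ.N ω = φ E.ν := by
    obtain ⟨ω, h1⟩ := τ.exists_Tr 1
    obtain ⟨d, hd⟩ := exists_as τ.two (a := τ.N ω) (b := φ E.ν) (fun d hd => by
      have := congrArg τ.Tr (τ.N_eq_zero.1 ((hN ω d 1).trans (by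
        rw [h1, ← hd]
        linear_combination (d * d + d) * τ.two)))
      simp [τ.Tr_add, τ.Tr_alg, h1] at this)
      fun d hd => hν ⟨φ.symm d, φ.injective (by simpa using hd)⟩
    exact ⟨_, by rw [τ.Tr_add, τ.Tr_alg, τ.Tr_smul, h1]; ring, (hN ω d 1).trans (by
      rw [h1]
      linear_combination hd + τ.N ω * τ.two)⟩
  refine E.iso (AddEquiv.ofBijective (AddMonoidHom.mk' (fun p : F × F => algebraMap F0 K (φ p.1) +
      φ p.2 • ω) fun p q => by simp only [Prod.fst_add, Prod.snd_add, map_add, add_smul]; abel)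
      ⟨(injective_iff_map_eq_zero _).2 fun p hp => ?_, fun a => ?_⟩)
    (fun x => M.α x) (fun z => ⟨M.v (φ z), M.v_mem _⟩) (fun x y => M.α_add _ x.2 _ y.2)
    (fun a => have ⟨x, hx, e⟩ := M.α_surj a; ⟨⟨x, hx⟩, e⟩)
    (fun x y => Subtype.ext (by simp [M.v_add]))
    (fun x y e => φ.injective (M.v_inj (congrArg Subtype.val e)))
    (fun x => ⟨fun e => have ⟨b, hb⟩ := M.ker _ x.2 e
      ⟨φ.symm b, Subtype.ext (by simpa using hb)⟩, by
      rintro ⟨z, rfl⟩
      exact M.α_v _⟩) fun x r s e => Subtype.ext ?_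
  · have hp : algebraMap F0 K (φ p.1) + φ p.2 • ω = 0 := hp
    have := congrArg τ.Tr hp
    simp [τ.Tr_add, τ.Tr_alg, τ.Tr_smul, h1] at this
    exact Prod.ext (by simpa [this] using hp) this
  · obtain ⟨x, y, rfl⟩ := τ.exists_coord (h1 ▸ one_ne_zero) a
    exact ⟨(φ.symm x, φ.symm y), by simp⟩
  · rw [coe_mul, M.sq _ x.2, show M.α x = algebraMap F0 K (φ r) + φ s • ω from e, hN, h1, h3]
    simp

end Cfsg.Lib.StdL2
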