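import Cfsg.Agent.StdL2.Base
import Cfsg.Agent.Comp.LocC

/-!
# Standard subgroups of type `L₂(2ᵃ)`: the Sylow 2-subgroup `Z T` at the top of the abelian tower
-/

set_option autoImplicit false
set_option linter.unusedSectionVars false

namespace Cfsg.Lib.StdL2

open Subgroup Cfsg.Lib.Gold Cfsg.Lib.Trans Cfsg.Lib.StdSz
open scoped commutatorElement

variable {G : Type*} [Group G] [Finite G] {F : Type*} [Field F] [Finite F]

theorem TopA.card_le {E C : Subgroup G} (h : Comp.Idx E C) :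
    Nat.card E ≤ 2 * Nat.card (E ⊓ C : Subgroup G) := by
  by_cases e : E ≤ C
  · rw [inf_of_le_left e]; omega
  · exact (Comp.card_of_idx inf_le_left (fun e' => e (e'.trans inf_le_right)) fun x hx y hy h1 h2 =>
      ⟨mul_mem hx hy, h x hx y hy (fun e => h1 ⟨hx, e⟩) fun e => h2 ⟨hy, e⟩⟩).le

namespace Syl

variable {D : Dat G F} (S : Syl D.toMod) {s x y : G}

theorem σ_sq_four (h4 : Nat.card F = 4) (hs : s ∈ S.T) : S.σ s * S.σ s = 1 := by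
  have h1 := S.f_le_two h4
  have h0 : S.f ≠ 0 := index_ne_zero_of_finite
  have h2 : s * s ∈ Cs D.V := by
    obtain e | e : S.f = 1 ∨ S.f = 2 := by omega
    · exact relIndex_eq_one.1 e (mul_mem hs hs)
    · exact mul_self_mem_of_index_two e ⟨s, hs⟩
  rw [← S.σ_mul hs hs, S.σ_eq_one (mul_mem hs hs)]
  exact fun b => mem_Cs.1 h2 _ (D.v_mem b)

theorem sq_of_σ (hs : s ∈ S.T) (h : S.σ s = 1) : s * s = 1 := D.W_sq (S.mem_W hs h)

theorem σ_sq (hs : s ∈ S.T) (h : s * s = 1) : S.σ s * S.σ s = 1 := by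
  rw [← S.σ_mul hs hs, h, S.σ_eq_one (one_mem _)]
  exact fun _ => Commute.one_left _

theorem no_sq0 (hx : x ∈ S.T) (hy : y ∈ S.T) (c : Commute x y) (y4 : y * y * (y * y) = 1)
    (x2 : x * x ≠ 1) (y2 : y * y ≠ 1) (xy : x * y * (x * y) ≠ 1) (h : S.σ x * S.σ x = 1) :
    False := by
  have x1 : S.σ x ≠ 1 := fun e => x2 (S.sq_of_σ hx e)
  have hyy := mul_mem hy hy
  by_cases e : S.σ y * S.σ y = 1
  · refine xy (S.sq_of_σ (mul_mem hx hy) ?_)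
    rw [S.σ_mul hx hy, S.σ_invol hx hy x1 (fun e => y2 (S.sq_of_σ hy e)) h e, e]
  · have := S.sq_of_σ (mul_mem hx hyy) (by
      rw [S.σ_mul hx hyy, S.σ_invol hx hyy x1 (by rwa [S.σ_mul hy hy]) h (S.σ_sq hyy y4),
        S.σ_sq hyy y4])
    rw [(c.mul_right c).symm.mul_mul_mul_comm, y4, mul_one] at this
    exact x2 this

/-- The squares of an abelian subgroup of `T` contain no four-group. -/
theorem no_sq (hx : x ∈ S.T) (hy : y ∈ S.T) (c : Commute x y) (x4 : x * x * (x * x) = 1)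
    (y4 : y * y * (y * y) = 1) (x2 : x * x ≠ 1) (y2 : y * y ≠ 1) (xy : x * y * (x * y) ≠ 1) :
    False := by
  by_cases e1 : S.σ x * S.σ x = 1
  · exact S.no_sq0 hx hy c y4 x2 y2 xy e1
  by_cases e2 : S.σ y * S.σ y = 1
  · exact S.no_sq0 hy hx c.symm x4 y2 x2 (by rwa [← c.eq]) e2
  have hxx := mul_mem hx hx
  have hyy := mul_mem hy hy
  refine S.no_sq0 (mul_mem hx hy) hy (c.mul_left (Commute.refl y)) y4 xy y2 ?_ ?_
  · rwa [mul_assoc x, (c.mul_right c).symm.mul_mul_mul_comm, y4, mul_one]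
  · rw [← S.σ_mul (mul_mem hx hy) (mul_mem hx hy), c.symm.mul_mul_mul_comm, S.σ_mul hxx hyy,
      S.σ_invol hxx hyy (by rwa [S.σ_mul hx hx]) (by rwa [S.σ_mul hy hy]) (S.σ_sq hxx x4)
        (S.σ_sq hyy y4), S.σ_sq hyy y4]

end Syl

namespace Top

variable {D : Dat G F} {Z : Subgroup G} (h : Top D Z) (S : Syl D.toMod) {g s w x y z : G}
include h

theorem v_mem (b : F) : D.v b ∈ Z := by
  obtain ⟨z, hz, e⟩ := h.root b
  exact e ▸ mul_mem hz hz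

theorem V_le : D.V ≤ Z := by rintro _ ⟨b, rfl⟩; exact h.v_mem b

theorem cV (hz : z ∈ Z) (b : F) : Commute z (D.v b) := h.comm z hz _ (h.v_mem b)

theorem t_N : D.t ∈ Ns Z := h.B_le (D.W_le_B (mem_sup_right (mem_zpowers _)))

theorem T_N : S.T ≤ Ns Z := S.le_B.trans h.B_le

theorem h_N (k : Fˣ) : D.h k ∈ Ns Z := h.B_le (D.h_mem_B k)

theorem memZ1 : x ∈ Z ⊔ zpowers D.t ↔ x ∈ Z ∨ D.t * x ∈ Z := StdU3.mem_sup_invol D.t_sq h.t_N

theorem memS : x ∈ Z ⊔ S.T ↔ ∃ z ∈ Z, ∃ s ∈ S.T, z * s = x :=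
  Solv.mem_sup_of_le_normalizer (h.T_N S)

omit h in
theorem t_T : D.t ∈ S.T := S.W_le (mem_sup_right (mem_zpowers _))

theorem W_le : D.W ≤ Z ⊔ zpowers D.t := sup_le_sup_right h.V_le _

omit h in
theorem Z1_le : Z ⊔ zpowers D.t ≤ Z ⊔ S.T := sup_le_sup_left (zpowers_le.2 (t_T S)) _

theorem two_S : IsPGroup 2 (Z ⊔ S.T : Subgroup G) := by
  rw [sup_comm]; exact S.two.to_sup_of_normal_right' h.two (h.T_N S)

theorem Z1_cV (hx : x ∈ Z ⊔ zpowers D.t) (b : F) : Commute x (D.v b) :=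
  StdSz.mem_C1.1 ((sup_le (fun _ hz => StdSz.mem_C1.2 (h.cV hz b))
    (zpowers_le.2 (StdSz.mem_C1.2 (D.t_v b))) : _ ≤ C1 (D.v b)) hx)

theorem act (hz : z ∈ Z) (hs : s ∈ S.T) (b : F) : z * s * D.v b * (z * s)⁻¹ = D.v (S.σ s b) := by
  rw [← conj_eq_of_commute (h.cV hz (S.σ s b)), ← S.act s hs]; group

theorem mem_Z1 (hz : z ∈ Z) (hs : s ∈ S.T) : z * s ∈ Z ⊔ zpowers D.t ↔ S.σ s = 1 :=
  ⟨fun e => (S.σ_eq_one hs).2 fun b => h.Z1_cV ((mul_mem_cancel_left (mem_sup_left hz)).1 e) b,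
    fun e => mul_mem (mem_sup_left hz) (h.W_le (S.mem_W hs e))⟩

theorem mem_Z1_of (hx : x ∈ Z ⊔ S.T) (hc : ∀ b, Commute x (D.v b)) : x ∈ Z ⊔ zpowers D.t := by
  obtain ⟨z, hz, s, hs, rfl⟩ := (h.memS S).1 hx
  exact (h.mem_Z1 S hz hs).2 ((S.σ_eq_one hs).2 fun b => by
    simpa using (h.cV hz b).inv_left.mul_left (hc b))

theorem sq_mem_Z1 (hz : z ∈ Z) (hs : s ∈ S.T) :
    z * s * (z * s) ∈ Z ⊔ zpowers D.t ↔ S.σ s * S.σ s = 1 := by
  rw [show z * s * (z * s) = z * (s * z * s⁻¹) * (s * s) by group, h.mem_Z1 S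
    (mul_mem hz (mem_normalizer_conj (h.T_N S hs) hz)) (mul_mem hs hs), S.σ_mul hs hs]

theorem cent_t (hz : z ∈ Z) (c : Commute z D.t) : z ∈ D.V := by
  obtain ⟨k, hk⟩ := h.two ⟨z, hz⟩
  obtain ⟨b, e | e⟩ := D.mem_W.1 (D.mem_W_of_pow c (h.cV hz) (k := k) (congrArg Subtype.val hk))
  · exact ⟨b, e⟩
  · exact (h.t_not ((mul_mem_cancel_right (h.v_mem b)).1 (e ▸ hz))).elim

theorem cent_tz (hz : z ∈ Z) (hx : D.t * x ∈ Z) (c : Commute z x) : z ∈ D.V :=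
  h.cent_t hz (by simpa using (h.comm z hz _ hx).mul_right c.inv_right)

theorem sq_Z1 (hx : x ∈ Z ⊔ zpowers D.t) : x * x ∈ Z := by
  rcases h.memZ1.1 hx with e | e
  · exact mul_mem e e
  · have := mul_mem (mem_normalizer_conj h.t_N e) e
    rwa [D.tt_mul, D.t_inv, mul_assoc, D.tt_mul] at this

/-- Squaring. -/
def sqH : Z →* G := MonoidHom.mk' (fun z => z * z) fun a b =>
  (h.comm _ b.2 _ a.2).mul_mul_mul_comm _ _

theorem card_eq : Nat.card Z = Nat.card F * Nat.card h.sqH.range := by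
  have h2 : h.sqH.ker = D.V.subgroupOf Z := by
    ext x; exact ⟨fun e => h.omega x x.2 e, fun e => D.V_sq e⟩
  rw [← h.sqH.ker.card_mul_index, index_ker, h2,
    Nat.card_congr (subgroupOfEquivOfLe h.V_le).toEquiv, D.card_V]

theorem card_ge : Nat.card F * Nat.card F ≤ Nat.card Z := by
  rw [h.card_eq]
  refine Nat.mul_le_mul_left _ (D.card_V ▸ Subgroup.card_le_of_le ?_)
  rintro _ ⟨b, rfl⟩
  obtain ⟨z, hz, e⟩ := h.root b
  exact ⟨⟨z, hz⟩, e⟩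

theorem card_S : Nat.card (Z ⊔ S.T : Subgroup G) = Nat.card Z * (2 * S.f) := by
  have h1 := Solv.card_sup_mul_card_inf_of_le_normalizer (h.T_N S)
  have h2 : Z ⊓ S.T = D.V := le_antisymm (fun z hz => h.cent_t hz.1 (S.T_t hz.2))
    (le_inf h.V_le (le_sup_left.trans S.W_le))
  rw [h2, D.card_V, S.card_T] at h1
  exact Nat.eq_of_mul_eq_mul_right (Nat.card_pos (α := F)) (by rw [h1]; ring)

theorem S_v1 : Z ⊔ S.T ≤ C1 (D.v 1) :=
  sup_le (fun _ hz => StdSz.mem_C1.2 (h.cV hz 1)) fun _ hs => StdSz.mem_C1.2 (S.T_v1 hs)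

include S in
theorem not_V (g : G) : g * D.t * g⁻¹ ∉ D.V := by
  rintro ⟨b, e⟩
  have hb : b ≠ 0 := fun e0 => D.t_ne (by rwa [e0, D.v_zero, conj_eq_one_iff] at e)
  obtain ⟨k, hk⟩ := D.exists_h hb one_ne_zero
  have h1 := S.card_le (g := D.h k * g) (h.two_S S) (by
    rw [show D.h k * g * D.t * (D.h k * g)⁻¹ = D.h k * (g * D.t * g⁻¹) * (D.h k)⁻¹ by group, e, hk]
    exact h.S_v1 S)
  have h2 := h.card_ge
  have h3 := D.big
  have h0 : 0 < S.f := Nat.pos_of_ne_zero index_ne_zero_of_finite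
  rw [h.card_S, S.card_T, mul_comm 2 (Nat.card F), mul_assoc] at h1
  have := Nat.le_of_mul_le_mul_right h1 (by omega)
  nlinarith

include S in
theorem not_Z (g : G) : g * D.t * g⁻¹ ∉ Z := fun e =>
  h.not_V S g (h.omega _ e (by rw [conj_sq, D.t_sq]; group))

theorem card_fixV (hy : y ∈ Z ⊔ S.T) (y1 : y ∉ Z ⊔ zpowers D.t) (y2 : y * y ∈ Z ⊔ zpowers D.t)
    {U : Subgroup G} (hU : U ≤ D.V) (hc : ∀ u ∈ U, Commute y u) :
    Nat.card U ^ 2 ≤ Nat.card F := by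
  obtain ⟨z, hz, s, hs, rfl⟩ := (h.memS S).1 hy
  rw [← card_fix D.two (mt (h.mem_Z1 S hz hs).2 y1) ((h.sq_mem_Z1 S hz hs).1 y2)]
  refine Nat.pow_le_pow_left (Nat.card_le_card_of_injective
    (fun u : U => (⟨D.γ u, D.v_inj (by
      rw [← h.act S hz hs, D.v_γ (hU u.2), conj_eq_of_commute (hc u u.2)])⟩ :
      {b : F // S.σ s b = b})) fun u u' e => Subtype.ext ?_) 2
  rw [← D.v_γ (hU u.2), ← D.v_γ (hU u'.2), show D.γ u = D.γ u' from congrArg Subtype.val e]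

theorem mul_mem_Z1 (hx : x ∈ Z ⊔ S.T) (hy : y ∈ Z ⊔ S.T) (x2 : x * x ∈ Z ⊔ zpowers D.t)
    (y2 : y * y ∈ Z ⊔ zpowers D.t) (x1 : x ∉ Z ⊔ zpowers D.t) (y1 : y ∉ Z ⊔ zpowers D.t) :
    x * y ∈ Z ⊔ zpowers D.t := by
  obtain ⟨z, hz, s, hs, rfl⟩ := (h.memS S).1 hx
  obtain ⟨z', hz', s', hs', rfl⟩ := (h.memS S).1 hy
  rw [h.mem_Z1 S hz hs] at x1
  rw [h.mem_Z1 S hz' hs'] at y1
  rw [h.sq_mem_Z1 S hz hs] at x2
  rw [h.sq_mem_Z1 S hz' hs'] at y2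
  rw [show z * s * (z' * s') = z * (s * z' * s⁻¹) * (s * s') by group, h.mem_Z1 S
    (mul_mem hz (mem_normalizer_conj (h.T_N S hs) hz')) (mul_mem hs hs'), S.σ_mul hs hs',
    S.σ_invol hs hs' x1 y1 x2 y2, y2]

/-- Elementary abelian subgroups of `Z T` avoiding the coset `t Z`. -/
theorem elem {E : Subgroup G} (hE : E ≤ Z ⊔ S.T) (h2 : ∀ e ∈ E, e * e = 1)
    (ht : ∀ e ∈ E, D.t * e ∉ Z) : E ≤ D.V ∨
      (Nat.card E ^ 2 ≤ 4 * Nat.card F ∧ ∃ y ∈ E, y ∉ Z ⊔ zpowers D.t) := by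
  have hV : E ⊓ (Z ⊔ zpowers D.t) ≤ D.V := fun e he =>
    h.omega e ((h.memZ1.1 he.2).resolve_right (ht e he.1)) (h2 e he.1)
  by_cases hn : E ≤ Z ⊔ zpowers D.t
  · exact Or.inl ((le_inf le_rfl hn).trans hV)
  obtain ⟨y, hy, y1⟩ := SetLike.not_le_iff_exists.1 hn
  have one : ∀ e ∈ E, e * e ∈ Z ⊔ zpowers D.t := fun e he => h2 e he ▸ one_mem _
  have h3 := h.card_fixV S (hE hy) y1 (one y hy) hV fun u hu => by
    have := h2 _ (mul_mem hy hu.1)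
    rw [Commute, SemiconjBy, ← inv_eq_of_mul_eq_one_right this, mul_inv_rev,
      inv_eq_of_mul_eq_one_right (h2 u hu.1), inv_eq_of_mul_eq_one_right (h2 y hy)]
  have h4 := TopA.card_le (E := E) (C := Z ⊔ zpowers D.t) fun a ha b hb =>
    h.mul_mem_Z1 S (hE ha) (hE hb) (one a ha) (one b hb)
  exact Or.inr ⟨by nlinarith, y, hy, y1⟩

theorem Ns_le_V : Ns (Z ⊔ S.T) ≤ Ns D.V := fun g hg => by
  have hZ : cj g Z ≤ Z ⊔ S.T := (cj_mono g le_sup_left).trans (cj_eq_of_mem_normalizer hg).le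
  have hV := (cj_mono g h.V_le).trans hZ
  have ab : ∀ x ∈ cj g Z, ∀ y ∈ cj g Z, Commute x y := by
    rintro _ ⟨x, hx, rfl⟩ _ ⟨y, hy, rfl⟩; exact commute_conj (h.comm x hx y hy) g
  have rt : ∀ y ∈ cj g D.V, ∃ w ∈ cj g Z, w * w = y := by
    rintro _ ⟨_, ⟨b, rfl⟩, rfl⟩
    obtain ⟨z, hz, e⟩ := h.root b
    exact ⟨_, conj_mem_cj.2 hz, by rw [conj_sq, e]; rfl⟩
  have q4 := D.big
  have ht : ∀ e ∈ cj g D.V, D.t * e ∉ Z := fun e he e1 => by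
    obtain ⟨w, hw, rfl⟩ := rt e he
    have h1 : cj g Z ⊓ Z ≤ D.V := fun z hz => h.cent_tz hz.2 e1 (ab _ hz.1 _ (mul_mem hw hw))
    have h2 := h.card_fixV S (hZ hw)
      (fun e => h.t_not ((mul_mem_cancel_right (h.sq_Z1 e)).1 e1)) (h.memZ1.2 (Or.inr e1)) h1
      fun u hu => ab _ hw _ hu.1
    have h3 := card_mul_relIndex (inf_le_left : cj g Z ⊓ Z ≤ cj g Z)
    have h4 := card_mul_relIndex (le_sup_left : Z ≤ Z ⊔ S.T)
    rw [h.card_S, Nat.mul_right_inj Nat.card_pos.ne'] at h4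
    have h5 : Z.relIndex (cj g Z) ≤ Z.relIndex (Z ⊔ S.T) :=
      relIndex_le_of_le_right hZ index_ne_zero_of_finite
    rw [inf_relIndex_left, card_cj] at h3
    have h6 := h.card_ge
    have h7 : S.f ^ 2 ≤ Nat.card F := S.f_cases.elim (fun e => by rw [e]; omega) (·.2)
    generalize Nat.card (cj g Z ⊓ Z : Subgroup G) = c at h2 h3
    have h8 : Nat.card F * Nat.card F ≤ c * (2 * S.f) := by
      rw [← h4]; exact h6.trans (h3 ▸ Nat.mul_le_mul_left _ h5)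
    nlinarith [Nat.zero_le ((c : ℕ) - S.f), sq_nonneg ((c : ℤ) - S.f)]
  rcases h.elem S hV (by rintro _ ⟨x, hx, rfl⟩; exact Comp.conj_sq (D.V_sq hx) g) ht with
    e | ⟨e, y, hy, y1⟩
  · exact mem_normalizer_of_cj_le e
  · rw [card_cj, D.card_V] at e
    obtain ⟨w, hw, rfl⟩ := rt y hy
    obtain ⟨z, hz, s, hs, rfl⟩ := (h.memS S).1 (hZ hw)
    exact (y1 ((h.sq_mem_Z1 S hz hs).2 (S.σ_sq_four (by nlinarith) hs))).elim

theorem exists_sylow : ∃ P : Sylow 2 G, (P : Subgroup G) = Z ⊔ S.T :=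
  S.sylow_of (h.two_S S) le_sup_right fun g hg => by
    obtain ⟨z, hz, e⟩ := h.term g (mem_Ns fun x hx => h.mem_Z1_of S
      (mem_normalizer_conj hg (Z1_le S hx)) fun b => by
        obtain ⟨c, hc⟩ := mem_normalizer_conj' (h.Ns_le_V S hg) (D.v_mem b)
        have := commute_conj (h.Z1_cV hx c) g
        rwa [← hc, show g * (g⁻¹ * D.v b * g) * g⁻¹ = D.v b by group] at this)
    exact ⟨z, mem_sup_left hz, e⟩

theorem exists_pow_eq (hz : z ∈ Z) {n : ℕ} {c : F} (e : z ^ n = D.v c) (hc : c ≠ 0) {b : F}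
    (hb : b ≠ 0) : ∃ w ∈ Z, w ^ n = D.v b := by
  obtain ⟨k, hk⟩ := D.exists_h hc hb
  exact ⟨_, mem_normalizer_conj (h.h_N k) hz, by rw [conj_pow, e, hk]⟩

/-- The vanishing of the first cohomology of a field involution. -/
theorem h1 (hs : s ∈ S.T) (s1 : S.σ s ≠ 1) (s2 : s * s = 1) (i : ℕ) :
    ∀ z ∈ Z, z ^ 2 ^ i = 1 → s * z * s⁻¹ = z⁻¹ → ∃ w ∈ Z, z = w⁻¹ * (s * w * s⁻¹) := by
  induction i with
  | zero => exact fun z _ e _ => ⟨1, one_mem _, by simpa using e⟩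
  | succ i ih =>
    intro z hz e e1
    obtain ⟨c, hc⟩ := h.omega _ (pow_mem hz (2 ^ i)) (by rw [← pow_add, ← two_mul, ← pow_succ', e])
    by_cases c0 : c = 0
    · exact ih z hz (by rw [hc, c0, D.v_zero]) e1
    obtain ⟨b, hb⟩ := exists_trace D.two s1 (S.σ_sq hs s2) (c := c) (D.v_inj (by
      rw [← S.act s hs, ← hc, ← conj_pow, e1, inv_pow, hc, D.v_inv]))
    obtain ⟨w, hw, e2⟩ := h.exists_pow_eq hz hc c0 (b := b) fun e => c0 (by simpa [e] using hb.symm)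
    have hw' := mem_normalizer_conj (h.T_N S hs) hw
    have hu := mul_mem (inv_mem hw) hw'
    have c1 := h.comm _ (inv_mem hw) _ hw'
    obtain ⟨w', hw1, e3⟩ := ih _ (mul_mem hz (inv_mem hu)) (by
      rw [(h.comm _ hz _ (inv_mem hu)).mul_pow, inv_pow, c1.mul_pow, inv_pow, conj_pow, e2, hc,
        S.act s hs, D.v_inv, ← D.v_add, hb, mul_inv_cancel]) (by
      rw [← conj_mul, e1, ← conj_inv, ← conj_mul, show s * (s * w * s⁻¹) * s⁻¹ =
        s * s * w * (s * s)⁻¹ by group, s2, mul_inv_rev z, inv_inv,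
        (h.comm _ hu _ (inv_mem hz)).eq]
      group)
    refine ⟨w * w', mul_mem hw hw1, ?_⟩
    rw [mul_inv_eq_iff_eq_mul] at e3
    rw [e3, ← conj_mul, mul_assoc w'⁻¹, (h.comm _ (mem_normalizer_conj (h.T_N S hs) hw1) _ hu).eq]
    group

/-- Involutions outside `Z ⟨t⟩` are conjugate into `T`. -/
theorem conj_T (hy : y ∈ Z ⊔ S.T) (y1 : y ∉ Z ⊔ zpowers D.t) (y2 : y * y = 1) :
    ∃ s ∈ S.T, S.σ s ≠ 1 ∧ s * s = 1 ∧ ∃ w, y = w * s * w⁻¹ := by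
  obtain ⟨z, hz, s, hs, rfl⟩ := (h.memS S).1 hy
  have s1 := mt (h.mem_Z1 S hz hs).2 y1
  obtain ⟨b, hb⟩ := S.exists_sq hs s1 ((h.sq_mem_Z1 S hz hs).1 (y2 ▸ one_mem _))
  have hv : D.v b ∈ S.T := S.W_le (mem_sup_left (D.v_mem b))
  have hs' := mul_mem hs hv
  have hz' := mul_mem hz (h.v_mem (S.σ s b))
  have e : z * s = z * D.v (S.σ s b) * (s * D.v b) := by
    rw [← S.act s hs, mul_assoc z, mul_assoc _ s⁻¹, inv_mul_cancel_left, mul_assoc s, D.v_sq,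
      mul_one]
  have s1' : S.σ (s * D.v b) ≠ 1 := fun e1 => y1 (e ▸ (h.mem_Z1 S hz' hs').2 e1)
  rw [e] at y2 ⊢
  generalize z * D.v (S.σ s b) = z at hz' y2
  generalize s * D.v b = s at hs' hb s1' y2
  rw [show z * s * (z * s) = z * (s * z * s⁻¹) * (s * s) by group] at y2
  rcases hb with hb | hb
  · obtain ⟨k, hk⟩ := h.two ⟨z, hz'⟩
    rw [hb, mul_one] at y2
    obtain ⟨w, -, e⟩ := h.h1 S hs' s1' hb k z hz' (congrArg Subtype.val hk)
      (eq_inv_of_mul_eq_one_right y2)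
    exact ⟨s, hs', s1', hb, w⁻¹, by rw [e]; group⟩
  · exact (h.t_not ((mul_mem_cancel_left (mul_mem hz' (mem_normalizer_conj (h.T_N S hs') hz'))).1
      (hb ▸ y2 ▸ one_mem Z))).elim

theorem comm_mem (hx : x ∈ Z ⊔ S.T) (hy : y ∈ Z ⊔ S.T) : ⁅x, y⁆ ∈ Z := by
  obtain ⟨z, hz, s, hs, rfl⟩ := (h.memS S).1 hx
  obtain ⟨z', hz', s', hs', rfl⟩ := (h.memS S).1 hy
  rw [show ⁅z * s, z' * s'⁆ = z * (s * z' * s⁻¹) * ⁅s, s'⁆ * (s' * z⁻¹ * s'⁻¹) * z'⁻¹ by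
    simp only [commutatorElement_def]; group]
  exact mul_mem (mul_mem (mul_mem (mul_mem hz (mem_normalizer_conj (h.T_N S hs) hz'))
    (h.V_le (S.comm_mem hs hs'))) (mem_normalizer_conj (h.T_N S hs') (inv_mem hz))) (inv_mem hz')

theorem nm_comm (hs : s ∈ S.T) (s2 : s * s = 1) (hz : z ∈ Z) : Commute (z * (s * z * s⁻¹)) s := by
  refine (commute_of_conj_eq ?_).symm
  rw [← conj_mul, show s * (s * z * s⁻¹) * s⁻¹ = s * s * z * (s * s)⁻¹ by group, s2,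
    (h.comm _ hz _ (mem_normalizer_conj (h.T_N S hs) hz)).eq]
  group

theorem nm_pow (hs : s ∈ S.T) (hz : z ∈ Z) {n : ℕ} {b : F} (e : z ^ n = D.v b) :
    (z * (s * z * s⁻¹)) ^ n = D.v (b + S.σ s b) := by
  rw [(h.comm _ hz _ (mem_normalizer_conj (h.T_N S hs) hz)).mul_pow, conj_pow, e, S.act s hs,
    D.v_add]

/-- A field involution conjugate to `t` forces `q = 4`. -/
theorem four_of_conj (hs : s ∈ S.T) (s1 : S.σ s ≠ 1) (e : g * D.t * g⁻¹ = s) : Nat.card F = 4 := by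
  have s2 : s * s = 1 := by rw [← e, conj_sq, D.t_sq]; group
  have h1 := card_fix D.two s1 (S.σ_sq hs s2)
  have q4 := D.big
  by_contra hn
  have h3 : 2 < Nat.card {b : F // S.σ s b = b} := by
    by_contra h3
    exact hn (le_antisymm (by nlinarith) q4)
  have := Fintype.ofFinite {b : F // S.σ s b = b}
  rw [Nat.card_eq_fintype_card, Fintype.two_lt_card_iff] at h3
  obtain ⟨⟨c0, e0⟩, ⟨c1, e1⟩, ⟨c2, e2⟩, n1, n2, n3⟩ := h3
  rw [Ne, Subtype.mk.injEq, ← D.add_eq_zeroF] at n1 n2 n3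
  have key : ∀ c, S.σ s c = c → ∃ x ∈ Z ⊓ C1 s, x * x = D.v c := fun c hc => by
    obtain ⟨b, rfl⟩ := exists_trace D.two s1 (S.σ_sq hs s2) hc
    obtain ⟨z, hz, e⟩ := h.root b
    exact ⟨_, ⟨mul_mem hz (mem_normalizer_conj (h.T_N S hs) hz),
      StdSz.mem_C1.2 (h.nm_comm S hs s2 hz)⟩, by
        rw [← pow_two]; exact h.nm_pow S hs hz (by rw [pow_two, e])⟩
  obtain ⟨x, hx, ex⟩ := key (c0 + c1) (by rw [map_add, e0, e1])
  obtain ⟨y, hy, ey⟩ := key (c0 + c2) (by rw [map_add, e0, e2])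
  obtain ⟨g', -, hg⟩ := S.conj_le (g := g) (R := Z ⊓ C1 s) h.two.to_inf_left (e ▸ inf_le_right)
  have c := h.comm x hx.1 y hy.1
  have k : ∀ u : G, g'⁻¹ * u * g' * (g'⁻¹ * u * g') = g'⁻¹ * (u * u) * g'⁻¹⁻¹ := fun u => by group
  refine S.no_sq (mem_cj.1 (hg hx)) (mem_cj.1 (hg hy)) (by simpa using commute_conj c g'⁻¹)
    (by rw [k, conj_sq, ex, D.v_sq]; group) (by rw [k, conj_sq, ey, D.v_sq]; group)
    (by rwa [k, ex, Ne, conj_eq_one_iff, D.v_eq_one]) (by rwa [k, ey, Ne, conj_eq_one_iff, D.v_eq_one])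
    ?_
  rw [show g'⁻¹ * x * g' * (g'⁻¹ * y * g') = g'⁻¹ * (x * y) * g' by group, k,
    c.symm.mul_mul_mul_comm, ex, ey, ← D.v_add, Ne, conj_eq_one_iff, D.v_eq_one]
  exact fun e => n3 (by linear_combination e - c0 * D.two)

end Top

end Cfsg.Lib.StdL2
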