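import Cfsg.Agent.KOS.EvE
import Cfsg.Agent.KOS.OddC
import Cfsg.Agent.Known.CKa
import Cfsg.Agent.Known.FinFieldAut
import Cfsg.Agent.Solv.ElemAb

/-! # Standard subgroups of type `L₂(2ᵃ)`: affine groups with semilinear point stabiliser -/

set_option autoImplicit false

namespace Cfsg.Lib.StdL2

open Subgroup MulAction Cfsg.Lib.KOS Cfsg.Lib.LG4 Cfsg.Lib.Perm

/-- No involution fixes a point if all are conjugate and the degree is a power of two. -/
theorem false_of_one {G Ω : Type*} [Group G] [Finite G] [MulAction G Ω] [FaithfulSMul G Ω]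
    (h : KOS.One G) (ht : ∀ x y : Ω, ∃ g : G, g • x = y) {a : ℕ} (hc : Nat.card Ω = 2 ^ a) {z : G}
    (hz : orderOf z = 2) {x : Ω} (e : z • x = x) : False := by
  obtain ⟨P, hP⟩ := (isPGroup_zpowers (by rw [← sq, ← hz, pow_orderOf_eq_one])).exists_le_sylow
    (P := zpowers z)
  have : Nontrivial P := ⟨⟨⟨z, hP (mem_zpowers z)⟩, 1, fun a => by
    rw [show z = 1 from congrArg Subtype.val a] at hz; simp at hz⟩⟩
  have := P.2.center_nontrivial
  obtain ⟨n, n0, hn⟩ := (P.2.to_subgroup (center P)).nontrivial_iff_card.1 inferInstance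
  obtain ⟨c, hc'⟩ := exists_prime_orderOf_dvd_card' (G := center P) 2 (hn ▸ dvd_pow_self 2 n0.ne')
  replace hc' : orderOf (c.1.1 : G) = 2 := by rwa [orderOf_coe, orderOf_coe]
  obtain ⟨g, hg⟩ := isConj_iff.1 (h _ _ hz hc')
  have : (c.1.1 : G) = 1 := eq_of_smul_eq_smul (α := Ω) fun y => by
    obtain ⟨p, hp, rfl⟩ := Known.CK.tr_sylow P le_top (X := Set.univ)
      (fun x _ y _ => (ht x y).imp fun g e => ⟨trivial, e⟩) (fun _ _ _ _ => trivial)
      (by rwa [Nat.card_congr (Equiv.Set.univ Ω)]) (g • x) trivial y trivial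
    rw [one_smul, smul_smul, ← show p * c.1.1 = c.1.1 * p from
      congrArg Subtype.val (mem_center_iff.1 c.2 ⟨p, hp⟩), mul_smul, ← hg, conj_fix e]
  rw [this] at hc'; simp at hc'

variable {F : Type*} [Field F] [Finite F]

theorem affine (two : (2 : F) = 0) (big : 4 ≤ Nat.card F) (Γ : Subgroup (Equiv.Perm F))
    (aff : ∀ g ∈ Γ, ∀ x y, g (x + y) = g x + g y + g 0)
    (mul : ∀ k : Fˣ, ∃ g ∈ Γ, ∀ x, g x = k * x)
    (semi : ∀ g ∈ Γ, g 0 = 0 → ∃ (k : Fˣ) (σ : F ≃+* F), ∀ x, g x = k * σ x)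
    (ne : ∃ g ∈ Γ, g 0 ≠ 0) :
    (∀ c, ∃ g ∈ Γ, ∀ x, g x = x + c) ∨ (Nat.card F = 8 ∧ (∀ g ∈ Γ, (∀ x, g x = x + g 0) → g = 1) ∧
      (∀ c, ∃ g ∈ Γ, g 0 = c) ∧ ∀ L : F ≃+ F, ∃ g ∈ Γ, ∀ x, g x = L x + g 0) := by
  classical
  replace mul : ∀ k : F, k ≠ 0 → ∃ g ∈ Γ, ∀ x, g x = k * x := fun k hk => mul (Units.mk0 k hk)
  refine or_iff_not_imp_left.2 fun H => ?_
  have nt : ∀ g ∈ Γ, (∀ x, g x = x + g 0) → g = 1 := fun g hg e => by_contra fun g1 => H fun c => by
    have d0 : g 0 ≠ 0 := fun a => g1 (Equiv.ext fun x => by rw [e, a, add_zero]; rfl)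
    by_cases c0 : c = 0
    · exact ⟨1, one_mem _, fun x => by simp [c0]⟩
    obtain ⟨m, hm, e'⟩ := mul _ (div_ne_zero c0 d0)
    refine ⟨_, mul_mem (mul_mem hm hg) (inv_mem hm), fun x => ?_⟩
    rw [Equiv.Perm.mul_apply, Equiv.Perm.mul_apply, e, e', mul_add, ← e', div_mul_cancel₀ _ d0]
    simp
  have tr : ∀ c, ∃ g ∈ Γ, g 0 = c := fun c => by
    obtain ⟨g, hg, d0⟩ := ne
    by_cases c0 : c = 0
    · exact ⟨1, one_mem _, c0.symm⟩
    obtain ⟨m, hm, e'⟩ := mul _ (div_ne_zero c0 d0)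
    exact ⟨_, mul_mem hm hg, by rw [Equiv.Perm.mul_apply, e', div_mul_cancel₀ _ d0]⟩
  have t2 : ∀ a b : F, a ≠ b → ∃ g : Γ, g • (0 : F) = a ∧ g • (1 : F) = b := fun a b e => by
    obtain ⟨g, hg, rfl⟩ := tr a
    obtain ⟨m, hm, e'⟩ := mul (g⁻¹ b) fun a => e (by rw [← a]; simp)
    exact ⟨⟨_, mul_mem hg hm⟩, show g (m 0) = _ by simp [e'], show g (m 1) = _ by simp [e']⟩
  have T : Two Γ F := fun h1 h2 => by
    obtain ⟨g, rfl, rfl⟩ := t2 _ _ h1
    obtain ⟨g', rfl, rfl⟩ := t2 _ _ h2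
    exact ⟨g' * g⁻¹, by simp [mul_smul], by simp [mul_smul]⟩
  have := Fintype.ofFinite F
  have : CharP F 2 := CharTwo.of_one_ne_zero_of_two_eq_zero one_ne_zero two
  obtain ⟨a, ha⟩ : ∃ a : ℕ, Fintype.card F = 2 ^ a := (FiniteField.card F 2).elim fun n h => ⟨n, h.2⟩
  have ha' : Nat.card F = 2 ^ a := Nat.card_eq_fintype_card.trans ha
  have a2 : 2 ≤ a := by_contra fun e => by
    have : a = 0 ∨ a = 1 := by omega
    rcases this with rfl | rfl <;> omega
  have ev : Nat.card F % 4 = 0 := by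
    obtain ⟨b, rfl⟩ := Nat.exists_eq_add_of_le a2
    rw [ha', pow_add]; omega
  have : ∀ g : K2 Γ (0 : F) 1, ∃ σ : RingAut F, ∀ x, σ x = g.1.1 x := fun g => by
    obtain ⟨k, σ, e⟩ := semi _ g.1.2 g.2.1
    have := (e 1).symm.trans g.2.2
    rw [map_one, mul_one] at this
    exact ⟨σ, fun x => by rw [e, this, one_mul]⟩
  choose σ hσ using this
  let φ := MonoidHom.mk' σ fun g h => RingEquiv.ext fun x => by
    rw [hσ]; exact ((hσ g _).trans (congrArg _ (hσ h x))).symm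
  have iφ : Function.Injective φ := fun g h e => Subtype.ext (Subtype.ext (Equiv.ext fun x => by
    rw [← hσ, ← hσ]; exact congrArg (· x) e))
  have := Known.isCyclic_ringAut (F := F)
  have := Known.finite_ringAut (F := F)
  have C : Ce Γ (0 : F) 1 := ⟨⟨T, zero_ne_one, isCyclic_of_injective φ iφ⟩, Nat.even_iff.2 (by omega)⟩
  have T0 : Two (O2 Γ) F := C.two_O2 (by omega)
  have C0 := C.toCy.sub T0
  have Ka : Nat.card (K2 (O2 Γ) (0 : F) 1) ≤ a := by
    rw [Cy.card_sub, ← Known.card_ringAut ha]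
    exact (card_le_of_le inf_le_left).trans (Nat.card_le_card_of_injective φ iφ)
  rcases Nat.even_or_odd (Nat.card (K2 (O2 Γ) (0 : F) 1)) with hD | hD
  · obtain ⟨⟨z, hz⟩, e⟩ := exists_prime_orderOf_dvd_card' 2 hD.two_dvd
    replace e : orderOf z = 2 := (orderOf_coe _).trans e
    exact (false_of_one (one_aux _ _ _ _ _ z rfl ⟨⟨C0, C.even⟩, ev, ni_O2, hz,
      by rw [← sq, ← e, pow_orderOf_eq_one], fun a => by simp [a] at e⟩) (T0.trans) ha' e hz.1).elim
  let L : Γ → F ≃+ F := fun g => ⟨g.1.trans (Equiv.addRight (g.1 0)), fun x y => by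
    simp only [Equiv.toFun_as_coe, Equiv.trans_apply, Equiv.coe_addRight, aff _ g.2]; ring⟩
  have hL : ∀ g x, L g x = g.1 x + g.1 0 := fun _ _ => rfl
  rcases Od.cases ⟨C0, C.even, hD⟩ with ⟨R, hR, h2⟩ | hB
  · let ψ : Γ →* Equiv.Perm F := MonoidHom.mk' (fun g => (L g).toEquiv) fun g h =>
      Equiv.ext fun x => show L (g * h) x = L g (L h x) by
        rw [hL, hL, hL, aff _ g.2]
        change g.1 (h.1 x) + g.1 (h.1 0) = _
        linear_combination (exp := 1) -g.1 0 * two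
    have hp : IsPGroup 2 R := fun r => ⟨1, Subtype.ext (by simpa [sq] using (h2 r).1 r.2)⟩
    obtain ⟨b, hb, b0⟩ := (hp.map (ψ.comp (O2 Γ).subtype)).exists_fixed_point_of_prime_dvd_card_of_fixed_point
      F (by omega) (a := 0) (by rintro ⟨_, r, -, rfl⟩; exact map_zero (L r))
    obtain ⟨r, hr, e⟩ := hR.trans 0 1
    refine (zero_ne_one (α := F) ?_).elim
    rw [← e, show r = 1 from Subtype.ext (Subtype.ext (nt _ r.1.2 fun x => ?_)), one_smul]
    by_cases x0 : x = 0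
    · simp [x0]
    obtain ⟨m, hm, e'⟩ := mul _ (div_ne_zero x0 b0.symm)
    have o : Odd (orderOf (⟨m, hm⟩ : Γ)) := by
      have p : ∀ n y, (m ^ n) y = (x / b) ^ n * y := fun n => by
        induction n with
        | zero => simp
        | succ n ih => intro y; rw [pow_succ, Equiv.Perm.mul_apply, ih, e', pow_succ, mul_assoc]
      refine Odd.of_dvd_nat (n := Fintype.card F - 1) ?_ (orderOf_dvd_of_pow_eq_one
        (Subtype.ext (Equiv.ext fun y => (p _ y).trans ?_)))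
      · rw [← Nat.card_eq_fintype_card, Nat.odd_iff]; omega
      · rw [FiniteField.pow_card_sub_one_eq_one _ (div_ne_zero x0 b0.symm), one_mul]; rfl
    have : m⁻¹ (r.1.1 (m b)) + m⁻¹ (r.1.1 (m 0)) = b :=
      hb ⟨_, _, hR.normal.conj_mem' r hr ⟨_, mem_O2 o⟩, rfl⟩
    have := congrArg m this
    rw [e', mul_add, ← e', ← e', e' b, e' 0, div_mul_cancel₀ _ b0.symm, mul_zero] at this
    simp only [Equiv.Perm.coe_inv, Equiv.apply_symm_apply] at this
    linear_combination this - r.1.1 0 * two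
  have iL : Function.Injective L := fun g h e => by
    have e : ∀ x, g.1 x + g.1 0 = h.1 x + h.1 0 := fun x => congrArg (· x) e
    have k : ∀ y, (g * h⁻¹).1 y = y + (g.1 0 + h.1 0) := fun y => by
      have := e (h.1⁻¹ y)
      simp only [Equiv.Perm.coe_inv, Equiv.apply_symm_apply] at this
      change g.1 (h.1.symm y) = _
      linear_combination (exp := 1) this - g.1 0 * two
    exact mul_inv_eq_one.1 (Subtype.ext (nt _ (g * h⁻¹).2 fun y => by rw [k, k, zero_add]))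
  have : Solv.ElemAb 2 (Multiplicative F) := ⟨mul_comm, fun a => by
    rw [sq]; exact CharTwo.add_self_eq_zero a.toAdd⟩
  have cA := (Nat.card_congr AddEquiv.toMultiplicative).trans
    (Solv.Vec.card_mulAut (V := Multiplicative F) ha')
  have : Finite (F ≃+ F) := DFunLike.finite _
  have c1 := (card_le_card_group (O2 Γ)).trans (Nat.card_le_card_of_injective L iL)
  have c2 := hB.card
  have c3 : _ = _ * (_ * Nat.card (K2 (O2 Γ) (0 : F) 1)) := T0.card_group (zero_ne_one (α := F))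
  have a3 : a < 4 := by_contra fun e => by
    obtain ⟨b, rfl⟩ := Nat.exists_eq_add_of_le (not_lt.1 e)
    have := b.lt_two_pow_self
    rw [ha', pow_add] at c2
    omega
  have : a = 2 ∨ a = 3 := by omega
  rcases this with rfl | rfl
  · rw [cA, c3, ha', show Nat.card (K2 (O2 Γ) (0 : F) 1) = 1 by omega] at c1
    exact absurd c1 (by decide)
  refine ⟨ha', nt, tr, fun L' => ?_⟩
  obtain ⟨g, rfl⟩ := (iL.bijective_of_nat_card_le ((card_le_card_group (O2 Γ)).trans' (by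
    rw [cA, c3, ha', show Nat.card (K2 (O2 Γ) (0 : F) 1) = 3 by omega]; decide))).2 L'
  exact ⟨g, g.2, fun x => by rw [hL]; linear_combination -g.1 0 * two⟩

end Cfsg.Lib.StdL2
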