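import Cfsg.Agent.StdL2.Base
import Cfsg.Agent.StdL2.Ex0M

/-! Standard subgroups of type `L₂(8)`: the case `U = V`, `x₁ ^ 2 = 1`. -/

set_option autoImplicit false

namespace Cfsg.Lib.StdL2

open Subgroup Cfsg.Lib.Gold Cfsg.Lib.Trans Cfsg.Lib.StdSz

variable {G : Type*} [Group G] [Finite G] {F : Type*} [Field F] [Finite F]

namespace Ex0

theorem p4_def {G : Type*} [Group G] (a b c d : G) (i j k l : Z2) :
    p4 a b c d (i, j, k, l) = pw i a * (pw j b * (pw k c * pw l d)) := rfl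

theorem p3_def {G : Type*} [Group G] (a b c : G) (i j k : Z2) :
    p3 a b c (i, j, k) = pw i a * (pw j b * pw k c) := rfl

/-- `g` acts on the coordinates `ρ` by `A`. -/
def Act {G N : Type*} [Group G] (ρ : N → G) (g : G) (A : N → N) : Prop :=
  ∀ x, g * ρ x * g⁻¹ = ρ (A x)

section
omit [Finite G]
variable {N : Type*} {ρ : N → G} {g h : G} {A B : N → N}

theorem Act.mul (h1 : Act ρ g A) (h2 : Act ρ h B) : Act ρ (g * h) fun x => A (B x) := fun x => by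
  rw [← h1, ← h2]; group

theorem Act.pow (h1 : Act ρ g A) : ∀ n : ℕ, Act ρ (g ^ n) A^[n]
  | 0 => fun x => by simp
  | n + 1 => fun x => by
    rw [pow_succ, ((h1.pow n).mul h1) x]; rfl

theorem Act.eq (hi : Function.Injective ρ) (h1 : Act ρ g A) (h2 : Act ρ g B) (x : N) : A x = B x :=
  hi ((h1 x).symm.trans (h2 x))

theorem Act.eq_id (hi : Function.Injective ρ) (h1 : Act ρ g A) (h2 : ∀ x, Commute g (ρ x)) (x : N) :
    A x = x := hi ((h1 x).symm.trans (conj_eq_of_commute (h2 x)))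

theorem Act.congr (h1 : Act ρ g A) (e : ∀ x, B x = A x) : Act ρ g B := fun x => by rw [e, h1]

end

variable {D : Dat G F} {X A : Subgroup G} (E : Ex1 D X)

/-- Coordinates on the elementary subgroup of order 16. -/
def ph (x : V4) : G := p4 (D.v E.e1) (D.v E.e2) E.x1 E.x2 x

/-- Coordinates on `S ∩ X`. -/
def ps (p : Mo) : G := ph E p.1 * (pw p.2.1 (D.v E.e3) * pw p.2.2 E.w)

/-- Coordinates on `V`. -/
def ch (y : V3) : F := l3 E.e1 E.e2 E.e3 y

omit [Finite G] [Finite F]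

theorem ph_def (i j k l : Z2) :
    ph E (i, j, k, l) = pw i (D.v E.e1) * (pw j (D.v E.e2) * (pw k E.x1 * pw l E.x2)) := rfl

theorem ph_zero : ph E 0 = 1 := by
  change ph E (0, 0, 0, 0) = 1
  simp only [ph_def, pw_zero, mul_one]

theorem w_inv : E.w⁻¹ = E.w := inv_eq_of_mul_eq_one_right E.w_sq

theorem ww (x : G) : E.w * (E.w * x) = x := by rw [← mul_assoc, E.w_sq, one_mul]

theorem w_e2 : E.w * D.v E.e2 * E.w = D.v E.e1 := by
  rw [← E.w_e1]; simp only [mul_assoc, ww, E.w_sq, mul_one]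

theorem w_x2 : E.w * E.x2 * E.w = E.x1 := by
  rw [← E.w_x1]; simp only [mul_assoc, ww, E.w_sq, mul_one]

theorem x2_eq : E.x2 = E.w * E.x1 * E.w⁻¹ := by rw [w_inv, E.w_x1]

theorem x2_e1 : Commute E.x2 (D.v E.e1) := by
  have := commute_conj E.x1_e2 E.w
  rwa [← x2_eq, w_inv, w_e2] at this

theorem x2_e2 : Commute E.x2 (D.v E.e2) := by
  have := commute_conj E.x1_e1 E.w
  rwa [← x2_eq, w_inv, E.w_e1] at this

theorem x2_e3 : E.x2 * D.v E.e3 * E.x2⁻¹ = D.v (E.e3 + E.e2) := by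
  have h1 := conj_eq_of_commute E.w_e3
  have h2 : E.w * D.v E.e1 * E.w⁻¹ = D.v E.e2 := by rw [w_inv, E.w_e1]
  calc E.x2 * D.v E.e3 * E.x2⁻¹
      = E.x2 * (E.w * D.v E.e3 * E.w⁻¹) * E.x2⁻¹ := by rw [h1]
    _ = E.w * (E.x1 * D.v E.e3 * E.x1⁻¹) * E.w⁻¹ := by rw [x2_eq]; group
    _ = E.w * D.v E.e3 * E.w⁻¹ * (E.w * D.v E.e1 * E.w⁻¹) := by rw [E.x1_e3, D.v_add]; group
    _ = _ := by rw [h1, h2, D.v_add]

theorem v_mem (b : F) : D.v b ∈ (E.S : Subgroup G) ⊓ X :=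
  ⟨E.le_S (mem_sup_left (D.v_mem b)), E.U_X (D.v_mem b)⟩

theorem t_mem : D.t ∈ (E.S : Subgroup G) := E.le_S (mem_sup_right (mem_zpowers _))

theorem x2_mem : E.x2 ∈ (E.S : Subgroup G) ⊓ X := by
  rw [← E.w_x1]; exact mul_mem (mul_mem E.w_mem E.x1_mem) E.w_mem

theorem pw_mem {H : Subgroup G} {g : G} (h : g ∈ H) (c : Z2) : pw c g ∈ H := by
  rcases cases2 c with rfl | rfl
  exacts [H.one_mem, h]

theorem ph_mem (x : V4) : ph E x ∈ (E.S : Subgroup G) ⊓ X :=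
  mul_mem (pw_mem (v_mem E _) _) (mul_mem (pw_mem (v_mem E _) _)
    (mul_mem (pw_mem E.x1_mem _) (pw_mem (x2_mem E) _)))

theorem ps_mem (p : Mo) : ps E p ∈ (E.S : Subgroup G) ⊓ X :=
  mul_mem (ph_mem E _) (mul_mem (pw_mem (v_mem E _) _) (pw_mem E.w_mem _))

theorem ch_add (x y : V3) : ch E (x + y) = ch E x + ch E y := l3_add D.addF _ _ _ x y

theorem v_ch (y : V3) : D.v (ch E y) = p3 (D.v E.e1) (D.v E.e2) (D.v E.e3) y :=
  map_l3 D.v_zero D.v_add _ _ _ y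

theorem ch_def (i j k : Z2) : ch E (i, j, k) = sa i E.e1 + (sa j E.e2 + sa k E.e3) := rfl

theorem ch_surj : Function.Surjective (ch E) := by
  intro b
  rcases E.span b with h | h | h | h | h | h | h | h
  · exact ⟨(0, 0, 0), by simp only [ch_def, sa_zero, h, add_zero]⟩
  · exact ⟨(1, 0, 0), by simp only [ch_def, sa_zero, sa_one, h, add_zero]⟩
  · exact ⟨(0, 1, 0), by simp only [ch_def, sa_zero, sa_one, h, add_zero, zero_add]⟩
  · exact ⟨(1, 1, 0), by simp only [ch_def, sa_zero, sa_one, h, add_zero]⟩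
  · exact ⟨(0, 0, 1), by simp only [ch_def, sa_zero, sa_one, h, zero_add]⟩
  · exact ⟨(1, 0, 1), by simp only [ch_def, sa_zero, sa_one, h]; abel⟩
  · exact ⟨(0, 1, 1), by simp only [ch_def, sa_zero, sa_one, h]; abel⟩
  · exact ⟨(1, 1, 1), by simp only [ch_def, sa_one, h]; abel⟩

theorem ch_bij : Function.Bijective (ch E) :=
  (ch_surj E).bijective_of_nat_card_le (by rw [E.exc.eight, Nat.card_eq_fintype_card]; decide)

theorem vch_inj : Function.Injective fun y => D.v (ch E y) := D.v_inj.comp (ch_bij E).1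

theorem ch_zero : ch E 0 = 0 := by
  change ch E (0, 0, 0) = 0
  simp only [ch_def, sa_zero, add_zero]

theorem act3 {g : G} {m1 m2 m3 : V3} (h1 : g * D.v E.e1 * g⁻¹ = D.v (ch E m1))
    (h2 : g * D.v E.e2 * g⁻¹ = D.v (ch E m2)) (h3 : g * D.v E.e3 * g⁻¹ = D.v (ch E m3)) :
    Act (fun y => D.v (ch E y)) g (l3 m1 m2 m3) := fun x => by
  refine Eq.trans ?_ (map_l3 (ρ := fun y => D.v (ch E y)) (by simp only [ch_zero, D.v_zero])
    (fun x y => by simp only [ch_add, D.v_add]) m1 m2 m3 x).symm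
  simp only [← h1, ← h2, ← h3]
  simp only [v_ch, conj_p3]

theorem ph_v (i j : Z2) : ph E (i, j, 0, 0) = D.v (ch E (i, j, 0)) := by
  simp only [ph_def, v_ch, p3_def, pw_zero, mul_one]

theorem ph_b : ph E (0, 0, 1, 1) = E.x1 * E.x2 := by
  simp only [ph_def, pw_zero, pw_one, one_mul]

theorem act_b : Act (fun y => D.v (ch E y)) (ph E (0, 0, 1, 1)) aB := by
  rw [ph_b]
  refine (act3 E ?_ ?_ ?_).congr lin_aB
  · rw [conj_eq_of_commute (E.x1_e1.mul_left (x2_e1 E))]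
    simp only [ch_def, sa_zero, sa_one, add_zero]
  · rw [conj_eq_of_commute (E.x1_e2.mul_left (x2_e2 E))]
    simp only [ch_def, sa_zero, sa_one, add_zero, zero_add]
  · calc E.x1 * E.x2 * D.v E.e3 * (E.x1 * E.x2)⁻¹
        = E.x1 * (E.x2 * D.v E.e3 * E.x2⁻¹) * E.x1⁻¹ := by group
      _ = E.x1 * D.v E.e3 * E.x1⁻¹ * (E.x1 * D.v E.e2 * E.x1⁻¹) := by rw [x2_e3, D.v_add]; group
      _ = _ := by
        rw [E.x1_e3, conj_eq_of_commute E.x1_e2, ← D.v_add]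
        simp only [ch_def, sa_one]
        congr 1; abel

variable (h : E.x1 * E.x1 = 1)
include h

theorem x2_sq : E.x2 * E.x2 = 1 := by rw [x2_eq, conj_sq, h]; simp

theorem ph_add (x y : V4) : ph E (x + y) = ph E x * ph E y :=
  p4_add (D.v_sq _) (D.v_sq _) h (x2_sq E h) (D.v_comm _ _) E.x1_e1.symm (x2_e1 E).symm
    E.x1_e2.symm (x2_e2 E).symm E.comm x y

theorem ph_comm (x y : V4) : Commute (ph E x) (ph E y) := by
  rw [Commute, SemiconjBy, ← ph_add E h, ← ph_add E h, add_comm]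

theorem ph_sq (x : V4) : ph E x * ph E x = 1 := by
  rw [← ph_add E h, (by decide : ∀ x : V4, x + x = 0), ph_zero]

theorem act4 {g : G} {m0 m1 m2 m3 : V4} (h0 : g * D.v E.e1 * g⁻¹ = ph E m0)
    (h1 : g * D.v E.e2 * g⁻¹ = ph E m1) (h2 : g * E.x1 * g⁻¹ = ph E m2)
    (h3 : g * E.x2 * g⁻¹ = ph E m3) : Act (ph E) g (l4 m0 m1 m2 m3) := fun x => by
  rw [map_l4 (ph_zero E) (ph_add E h), ← h0, ← h1, ← h2, ← h3]
  exact conj_p4 _ _ _ _ _ _

theorem act_v : Act (ph E) (D.v E.e3) aV := by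
  have key : ∀ {x : G} {c : F}, x * x = 1 → Commute x (D.v c) →
      x * D.v E.e3 * x⁻¹ = D.v (E.e3 + c) → D.v E.e3 * x * (D.v E.e3)⁻¹ = D.v c * x := by
    intro x c h1 h2 h3
    have h4 : x * D.v E.e3 = D.v E.e3 * D.v c * x := by rw [← D.v_add, ← h3]; group
    rw [D.v_inv, mul_assoc, h4, ← mul_assoc, ← mul_assoc, D.v_sq, one_mul]
  refine (act4 E h ?_ ?_ ?_ ?_).congr lin_aV
  · simp only [conj_eq_of_commute (D.v_comm _ _), ph_def, pw_zero, pw_one, mul_one]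
  · simp only [conj_eq_of_commute (D.v_comm _ _), ph_def, pw_zero, pw_one, mul_one, one_mul]
  · simp only [key h E.x1_e1 E.x1_e3, ph_def, pw_zero, pw_one, mul_one, one_mul]
  · simp only [key (x2_sq E h) (x2_e2 E) (x2_e3 E), ph_def, pw_zero, pw_one, one_mul]

theorem act_w : Act (ph E) E.w aW := by
  refine (act4 E h ?_ ?_ ?_ ?_).congr lin_aW
  · simp only [w_inv, E.w_e1, ph_def, pw_zero, pw_one, mul_one, one_mul]
  · simp only [w_inv, w_e2, ph_def, pw_zero, pw_one, mul_one]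
  · simp only [w_inv, E.w_x1, ph_def, pw_zero, pw_one, one_mul]
  · simp only [w_inv, w_x2, ph_def, pw_zero, pw_one, mul_one, one_mul]

theorem act_t : ∃ ε, Act (ph E) D.t (aT ε) := by
  have h0 : D.t * D.v E.e1 * D.t⁻¹ = ph E (1, 0, 0, 0) := by
    simp only [conj_eq_of_commute (D.t_v _), ph_def, pw_zero, pw_one, mul_one]
  have h1 : D.t * D.v E.e2 * D.t⁻¹ = ph E (0, 1, 0, 0) := by
    simp only [conj_eq_of_commute (D.t_v _), ph_def, pw_zero, pw_one, mul_one, one_mul]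
  rcases E.t_x with ⟨a, b⟩ | ⟨a, b⟩
  · refine ⟨0, (act4 E h h0 h1 ?_ ?_).congr lin_aT0⟩
    · simp only [D.t_inv, a, ph_def, pw_zero, pw_one, mul_one, one_mul, E.x1_e2.eq]
    · simp only [D.t_inv, b, ph_def, pw_zero, pw_one, one_mul, D.v_add,
        ((x2_e1 E).mul_right (x2_e2 E)).eq, mul_assoc]
  · refine ⟨1, (act4 E h h0 h1 ?_ ?_).congr lin_aT1⟩
    · simp only [D.t_inv, a, ph_def, pw_zero, pw_one, mul_one, D.v_add,
        (E.x1_e1.mul_right E.x1_e2).eq, mul_assoc]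
    · simp only [D.t_inv, b, ph_def, pw_zero, pw_one, one_mul, (x2_e1 E).eq]

theorem act_a (i : Z2 × Z2) : Act (ph E) (pw i.1 (D.v E.e3) * pw i.2 E.w) (aA i) := by
  obtain ⟨i, j⟩ := i
  rcases cases2 i with rfl | rfl <;> rcases cases2 j with rfl | rfl
  · intro x; change 1 * 1 * _ * (1 * 1)⁻¹ = ph E x; simp
  · intro x; change 1 * E.w * _ * (1 * E.w)⁻¹ = ph E (aW x); rw [one_mul, act_w E h]
  · intro x; change D.v E.e3 * 1 * _ * (D.v E.e3 * 1)⁻¹ = ph E (aV x); rw [mul_one, act_v E h]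
  · exact (act_v E h).mul (act_w E h)

theorem act_ph (y : V4) : Act (ph E) (ph E y) id := fun x => conj_eq_of_commute (ph_comm E h y x)

theorem act_ps (p : Mo) : Act (ph E) (ps E p) (aA p.2) := (act_ph E h p.1).mul (act_a E h p.2)

theorem ph_inj : Function.Injective (ph E) := by
  have k1 : ∀ i j : Z2, ph E (i, j, 0, 0) = 1 → i = 0 ∧ j = 0 := by
    intro i j e
    rw [ph_v, ← D.v_zero, ← ch_zero E] at e
    have := vch_inj E e
    exact ⟨congrArg (·.1) this, congrArg (·.2.1) this⟩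
  have k2 : ∀ x, ph E x = 1 → x = 0 := by
    rintro ⟨i, j, k, l⟩ e
    have e1 : ph E (aV (i, j, k, l) + (i, j, k, l)) = 1 := by
      rw [ph_add E h, ← act_v E h, e]; simp
    rw [(by decide : ∀ i j k l : Z2, aV (i, j, k, l) + (i, j, k, l) = (k, l, 0, 0))] at e1
    obtain ⟨rfl, rfl⟩ := k1 k l e1
    obtain ⟨rfl, rfl⟩ := k1 i j e
    rfl
  intro x y e
  have := k2 (x + y) (by rw [ph_add E h, e, ph_sq E h])
  exact (by decide : ∀ x y : V4, x + y = 0 → x = y) x y this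

theorem ps_mul (p q : Mo) : ps E (mm p q) = ps E p * ps E q := by
  change ph E (p.1 + aA p.2 q.1) * (pw (p.2.1 + q.2.1) _ * pw (p.2.2 + q.2.2) _) =
    ph E p.1 * _ * (ph E q.1 * _)
  rw [ph_add E h, ← act_a E h, pw_add (D.v_sq _), pw_add E.w_sq,
    (comm_pw (comm_pw E.w_e3 _).symm _).mul_mul_mul_comm]
  group

theorem ps_inj : Function.Injective (ps E) := by
  rintro ⟨x, i⟩ ⟨y, j⟩ e
  obtain rfl : i = j := aA_inj i j ((act_ps E h (x, i)).eq (ph_inj E h) (e ▸ act_ps E h (y, j)))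
  rw [ph_inj E h (mul_right_cancel e : ph E x = ph E y)]

/-- The elementary subgroup of order 16. -/
def Fx : Subgroup G where
  carrier := Set.range (ph E)
  mul_mem' := by rintro _ _ ⟨x, rfl⟩ ⟨y, rfl⟩; exact ⟨x + y, ph_add E h x y⟩
  one_mem' := ⟨0, ph_zero E⟩
  inv_mem' := by rintro _ ⟨x, rfl⟩; exact ⟨x, (inv_eq_of_mul_eq_one_right (ph_sq E h x)).symm⟩

theorem mem_Fx {g : G} : g ∈ Fx E h ↔ ∃ x, ph E x = g := Iff.rfl

theorem ph_Fx (x : V4) : ph E x ∈ Fx E h := ⟨x, rfl⟩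

theorem exists_act {g : G} (hg : g ∈ Ns (Fx E h)) :
    ∃ m0 m1 m2 m3, Act (ph E) g (l4 m0 m1 m2 m3) := by
  have k : ∀ x, ∃ m, g * ph E x * g⁻¹ = ph E m := fun x => by
    obtain ⟨m, e⟩ := (mem_normalizer_iff.1 hg _).1 (ph_Fx E h x)
    exact ⟨m, e.symm⟩
  obtain ⟨m0, h0⟩ := k (1, 0, 0, 0)
  obtain ⟨m1, h1⟩ := k (0, 1, 0, 0)
  obtain ⟨m2, h2⟩ := k (0, 0, 1, 0)
  obtain ⟨m3, h3⟩ := k (0, 0, 0, 1)
  simp only [ph_def, pw_zero, pw_one, mul_one, one_mul] at h0 h1 h2 h3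
  exact ⟨_, _, _, _, act4 E h h0 h1 h2 h3⟩

variable [Finite G] [Finite F]

theorem ps_surj {s : G} (hs : s ∈ (E.S : Subgroup G) ⊓ X) : ∃ p, ps E p = s := by
  have h1 := card_mul_relIndex (inf_le_left : (E.S : Subgroup G) ⊓ X ≤ E.S)
  rw [E.card, D.card_V, E.exc.eight] at h1
  have h2 : ((E.S : Subgroup G) ⊓ X).relIndex E.S ≠ 1 := fun e =>
    E.t_X (relIndex_eq_one.1 e (t_mem E)).2
  have h3 : Nat.card ((E.S : Subgroup G) ⊓ X : Subgroup G) ≤ 64 := by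
    rcases hr : ((E.S : Subgroup G) ⊓ X).relIndex E.S with _ | _ | n
    · rw [hr] at h1; omega
    · exact absurd hr h2
    · rw [hr] at h1; nlinarith
  have hi : Function.Injective fun p => (⟨ps E p, ps_mem E p⟩ : ((E.S : Subgroup G) ⊓ X : Subgroup G)) :=
    fun p q e => ps_inj E h (congrArg Subtype.val e)
  obtain ⟨p, e⟩ := (hi.bijective_of_nat_card_le
    (by rw [Nat.card_eq_fintype_card (α := Mo)]; exact h3.trans (by decide))).2 ⟨s, hs⟩
  exact ⟨p, congrArg Subtype.val e⟩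

theorem sq_Fx {s : G} (hs : s ∈ (E.S : Subgroup G) ⊓ X) : s * s ∈ Fx E h := by
  obtain ⟨p, rfl⟩ := ps_surj E h hs
  refine ⟨(mm p p).1, ?_⟩
  rw [← ps_mul E h]
  change _ = _ * (pw (p.2.1 + p.2.1) _ * pw (p.2.2 + p.2.2) _)
  rw [(by decide : ∀ x : Z2, x + x = 0), (by decide : ∀ x : Z2, x + x = 0)]
  simp only [pw_zero, mul_one]

theorem mem_Ns_Fx {m : G} (hm : ∀ x, m * ph E x * m⁻¹ ∈ (E.S : Subgroup G) ⊓ X) :
    m ∈ Ns (Fx E h) := by
  choose π hπ using fun x => ps_surj E h (hm x)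
  have h0 : ps E 0 = 1 := by
    change ph E 0 * (1 * 1) = 1
    simp only [ph_zero, mul_one]
  refine mem_Ns ?_
  rintro _ ⟨x, rfl⟩
  have k1 : ∀ y, mm (π y) (π y) = 0 := fun y => ps_inj E h (by
    rw [ps_mul E h, hπ, conj_sq, ph_sq E h, h0]; simp)
  by_cases e : (π x).2 = 0
  · refine ⟨(π x).1, ?_⟩
    rw [← hπ]
    change _ = _ * (pw (π x).2.1 _ * pw (π x).2.2 _)
    rw [e]
    exact (mul_one _).symm.trans (congrArg _ (mul_one _).symm)
  · exfalso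
    refine absurd (uniq _ (k1 x) e) (not_lt.2 ?_)
    refine le_trans (by decide : 16 ≤ (Finset.univ : Finset V4).card)
      (Finset.card_le_card_of_injOn π (fun y _ => ?_) fun y _ y' _ e' => ?_)
    · refine Finset.mem_coe.2 (Finset.mem_filter.2 ⟨Finset.mem_univ _, k1 y, ps_inj E h ?_⟩)
      rw [ps_mul E h, ps_mul E h, hπ, hπ]
      exact (commute_conj (ph_comm E h y x) m).eq
    · have : m * ph E y * m⁻¹ = m * ph E y' * m⁻¹ := by rw [← hπ, ← hπ, e']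
      exact ph_inj E h (mul_left_cancel (mul_right_cancel this))

variable (a : Amb D.toMod X A)
include a

theorem act_S {s : G} (hs : s ∈ (E.S : Subgroup G)) :
    (s ∈ X ∨ ¬ ∀ x, Commute s (ph E x)) ∧ ∃ B, Act (ph E) s B ∧ B (1, 1, 0, 0) = (1, 1, 0, 0) := by
  have k : ∀ i, aA i (1, 1, 0, 0) = (1, 1, 0, 0) := by decide
  rcases a.gen s with h1 | h1
  · obtain ⟨p, rfl⟩ := ps_surj E h ⟨hs, h1⟩
    exact ⟨.inl h1, _, act_ps E h p, k _⟩
  · obtain ⟨p, e⟩ := ps_surj E h ⟨mul_mem (t_mem E) hs, h1⟩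
    obtain ⟨ε, hε⟩ := act_t E h
    have e' : s = D.t * ps E p := by rw [e, D.tt_mul]
    refine ⟨.inr fun hc => aA_ne p.2 ε fun x => ph_inj E h ?_, _, e' ▸ hε.mul (act_ps E h p), ?_⟩
    · rw [← act_ps E h, e, ← hε, ← conj_eq_of_commute (hc x)]
      conv_lhs => rw [conj_eq_of_commute (hc x)]
      group
    · rw [k]
      exact (by decide : ∀ ε, aT ε (1, 1, 0, 0) = (1, 1, 0, 0)) ε

theorem cent_X {c : G} (hc : ∀ x, Commute c (ph E x)) : c ∈ X := by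
  have := a.normal
  have h1 : (E.S : Subgroup G) ≤ Ns (Fx E h) := fun s hs => by
    obtain ⟨-, B, hB, -⟩ := act_S E h a hs
    exact mem_Ns (by rintro _ ⟨x, rfl⟩; exact ⟨_, (hB x).symm⟩)
  have h2 := (isSylowIn_of_le E.S h1).inf_normal_of_le (N := Cs (Fx E h))
    (fun g hg => mem_Ns_Cs hg) Cs_le_Ns
  have h3 := h2.not_dvd_relIndex_of_le (K := X) fun s hs =>
    (act_S E h a hs.1).1.resolve_right fun hn => hn fun x => mem_Cs.1 hs.2 _ (ph_Fx E h x)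
  have h4 := X.pow_relIndex_mem (K := Cs (Fx E h)) (g := c)
    (mem_Cs.2 (by rintro _ ⟨x, rfl⟩; exact hc x))
  obtain ⟨k, hk⟩ := Nat.odd_iff.2 (Nat.two_dvd_ne_zero.1 h3)
  rw [hk, pow_succ, two_mul, pow_add] at h4
  exact (X.mul_mem_cancel_left (a.sq_mem _)).1 h4

omit h in
theorem same {g s : G} (hg : g ∈ D.NU D.V ⊓ Cs D.O) (hX : g ∈ X) (h2 : g * g = 1)
    (hs : s ∈ (E.S : Subgroup G) ⊓ X) (e : ∀ b, g * D.v b * g⁻¹ = s * D.v b * s⁻¹) :
    ∃ b, g = s * D.v b := by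
  obtain ⟨_, ⟨b, rfl⟩, o, ho, e1⟩ := E.exc.cV (s⁻¹ * g) (mul_mem (inv_mem (E.S_le hs.1).1) hg.1)
    fun b => commute_of_conj_eq (by
      calc s⁻¹ * g * D.v b * (s⁻¹ * g)⁻¹ = s⁻¹ * (g * D.v b * g⁻¹) * s := by group
        _ = _ := by rw [e]; group)
  have hodd := odd_orderOf D.O_odd ho
  rcases e1 with e1 | e1
  · have e2 : g = s * D.v b * o := by rw [mul_assoc, ← e1]; group
    have hsv := mul_mem hs.1 (v_mem E b).1
    have hc : Commute (s * D.v b) o := mem_Cs.1 (E.S_le hsv).2 o ho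
    have h3 : o * o ∈ (E.S : Subgroup G) := by
      rw [e2, hc.symm.mul_mul_mul_comm] at h2
      rw [eq_inv_of_mul_eq_one_right h2]
      exact inv_mem (mul_mem hsv hsv)
    obtain ⟨k, hk⟩ := pow_of_two E.S.isPGroup' h3
    rw [← sq, ← pow_mul, ← pow_succ'] at hk
    have h4 : orderOf o = 1 :=
      ((Nat.coprime_two_right.2 hodd).pow_right _).eq_one_of_dvd (orderOf_dvd_of_pow_eq_one hk)
    exact ⟨b, by rw [e2, orderOf_eq_one_iff.1 h4, mul_one]⟩
  · refine absurd ?_ E.t_X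
    have := X.mul_mem (X.inv_mem hs.2) hX
    rw [e1] at this
    exact (X.mul_mem_cancel_right (mul_mem (v_mem E b).2 (a.odd_mem hodd))).1 this

theorem step1 {e : G} (he : e ∈ (E.S : Subgroup G) ⊓ X) (hV : e ∉ D.V) (h2 : e * e = 1) :
    IsConj e (ph E (0, 0, 1, 1)) := by
  have := a.normal
  have k : ∀ b, ∃ m, e * D.v b * e⁻¹ = D.v (ch E m) := fun b => by
    obtain ⟨c, hc⟩ := (mem_normalizer_iff.1 (E.exc.N_V (E.S_le he.1).1) _).1 (D.v_mem b)
    obtain ⟨m, rfl⟩ := ch_surj E c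
    exact ⟨m, hc⟩
  obtain ⟨m1, k1⟩ := k E.e1
  obtain ⟨m2, k2⟩ := k E.e2
  obtain ⟨m3, k3⟩ := k E.e3
  have hM := act3 E k1 k2 k3
  obtain ⟨n1, n2, n3, hN, hK⟩ := gl3 m1 m2 m3
    ((hM.mul hM).eq_id (vch_inj E) fun x => by rw [h2]; exact Commute.one_left _)
    fun hid => hV (by
      obtain ⟨b, hb⟩ := same E a (E.S_le he.1) he.2 h2 (one_mem _) fun b => by
        obtain ⟨y, rfl⟩ := ch_surj E b
        have := hM y
        rw [hid] at this
        simpa using this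
      exact ⟨b, by rw [hb, one_mul]⟩)
  let χ : V3 ≃+ F := AddEquiv.ofBijective (AddMonoidHom.mk' (ch E) (ch_add E)) (ch_bij E)
  let ν0 : V3 →+ V3 := AddMonoidHom.mk' (l3 n1 n2 n3) (l3_add (by decide) _ _ _)
  have hν : Function.Bijective ν0 :=
    Finite.injective_iff_bijective.1 ((injective_iff_map_eq_zero ν0).2 hK)
  obtain ⟨n, hn, hL⟩ := E.exc.lin ((χ.symm.trans (AddEquiv.ofBijective ν0 hν)).trans χ)
  have hn' : Act (fun y => D.v (ch E y)) n (l3 n1 n2 n3) := fun y => by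
    refine (hL _).trans ?_
    change D.v (ch E (l3 n1 n2 n3 (χ.symm (χ y)))) = _
    rw [χ.symm_apply_apply]
  obtain ⟨c, hc⟩ := same E a (g := n * e * n⁻¹)
    (mul_mem (mul_mem hn (E.S_le he.1)) (inv_mem hn)) (a.normal.conj_mem _ he.2 _)
    (by rw [conj_sq, h2]; simp) (ph_mem E (0, 0, 1, 1)) fun b => by
      obtain ⟨y, rfl⟩ := ch_surj E b
      obtain ⟨y, rfl⟩ := hν.2 y
      have e1 := (hn'.mul hM) y
      have e2 := hn' y
      have e3 := act_b E (l3 n1 n2 n3 y)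
      simp only [hN] at e1 e2 e3
      change _ * D.v (ch E (l3 n1 n2 n3 y)) * _ = _ * D.v (ch E (l3 n1 n2 n3 y)) * _
      rw [e3, ← e1, ← e2]
      group
  obtain ⟨⟨i, j, l⟩, rfl⟩ := ch_surj E c
  have h3 : n * e * n⁻¹ * (n * e * n⁻¹) = 1 := by rw [conj_sq, h2]; simp
  have h4 : aB (i, j, l) = (i, j, l) := vch_inj E (by
    refine (act_b E _).symm.trans ?_
    rw [hc] at h3
    rw [inv_eq_of_mul_eq_one_right (ph_sq E h _)]
    refine (eq_inv_of_mul_eq_one_left ?_).trans (D.v_inv _)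
    rw [← h3, mul_assoc])
  obtain rfl : l = 0 := (by decide : ∀ i j l : Z2, aB (i, j, l) = (i, j, l) → l = 0) _ _ _ h4
  rw [← ph_v, ← ph_add E h, (by decide : ∀ i j : Z2,
    ((0, 0, 1, 1) : V4) + (i, j, 0, 0) = (i, j, 1, 1))] at hc
  obtain ⟨ε, hε⟩ := act_t E h
  obtain ⟨k, l, hkl⟩ := orb ε i j
  refine (isConj_iff.2 ⟨n, hc⟩).trans (IsConj.symm ?_)
  rw [hkl]
  refine IsConj.trans ?_ (isConj_iff.2 ⟨_, act_a E h (k, 0) _⟩)
  split_ifs
  exacts [IsConj.refl _, isConj_iff.2 ⟨_, hε _⟩]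

theorem step2 (hc : IsConj (ph E (1, 1, 0, 0)) (ph E (0, 0, 1, 1))) : False := by
  have := a.normal
  obtain ⟨g, hg⟩ := isConj_iff.1 hc
  have hz : ∀ s ∈ (E.S : Subgroup G), Commute s (ph E (1, 1, 0, 0)) := fun s hs => by
    obtain ⟨-, B, hB, e⟩ := act_S E h a hs
    exact commute_of_conj_eq (by rw [hB, e])
  have hR : Fx E h ⊔ zpowers E.w ≤ (E.S : Subgroup G) ⊓ X :=
    sup_le (by rintro _ ⟨x, rfl⟩; exact ph_mem E x) (zpowers_le.2 E.w_mem)
  obtain ⟨c, hcb, hcR⟩ := conj_into E.S g (H := C1 (ph E (0, 0, 1, 1))) (R := Fx E h ⊔ zpowers E.w)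
    (fun x hx => StdSz.mem_C1.2 (by
      have := commute_conj (hz _ (mem_cj.1 hx)) g
      rw [hg] at this
      simpa [mul_assoc] using this))
    (E.S.isPGroup'.to_le (hR.trans inf_le_left))
    (sup_le (by rintro _ ⟨x, rfl⟩; exact StdSz.mem_C1.2 (ph_comm E h _ _))
      (zpowers_le.2 (StdSz.mem_C1.2 (commute_of_conj_eq (act_w E h _)))))
  obtain ⟨m, hm⟩ : ∃ m, m = g⁻¹ * c := ⟨_, rfl⟩
  have hmR : ∀ x ∈ Fx E h ⊔ zpowers E.w, m * x * m⁻¹ ∈ (E.S : Subgroup G) ⊓ X := fun x hx => by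
    refine ⟨?_, a.normal.conj_mem _ (hR hx).2 _⟩
    have := mem_cj.1 (hcR (conj_mem_cj.2 hx))
    rwa [show m * x * m⁻¹ = g⁻¹ * (c * x * c⁻¹) * g by rw [hm]; group]
  have hmb : m * ph E (0, 0, 1, 1) * m⁻¹ = ph E (1, 1, 0, 0) := by
    calc m * ph E (0, 0, 1, 1) * m⁻¹ = g⁻¹ * (c * ph E (0, 0, 1, 1) * c⁻¹) * g := by rw [hm]; group
      _ = _ := by rw [conj_eq_of_commute (StdSz.mem_C1.1 hcb), ← hg]; group
  have hmN := mem_Ns_Fx E h fun x => hmR _ (mem_sup_left (ph_Fx E h x))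
  obtain ⟨y, hy⟩ := (mem_normalizer_iff.1 hmN _).1 (ph_Fx E h (1, 1, 0, 0))
  obtain ⟨s, hs, hs2, hsy⟩ : ∃ s ∈ (E.S : Subgroup G) ⊓ X, s * s = 1 ∧ ¬ Commute s (ph E y) := by
    by_contra hn
    push Not at hn
    rcases fixed y
      (ph_inj E h ((act_v E h y).symm.trans (conj_eq_of_commute (hn _ (v_mem E _) (D.v_sq _)))))
      (ph_inj E h ((act_w E h y).symm.trans (conj_eq_of_commute (hn _ E.w_mem E.w_sq)))) with
      rfl | rfl
    · have : ph E (1, 1, 0, 0) = ph E 0 := by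
        rw [ph_zero] at hy ⊢
        simpa using hy.symm
      exact absurd (ph_inj E h this) (by decide)
    · have := hmb.trans hy
      exact absurd (ph_inj E h (mul_left_cancel (mul_right_cancel this))) (by decide)
  have hsN : s ∈ Ns (Fx E h) := mem_Ns_Fx E h fun x =>
    mul_mem (mul_mem hs (ph_mem E x)) (inv_mem hs)
  obtain ⟨u, hu⟩ : ∃ u, u = m⁻¹ * s * m := ⟨_, rfl⟩
  have huX : u ∈ X := by rw [hu]; exact a.normal.conj_mem' _ hs.2 _
  obtain ⟨m0, m1, m2, m3, hL⟩ := exists_act E h (g := u)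
    (hu ▸ mul_mem (mul_mem (inv_mem hmN) hsN) hmN)
  obtain ⟨ε, hε⟩ := act_t E h
  have h5 := five ε m2 m3 (ph_inj E h ((hL (0, 0, 1, 1)).symm.trans (by
      have : ph E (0, 0, 1, 1) = m⁻¹ * ph E (1, 1, 0, 0) * m := by rw [← hmb]; group
      calc u * ph E (0, 0, 1, 1) * u⁻¹ = m⁻¹ * (s * ph E (1, 1, 0, 0) * s⁻¹) * m := by
            rw [this, hu]; group
        _ = _ := by rw [conj_eq_of_commute (hz s hs.1), this]))) m0 m1
    (fun e => hsy (commute_of_conj_eq (by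
      have := hL (1, 1, 0, 0)
      rw [e] at this
      calc s * ph E y * s⁻¹ = m * (u * ph E (1, 1, 0, 0) * u⁻¹) * m⁻¹ := by rw [hy, hu]; group
        _ = _ := by rw [this, hy])))
    ((hL.mul hL).eq_id (ph_inj E h) fun x => by
      have : u * u = m⁻¹ * (s * s) * m := by rw [hu]; group
      rw [this, hs2]; simp)
    (((hL.mul (act_w E h)).mul (hL.mul (act_w E h))).eq_id (ph_inj E h) fun x => by
      have h1 := sq_Fx E h (mul_mem hs (hmR _ (mem_sup_right (mem_zpowers E.w))))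
      obtain ⟨y', e⟩ := (mem_normalizer_iff.1 (inv_mem hmN) _).1 h1
      have : u * E.w * (u * E.w) = ph E y' := by rw [e, hu]; group
      rw [this]; exact ph_comm E h _ _)
  have h6 := cent_X E h a (c := (u * (D.v E.e3 * (u * D.t))) ^ 5) fun x => commute_of_conj_eq (by
    rw [(hL.mul ((act_v E h).mul (hL.mul hε))).pow 5 x, h5])
  rw [show 5 = 2 + 2 + 1 from rfl, pow_succ, pow_add, X.mul_mem_cancel_left (a.sq_mem _),
    X.mul_mem_cancel_left huX, X.mul_mem_cancel_left (v_mem E _).2, X.mul_mem_cancel_left huX] at h6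
  exact E.t_X h6

end Ex0

theorem Ex1.sv {D : Dat G F} {X A : Subgroup G} (E : Ex1 D X) (a : Amb D.toMod X A)
    (h : E.x1 * E.x1 = 1) : E.toExS.SV := by
  refine ⟨le_sup_left.trans E.le_S, ?_⟩
  rintro _ ⟨c, rfl⟩ g hg
  by_contra hV
  have hc : c ≠ 0 := by
    rintro rfl
    exact hV (by simp)
  obtain ⟨k, hk⟩ := D.exists_h hc (c := E.e1 + E.e2) fun e => E.e_ne.2.2.1 (D.add_eq_zeroF.1 e)
  refine Ex0.step2 E h a (IsConj.trans ?_ (Ex0.step1 E h a
    ⟨hg, a.normal.conj_mem _ (E.U_X (D.v_mem c)) g⟩ hV (by rw [conj_sq, D.v_sq]; simp)))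
  refine IsConj.trans (IsConj.symm (isConj_iff.2 ⟨D.h k, ?_⟩)) (isConj_iff.2 ⟨g, rfl⟩)
  rw [hk, D.v_add]
  simp only [Ex0.ph_def, Ex0.pw_zero, Ex0.pw_one, mul_one]

end Cfsg.Lib.StdL2
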