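import Cfsg.Agent.Comp.Tools

/-! Transvections on an elementary abelian group of order eight. -/

set_option autoImplicit false
set_option linter.unusedSectionVars false

namespace Cfsg.Lib.StdL2.XC

open Subgroup Cfsg.Lib.Gold Cfsg.Lib.Trans

variable {G : Type*} [Group G] [Finite G] {V H : Subgroup G} {a c e g p y z : G}

/-- An elementary abelian group of order eight. -/
structure E8 (V : Subgroup G) : Prop where
  sq : ∀ v ∈ V, v * v = 1
  card : Nat.card V = 8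

/-- The four-group generated by `c` and `a`. -/
def In4 (c a x : G) : Prop := x = 1 ∨ x = c ∨ x = a ∨ x = a * c

/-- A transvection with centre `c`. -/
structure Tv (V : Subgroup G) (y c : G) : Prop where
  mem : c ∈ V
  ne : c ≠ 1
  act : ∀ v ∈ V, y * v * y⁻¹ = v ∨ y * v * y⁻¹ = v * c
  ex : ∃ e ∈ V, y * e * y⁻¹ = e * c

theorem fx {g x : G} : g * x * g⁻¹ = x ↔ x ∈ C1 g := by
  rw [mem_C1, mul_inv_eq_iff_eq_mul, eq_comm]

theorem cs_of (h : V ≤ C1 g) : g ∈ Cs V := mem_Cs.2 fun _ hv => mem_C1.1 (h hv)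

theorem In4.mem (h : In4 c a z) (hc : c ∈ H) (ha : a ∈ H) : z ∈ H := by
  rcases h with rfl | rfl | rfl | rfl
  exacts [one_mem _, hc, ha, mul_mem ha hc]

namespace E8

variable (h : E8 V)
include h

theorem comm (ha : a ∈ V) (hc : c ∈ V) : a * c = c * a := comm_of_sq h.sq a ha c hc

theorem span (hc : c ∈ V) (ha : a ∈ V) (he : e ∈ V) (c1 : c ≠ 1) (a1 : a ≠ 1) (ac : a ≠ c)
    (e4 : ¬ In4 c a e) (h1 : c ∈ H) (h2 : a ∈ H) (h3 : e ∈ H) : V ≤ H := by
  classical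
  simp only [In4, not_or] at e4
  have h4 : a * c ≠ 1 := fun k => ac (mul_right_cancel (k.trans (h.sq c hc).symm))
  have h5 : a * c ≠ c := by simpa
  have h6 : a * c ≠ a := by simpa
  have h7 : ({e, a * c, a, c, 1} : Set G).ncard = 5 := by
    rw [Set.ncard_insert_of_notMem (by simp [e4]), Set.ncard_insert_of_notMem (by simp [h4, h5, h6]),
      Set.ncard_insert_of_notMem (by simp [a1, ac]), Set.ncard_pair c1]
  have h8 : 5 ≤ Nat.card (V ⊓ H : Subgroup G) := h7.ge.trans (Set.ncard_le_ncard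
    (s := {e, a * c, a, c, 1}) (t := (V ⊓ H : Subgroup G)) (by
    rintro _ (rfl | rfl | rfl | rfl | rfl)
    exacts [⟨he, h3⟩, ⟨mul_mem ha hc, mul_mem h2 h1⟩, ⟨ha, h2⟩, ⟨hc, h1⟩, one_mem _]) (Set.toFinite _))
  have h9 := h.card ▸ card_dvd_of_le (inf_le_left : V ⊓ H ≤ V)
  refine inf_eq_left.1 (eq_of_le_of_card_ge inf_le_left ?_)
  have := Nat.le_of_dvd (by decide) h9
  rw [h.card]
  interval_cases Nat.card (V ⊓ H : Subgroup G) <;> omega

theorem exists_not (c a : G) : ∃ e ∈ V, ¬ In4 c a e := by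
  by_contra! k
  have := Set.ncard_le_ncard (s := V) (t := {1, c, a, a * c}) fun e he => k e he
  have h1 := Set.ncard_insert_le 1 {c, a, a * c}
  have h3 := Set.ncard_insert_le c {a, a * c}
  have h4 := Set.ncard_insert_le a {a * c}
  rw [Set.ncard_singleton] at h4
  have h2 : (V : Set G).ncard = 8 := h.card
  omega

theorem cos (hc : c ∈ V) (ha : a ∈ V) (he : e ∈ V) (c1 : c ≠ 1) (a1 : a ≠ 1) (ac : a ≠ c)
    (e4 : ¬ In4 c a e) (hz : z ∈ V) : In4 c a z ∨ In4 c a (z * e) := by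
  have n : ∀ {x A}, x ∈ V → A ≤ V → x ∈ Ns A := fun hx hA => Cs_le_Ns (le_Cs_of_sq h.sq hA hx)
  have k : ∀ x ∈ zpowers c ⊔ zpowers a, In4 c a x := fun x hx => by
    rcases Comp.mem_sup_zpowers (h.sq a ha) (n ha (zpowers_le.2 hc)) hx with k | k <;>
      rcases Tl.mem_zpowers_of_sq (h.sq c hc) k with k | k
    exacts [.inl k, .inr (.inl k), .inr (.inr (.inl (mul_right_cancel (k.trans (h.sq a ha).symm)))),
      .inr (.inr (.inr (by rw [h.comm ha hc, ← k, mul_assoc, h.sq a ha, mul_one])))]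
  exact (Comp.mem_sup_zpowers (h.sq e he) (n he (sup_le (zpowers_le.2 hc) (zpowers_le.2 ha)))
    (h.span hc ha he c1 a1 ac e4 (mem_sup_left (mem_sup_left (mem_zpowers c)))
      (mem_sup_left (mem_sup_right (mem_zpowers a))) (mem_sup_right (mem_zpowers e)) hz)).imp (k _) (k _)

/-- An element fixing a hyperplane has square in the centraliser. -/
theorem hyp (hg : g ∈ Ns V) (hc : c ∈ V) (ha : a ∈ V) (c1 : c ≠ 1) (a1 : a ≠ 1) (ac : a ≠ c)
    (h1 : c ∈ C1 g) (h2 : a ∈ C1 g) : g * g ∈ Cs V := by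
  obtain ⟨e, he, e4⟩ := h.exists_not c a
  have k : C1 g ≤ C1 (g * g) := fun x hx => mem_C1.2 (Commute.mul_right (mem_C1.1 hx) (mem_C1.1 hx))
  refine cs_of (h.span hc ha he c1 a1 ac e4 (k h1) (k h2) (fx.1 ?_))
  have he' := mem_normalizer_conj hg he
  rcases h.cos hc ha he c1 a1 ac e4 he' with b | b
  · exact absurd (mul_left_cancel (mul_right_cancel ((fx.2 (b.mem h1 h2)).trans rfl)) ▸ b) e4
  · have e1 := fx.2 (b.mem h1 h2)
    rw [← conj_mul, h.comm he' he, mul_left_inj] at e1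
    exact Eq.trans (by group) e1

theorem exists_tv (hy : y ∈ Ns V) (h2 : y * y ∈ Cs V) (hn : y ∉ Cs V) : ∃ c, Tv V y c := by
  obtain ⟨e, he, e1⟩ := SetLike.not_le_iff_exists.1 (mt cs_of hn)
  have k : ∀ v ∈ V, v * (y * v * y⁻¹) ∈ V ⊓ C1 y := fun v hv => by
    have hv' := mem_normalizer_conj hy hv
    refine ⟨mul_mem hv hv', fx.1 ?_⟩
    rw [← conj_mul, h.comm hv hv', show y * (y * v * y⁻¹) * y⁻¹ = y * y * v * (y * y)⁻¹ by group,
      ← mem_Cs.1 h2 v hv, mul_inv_cancel_right]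
  have k2 : ∀ v ∈ V, y * v * y⁻¹ = v * (v * (y * v * y⁻¹)) := fun v hv => by
    rw [← mul_assoc v, h.sq v hv, one_mul]
  have c1 : e * (y * e * y⁻¹) ≠ 1 := fun b => e1 (fx.1 (by rw [k2 e he, b, mul_one]))
  refine ⟨_, (k e he).1, c1, fun v hv => ?_, e, he, k2 e he⟩
  by_contra! b
  have b1 : v * (y * v * y⁻¹) ≠ 1 := fun d => b.1 (by rw [k2 v hv, d, mul_one])
  have b2 : v * (y * v * y⁻¹) ≠ e * (y * e * y⁻¹) := fun d => b.2 (by rw [k2 v hv, d])
  rcases h.cos (k e he).1 (k v hv).1 he c1 b1 b2 (fun d => e1 (d.mem (k e he).2 (k v hv).2)) hv with d | d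
  · exact b.1 (fx.2 (d.mem (k e he).2 (k v hv).2))
  · have := fx.2 (d.mem (k e he).2 (k v hv).2)
    rw [← conj_mul, k2 e he, h.comm he (k e he).1, ← mul_assoc, mul_left_inj,
      ← eq_mul_inv_iff_mul_eq, inv_eq_of_sq (h.sq _ (k e he).1)] at this
    exact b.2 this

end E8

namespace Tv

variable (h : E8 V) (t : Tv V y c)
include h t

theorem fix : c ∈ C1 y := fx.1 ((t.act c t.mem).resolve_right fun b =>
  t.ne (conj_eq_one_iff.1 (b.trans (h.sq c t.mem))))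

omit h in
theorem not_fix (b : y * e * y⁻¹ = e * c) : e ∉ C1 y := fun d =>
  t.ne (left_eq_mul.1 ((fx.2 d).symm.trans b))

omit h in
theorem eq_of (he : e ∈ V) (z1 : z ≠ 1) (b : y * e * y⁻¹ = e * z) : z = c :=
  (t.act e he).elim (fun d => absurd (left_eq_mul.1 (d.symm.trans b)) z1)
    fun d => mul_left_cancel (b.symm.trans d)

theorem in4 (ha : a ∈ V) (a1 : a ≠ 1) (ac : a ≠ c) (h2 : a ∈ C1 y) (hz : z ∈ V) (h3 : z ∈ C1 y) :
    In4 c a z := by
  by_contra b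
  obtain ⟨e, he, e1⟩ := t.ex
  exact t.not_fix e1 (h.span t.mem ha hz t.ne a1 ac b (t.fix h) h2 h3 he)

theorem exists_a : ∃ a ∈ V, a ≠ 1 ∧ a ≠ c ∧ a ∈ C1 y := by
  obtain ⟨e, he, e1⟩ := t.ex
  obtain ⟨v, hv, v4⟩ := h.exists_not c e
  simp only [In4, not_or] at v4
  rcases t.act v hv with b | b
  · exact ⟨v, hv, v4.1, v4.2.1, fx.1 b⟩
  · refine ⟨v * e, mul_mem hv he, fun d => v4.2.2.1 (mul_right_cancel (d.trans (h.sq e he).symm)),
      fun d => v4.2.2.2 (by rw [h.comm he t.mem, ← d, mul_assoc, h.sq e he, mul_one]), fx.1 ?_⟩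
    rw [← conj_mul, b, e1, h.comm he t.mem, mul_assoc, ← mul_assoc c, h.sq c t.mem, one_mul]

/-- The centre is fixed by every element commuting with the transvection. -/
theorem cen (hg : g ∈ Ns V) (b : g * y = y * g) : c ∈ C1 g := by
  obtain ⟨e, he, e1⟩ := t.ex
  refine fx.1 (t.eq_of (mem_normalizer_conj hg he) (mt conj_eq_one_iff.1 t.ne) ?_)
  rw [conj_mul, ← e1, show y * (g * e * g⁻¹) * y⁻¹ = y * g * e * (y * g)⁻¹ by group, ← b]; group

/-- Two transvections with the same centre and axis agree. -/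
theorem same (t' : Tv V z c) (ha : a ∈ V) (a1 : a ≠ 1) (ac : a ≠ c) (h2 : a ∈ C1 y) (h3 : a ∈ C1 z) :
    y * z ∈ Cs V := by
  obtain ⟨e, he, e1⟩ := t'.ex
  have e4 : ¬ In4 c a e := fun b => t'.not_fix e1 (b.mem (t'.fix h) h3)
  have k : ∀ x ∈ C1 y, x ∈ C1 z → x ∈ C1 (y * z) := fun x b d =>
    mem_C1.2 (Commute.mul_right (mem_C1.1 b) (mem_C1.1 d))
  refine cs_of (h.span t.mem ha he t.ne a1 ac e4 (k _ (t.fix h) (t'.fix h)) (k _ h2 h3) (fx.1 ?_))
  rw [show y * z * e * (y * z)⁻¹ = y * (z * e * z⁻¹) * y⁻¹ by group, e1, ← conj_mul, fx.2 (t.fix h),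
    (t.act e he).resolve_left fun b => e4 (t.in4 h ha a1 ac h2 he (fx.1 b)), mul_assoc, h.sq c t.mem,
    mul_one]

theorem half (hg : g ∈ Ns V) (b : g * y = y * g) (ha : a ∈ V) (a1 : a ≠ 1) (ac : a ≠ c)
    (h2 : a ∈ C1 y) : g * a * g⁻¹ = a ∨ g * a * g⁻¹ = a * c := by
  rcases t.in4 h ha a1 ac h2 (mem_normalizer_conj hg ha) (fx.1 (by
    rw [show y * (g * a * g⁻¹) * y⁻¹ = y * g * a * (y * g)⁻¹ by group, ← b,
      show g * y * a * (g * y)⁻¹ = g * (y * a * y⁻¹) * g⁻¹ by group, fx.2 h2])) with d | d | d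
  · exact absurd (conj_eq_one_iff.1 d) a1
  · exact absurd (mul_left_cancel (mul_right_cancel (d.trans (fx.2 (t.cen h hg b)).symm))) ac
  · exact d

/-- An element commuting with two transvections with the same centre. -/
theorem two (t' : Tv V z c) (hn : y * z ∉ Cs V) (hg : g ∈ Ns V) (b : g * y = y * g)
    (b' : g * z = z * g) : ∃ v, In4 y z v ∧ g * v ∈ Cs V := by
  obtain ⟨p, hp, p1, pc, py⟩ := t.exists_a h
  obtain ⟨q, hq, q1, qc, qz⟩ := t'.exists_a h
  have pz : p ∉ C1 z := fun d => hn (t.same h t' hp p1 pc py d)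
  have qy : q ∉ C1 y := fun d => hn (t.same h t' hq q1 qc d qz)
  have zp := (t'.act p hp).resolve_left (mt fx.1 pz)
  have yq := (t.act q hq).resolve_left (mt fx.1 qy)
  have gc := fx.2 (t.cen h hg b)
  have yc := fx.2 (t.fix h)
  have zc := fx.2 (t'.fix h)
  have k : ∀ v, g * (v * c * v⁻¹) * g⁻¹ = c → g * (v * p * v⁻¹) * g⁻¹ = p →
      g * (v * q * v⁻¹) * g⁻¹ = q → g * v ∈ Cs V := fun v h1 h2 h3 =>
    cs_of (h.span t.mem hp hq t.ne p1 pc (fun d => qy (d.mem (t.fix h) py))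
      (fx.1 (Eq.trans (by group) h1)) (fx.1 (Eq.trans (by group) h2)) (fx.1 (Eq.trans (by group) h3)))
  have cc : ∀ x, x * c * c = x := fun x => by rw [mul_assoc, h.sq c t.mem, mul_one]
  have e : ∀ x, z * y * x * (z * y)⁻¹ = z * (y * x * y⁻¹) * z⁻¹ := fun x => by group
  rcases t.half h hg b hp p1 pc py with d | d <;> rcases t'.half h hg b' hq q1 qc qz with d' | d'
  · exact ⟨1, .inl rfl, k 1 (by simpa using gc) (by simpa using d) (by simpa using d')⟩
  · exact ⟨y, .inr (.inl rfl), k y (by rw [yc, gc]) (by rw [fx.2 py, d]) (by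
      rw [yq, ← conj_mul, d', gc, cc])⟩
  · exact ⟨z, .inr (.inr (.inl rfl)), k z (by rw [zc, gc]) (by rw [zp, ← conj_mul, d, gc, cc])
      (by rw [fx.2 qz, d'])⟩
  · exact ⟨z * y, .inr (.inr (.inr rfl)), k _ (by rw [e, yc, zc, gc])
      (by rw [e, fx.2 py, zp, ← conj_mul, d, gc, cc])
      (by rw [e, yq, ← conj_mul (b := z), fx.2 qz, zc, ← conj_mul, d', gc, cc])⟩

end Tv

end Cfsg.Lib.StdL2.XC
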