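import Cfsg.Agent.StdL2.Base
import Cfsg.Agent.StdL2.ExCa
import Cfsg.Agent.Local.JBasic

/-!
# Standard subgroups of type `L₂(2ᵃ)`: the Sylow subgroup in the exceptional configuration
-/

set_option autoImplicit false

namespace Cfsg.Lib.StdL2

open Subgroup Cfsg.Lib.Gold Cfsg.Lib.Trans Cfsg.Lib.StdSz
open scoped commutatorElement

variable {G : Type*} [Group G] [Finite G] {F : Type*} [Field F] [Finite F]

theorem exists_unip (h8 : Nat.card F = 8) (two : (2 : F) = 0) {c a e : F} (h1 : c ≠ 0) (h2 : a ≠ 0)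
    (h3 : a ≠ c) (h4 : e ≠ 0) (h5 : e ≠ c) (h6 : e ≠ a) (h7 : e ≠ a + c) :
    ∃ L : F ≃+ F, L c = c ∧ L a = a + c ∧ L e = e + a := by
  have : CharP F 2 := CharTwo.of_one_ne_zero_of_two_eq_zero one_ne_zero two
  let _ := ZMod.algebra F 2
  have := Fintype.ofFinite F
  have z : ∀ z : ZMod 2, z = 0 ∨ z = 1 := by decide
  have li : LinearIndependent (ZMod 2) ![c, a, e] := Fintype.linearIndependent_iff.2 fun g hg => by
    rw [add_comm] at h7
    rcases z (g 0) with k0 | k0 <;> rcases z (g 1) with k1 | k1 <;> rcases z (g 2) with k2 | k2 <;>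
      simp [Fin.sum_univ_three, add_eq_zero_iff_eq_neg, CharTwo.neg_eq, Fin.forall_fin_succ, k0, k1,
        k2, h1, h2, h3.symm, h4, h5.symm, h6.symm, h7.symm] at hg ⊢
  let b := basisOfLinearIndependentOfCardEqFinrank li (Nat.pow_right_injective le_rfl (by
    have := Module.card_eq_pow_finrank (K := ZMod 2) (V := F)
    rw [Fintype.card_eq_nat_card, h8, ZMod.card] at this
    exact this))
  let M := b.constr (ZMod 2) ![c, a + c, e + a]
  have hb : ∀ i, M (![c, a, e] i) = ![c, a + c, e + a] i := fun i =>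
    coe_basisOfLinearIndependentOfCardEqFinrank li _ ▸ b.constr_basis (ZMod 2) _ i
  have e0 : M c = c := hb 0
  have e1 : M a = a + c := hb 1
  have e2 : M e = e + a := hb 2
  have e4 : (M ∘ₗ M ∘ₗ M) ∘ₗ M = .id := b.ext fun i => by
    fin_cases i <;> simp [b, e0, e1, e2, add_assoc, CharTwo.add_cancel_left, CharTwo.add_self_eq_zero]
  exact ⟨.ofBijective M.toAddMonoidHom (Finite.injective_iff_bijective.1
    (Function.LeftInverse.injective (g := M ∘ₗ M ∘ₗ M) (LinearMap.congr_fun e4))), e0, e1, e2⟩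

/-- Squares in a 2-group acting on an elementary abelian group of order eight. -/
theorem XC.E8.sq_cases {V S : Subgroup G} (h : XC.E8 V) (hS : IsPGroup 2 S) (hN : S ≤ Ns V) :
    ∃ x ∈ S, x * x * (x * x) ∈ Cs V ∧ (x = 1 ∨ x * x ∉ Cs V) ∧
      ∀ s ∈ S, s * s ∈ Cs V ∨ x * s ∈ Cs V ∨ x⁻¹ * s ∈ Cs V := by
  by_cases h0 : ∀ s ∈ S, s * s ∈ Cs V
  · exact ⟨1, one_mem _, by simp, .inl rfl, fun s hs => .inl (h0 s hs)⟩
  obtain ⟨x, hx, x2⟩ : ∃ x ∈ S, x * x ∉ Cs V := by simpa using h0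
  have hV := isPGroup_of_sq h.sq
  obtain ⟨c, hc, c1, c2, hcS, -⟩ := Comp.exists_fix hS hV hN fun e => by
    simpa [e] using h.card
  have cS : ∀ s ∈ S, s * c * s⁻¹ = c := fun s hs => conj_eq_of_commute (StdSz.mem_Cs.1 hcS s hs).symm
  obtain ⟨e, he, e4⟩ := h.exists_not c 1
  obtain ⟨a, ha, a1, aS⟩ := Agent.S0028.exists_fixed_coset 2 S V (zpowers c) hS hV hN
    (fun s hs z hz => by
      rcases Tl.mem_zpowers_of_sq c2 hz with rfl | rfl <;> simp [cS s hs])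
    fun k => e4 ((Tl.mem_zpowers_of_sq c2 (k he)).imp_right .inl)
  have ac : a ≠ c := fun k => a1 (k ▸ mem_zpowers _)
  replace a1 : a ≠ 1 := fun k => a1 (k ▸ one_mem _)
  replace aS : ∀ s ∈ S, s * a * s⁻¹ = a ∨ s * a * s⁻¹ = a * c := fun s hs =>
    (Tl.mem_zpowers_of_sq c2 (aS s hs)).imp (fun k => (inv_mul_eq_one.1 k).symm)
      inv_mul_eq_iff_eq_mul.1
  have cc : ∀ y, y * c * c = y := fun y => by rw [mul_assoc, c2, mul_one]
  have m : ∀ s s' y : G, s * s' * y * (s * s')⁻¹ = s * (s' * y * s'⁻¹) * s⁻¹ := fun _ _ _ => by group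
  obtain ⟨e, he, e4⟩ := h.exists_not c a
  have k : ∀ s ∈ S, s * a * s⁻¹ = a → s * e * s⁻¹ = e → s ∈ Cs V := fun s hs h1 h2 =>
    XC.cs_of (h.span hc ha he c1 a1 ac e4 (XC.fx.1 (cS s hs)) (XC.fx.1 h1) (XC.fx.1 h2))
  have a2 : ∀ s ∈ S, s * s * a * (s * s)⁻¹ = a := fun s hs => by
    rcases aS s hs with k | k
    · rw [m, k, k]
    · rw [m, k, ← conj_mul, k, cS s hs, cc]
  have key : ∀ s ∈ S, s * s ∉ Cs V → s * a * s⁻¹ = a * c ∧
      (s * e * s⁻¹ = a * e ∨ s * e * s⁻¹ = a * c * e) := fun s hs h2 => by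
    have h3 := (aS s hs).resolve_left fun k =>
      h2 (h.hyp (hN hs) hc ha c1 a1 ac (XC.fx.1 (cS s hs)) (XC.fx.1 k))
    have ee : ∀ {y z : G}, y * e = z → y = z * e := fun k => by
      rw [← k, mul_assoc, h.sq e he, mul_one]
    refine ⟨h3, ?_⟩
    rcases h.cos hc ha he c1 a1 ac e4 (mem_normalizer_conj (hN hs) he) with b | b | b | b | b
    · refine absurd ?_ e4
      rcases b with b | b | b | b
      · exact .inl (conj_eq_one_iff.1 b)
      · exact .inr (.inl ((MulAut.conj s).injective (b.trans (cS s hs).symm)))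
      · exact .inr (.inr (.inr ((MulAut.conj s).injective (b.trans (by
          rw [MulAut.conj_apply, ← conj_mul, h3, cS s hs, cc])))))
      · exact .inr (.inr (.inl ((MulAut.conj s).injective (b.trans h3.symm))))
    · exact absurd (k _ (mul_mem hs hs) (a2 s hs) (by rw [m, ee b, one_mul, ee b, one_mul])) h2
    · exact absurd (k _ (mul_mem hs hs) (a2 s hs) (by
        rw [m, ee b, ← conj_mul, ee b, cS s hs, ← mul_assoc, c2, one_mul])) h2
    · exact .inl (ee b)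
    · exact .inr (ee b)
  obtain ⟨x1, x3⟩ := key x hx x2
  refine ⟨x, hx, h.hyp (hN (mul_mem hx hx)) hc ha c1 a1 ac (XC.fx.1 (cS _ (mul_mem hx hx)))
    (XC.fx.1 (a2 x hx)), .inr x2, fun s hs => or_iff_not_imp_left.2 fun s2 => ?_⟩
  obtain ⟨s1, s3⟩ := key s hs s2
  have i : ∀ y, s * y * s⁻¹ = x * y * x⁻¹ → x⁻¹ * s * y * (x⁻¹ * s)⁻¹ = y := fun y b => by
    rw [m, b]; group
  have aa : ∀ y, a * c * (a * y) = c * y := fun y => by
    rw [h.comm ha hc, mul_assoc, ← mul_assoc a, h.sq a ha, one_mul]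
  have xs : x * s * a * (x * s)⁻¹ = a := by rw [m, s1, ← conj_mul, x1, cS x hx, cc]
  rcases x3 with x3 | x3 <;> rcases s3 with s3 | s3
  · exact .inr (k _ (mul_mem (inv_mem hx) hs) (i a (s1.trans x1.symm)) (i e (s3.trans x3.symm)))
  · exact .inl (k _ (mul_mem hx hs) xs (by
      rw [m, s3, ← conj_mul, ← conj_mul, x1, x3, cS x hx, cc, ← mul_assoc, h.sq a ha, one_mul]))
  · exact .inl (k _ (mul_mem hx hs) xs (by
      rw [m, s3, ← conj_mul, x1, x3, mul_assoc a c e, aa, ← mul_assoc, c2, one_mul]))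
  · exact .inr (k _ (mul_mem (inv_mem hx) hs) (i a (s1.trans x1.symm)) (i e (s3.trans x3.symm)))

theorem Dat.syl8 (D : Dat G F) (h8 : Nat.card F = 8) : IsSylowIn 2 D.W (C1 D.t) :=
  have ⟨S⟩ := D.exists_syl
  S.T_eq (S.f_eq_one h8) ▸ S.syl

theorem Dat.le_W (D : Dat G F) (h8 : Nat.card F = 8) {R : Subgroup G} (hR : IsPGroup 2 R)
    (h : R ≤ D.B) : R ≤ D.W := by
  obtain ⟨g, hg, e⟩ := ((D.syl8 h8).mono D.W_le_B inf_le_left).exists_cj_le hR h
  rwa [← cj_eq_of_mem_normalizer (D.B_le_NsW hg), cj_le_cj] at e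

theorem Dat.sq_one (D : Dat G F) (h8 : Nat.card F = 8) {g x : G} (h : Commute x (g * D.t * g⁻¹))
    {k : ℕ} (hx : x ^ 2 ^ k = 1) : x * x = 1 := by
  obtain ⟨S⟩ := D.exists_syl
  obtain ⟨g', -, e⟩ := S.conj_le (two_zpowers hx) (zpowers_le.2 (StdSz.mem_C1.2 h))
  obtain ⟨w, hw, rfl⟩ := e (mem_zpowers x)
  rw [← map_mul, D.W_sq (S.T_eq (S.f_eq_one h8) ▸ hw), map_one]

namespace Exc

variable {D : Dat G F} {U : Subgroup G} (h : Exc D U)
include h

omit [Finite G] [Finite F] in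
theorem t_Ns : D.t ∈ Ns U := h.N_U (le_normalizer (mem_sup_right (mem_zpowers _)))

omit [Finite G] [Finite F] in
theorem mem_A {x : G} : x ∈ U ⊔ zpowers D.t ↔ x ∈ U ∨ D.t * x ∈ U :=
  StdU3.mem_sup_invol D.t_sq h.t_Ns

omit [Finite F] in
theorem two_A : IsPGroup 2 (U ⊔ zpowers D.t : Subgroup G) :=
  Comp.isPGroup_sup h.inv.two (two_zpowers (k := 1) (by simp [sq, D.t_sq])) (zpowers_le.2 h.t_Ns)

omit [Finite G] [Finite F] in
theorem comm {u u' : G} (hu : u ∈ U) (hu' : u' ∈ U) : Commute u u' := by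
  have e := h.inv.inv _ (mul_mem hu hu')
  rw [mul_inv_rev, ← h.inv.inv u hu, ← h.inv.inv u' hu'] at e
  exact mul_right_cancel (b := D.t) (by simpa [mul_assoc, D.tt_mul] using e)

omit [Finite F] in
theorem A_le : U ⊔ zpowers D.t ≤ D.NU U ⊓ Cs D.O := le_inf le_normalizer (sup_le
  (fun u hu => mem_Cs.2 fun o ho => (h.inv.O_c o ho u hu).symm)
  (zpowers_le.2 (mem_Cs.2 fun _ ho => (D.O_W ho D.t_mem_W).symm)))

omit [Finite G] [Finite F] in
theorem A_V : U ⊔ zpowers D.t ≤ Cs D.V := sup_le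
  (fun _ hu => mem_Cs.2 fun _ hv => h.comm hu (h.inv.V_le hv))
  (zpowers_le.2 (mem_Cs.2 (by rintro _ ⟨b, rfl⟩; exact D.t_v b)))

omit [Finite G] [Finite F] in
theorem W_le : D.W ≤ U ⊔ zpowers D.t := sup_le_sup_right h.inv.V_le _

omit [Finite F] in
theorem omega {u : G} (hu : u ∈ U) (h2 : u * u = 1) : u ∈ D.V := by
  have e := h.inv.inv u hu
  rw [inv_eq_of_sq h2, ← D.t_inv, mul_inv_eq_iff_eq_mul, D.t_inv] at e
  refine (D.mem_W'.1 (D.mem_W_of_sq (Commute.symm e) (fun b => h.comm hu (h.inv.V_le (D.v_mem b)))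
    h2)).resolve_right fun k => h.inv.t_not ((U.mul_mem_cancel_right hu).1 (h.inv.V_le k))

omit [Finite F] in
theorem e8 : XC.E8 D.V := ⟨fun _ => D.V_sq, D.card_V.trans h.eight⟩

omit [Finite G] [Finite F] in
theorem cls {H : Subgroup G} (hH : H ≤ D.NU U) :
    {y | ∃ n ∈ H, n * D.t * n⁻¹ = y} ⊆ (D.t * ·) '' U := by
  rintro _ ⟨n, hn, rfl⟩
  exact ⟨_, (h.mem_A.1 (mem_normalizer_conj (hH hn) (mem_sup_right (mem_zpowers _)))).resolve_left
    fun k => h.inv.t_not ((mem_normalizer_iff.1 (h.N_U (hH hn)) _).2 k), D.tt_mul _⟩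

omit [Finite G] [Finite F] in
theorem relIndex : (C1 D.t).relIndex (D.NU U ⊓ Cs D.O) = Nat.card U := by
  rw [← KL.ncard_conj, (h.cls inf_le_left).antisymm (by
    rintro _ ⟨u, hu, rfl⟩
    exact h.trans u hu), Set.ncard_image_of_injective _ (mul_right_injective _)]
  rfl

theorem cocycle {y : G} (hy : y ∈ D.NU U) {k : ℕ} (hk : y ^ 2 ^ k = 1) {u : G} (hu : u ∈ U)
    (e : y * D.t * y⁻¹ = D.t * (u * u)) : y ∈ U ⊔ zpowers D.t := by
  obtain ⟨j, hj⟩ := pow_of_two (Comp.isPGroup_sup h.inv.two (two_zpowers hk)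
    (zpowers_le.2 (h.N_U hy))) (mul_mem (mem_sup_left hu) (mem_sup_right (mem_zpowers y)))
  refine (mul_mem_cancel_left (mem_sup_left hu)).1 (h.W_le (D.le_W h.eight (two_zpowers hj)
    (zpowers_le.2 (D.mem_B.2 ⟨commute_of_conj_eq ?_,
      h.N_V (mul_mem (le_normalizer (mem_sup_left hu)) hy)⟩)) (mem_zpowers _)))
  rw [show u * y * D.t * (u * y)⁻¹ = u * (y * D.t * y⁻¹) * u⁻¹ by group, e,
    show u * (D.t * (u * u)) * u⁻¹ = u * D.t * u by group, ← D.tt_mul (u * D.t), ← mul_assoc D.t u,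
    h.inv.inv u hu, inv_mul_cancel_right]

theorem exists_d {c : F} (hc : c ≠ 0) :
    ∃ d ∈ D.B ⊓ Cs D.O, Odd (orderOf d) ∧ (∀ b, Commute (d ^ 3) (D.v b)) ∧
      ∀ b, Commute d (D.v b) ↔ b = 0 ∨ b = c := by
  have : CharP F 2 := CharTwo.of_one_ne_zero_of_two_eq_zero one_ne_zero D.two
  have : Fact (Nat.Prime 3) := ⟨Nat.prime_three⟩
  obtain ⟨g, hg, e⟩ := h.lin (frobeniusEquiv F 2).toAddEquiv
  replace e : ∀ b, g * D.v b * g⁻¹ = D.v (b ^ 2) := e
  have g3 : g ^ 3 ∈ Cs D.V := mem_Cs.2 (by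
    rintro _ ⟨b, rfl⟩
    have := Fintype.ofFinite F
    have e8 := FiniteField.pow_card b
    rw [Fintype.card_eq_nat_card, h.eight] at e8
    refine commute_of_conj_eq ?_
    rw [show g ^ 3 * D.v b * (g ^ 3)⁻¹ = g * (g * (g * D.v b * g⁻¹) * g⁻¹) * g⁻¹ by
      simp [pow_succ, mul_assoc], e, e, e,
      ← pow_mul, ← pow_mul, e8])
  obtain ⟨j, m, hm, ho⟩ := Nat.exists_eq_pow_mul_and_not_dvd (orderOf_pos g).ne' 3 (by decide)
  obtain ⟨i, hi⟩ : ∃ i, m * m = 1 + 3 * i := ⟨m * m / 3, by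
    have := Nat.mul_mod m m 3
    have : m % 3 = 1 ∨ m % 3 = 2 := by omega
    rcases this with k | k <;> rw [k] at this <;> omega⟩
  have g0 : (g ^ (m * m)) ^ 3 ^ j = 1 := by
    rw [← pow_mul, mul_assoc, mul_comm m (m * _), mul_comm m (3 ^ j), ← ho, pow_mul,
      pow_orderOf_eq_one, one_pow]
  obtain ⟨T, hT⟩ := exists_isSylowIn (p := 3) (D.NU U ⊓ Cs D.O ⊓ C1 D.t)
  obtain ⟨n, hn, e1⟩ := (hT.trans inf_le_left (by
    obtain ⟨k, hk⟩ := h.inv.two.exists_card_eq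
    rw [inf_relIndex_left, h.relIndex, hk]
    exact fun k => absurd (Nat.prime_three.dvd_of_dvd_pow k) (by decide))).exists_cj_le
    (IsPGroup.of_card_dvd_pow (n := j) (by rw [Nat.card_zpowers]; exact orderOf_dvd_of_pow_eq_one g0))
    (zpowers_le.2 (pow_mem hg (m * m)))
  have e2 := hT.le (e1 (conj_mem_cj.2 (mem_zpowers _)))
  obtain ⟨c', e3⟩ := mem_normalizer_conj (h.N_V hn.1) (D.v_mem 1)
  obtain ⟨k, e4⟩ := D.exists_h (b := c') (fun k => D.v1_ne (conj_eq_one_iff.1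
    (e3.trans (D.v_eq_one.2 k)))) hc
  have hp : D.h k * n ∈ Ns D.V := mul_mem (D.h_mem_B k).2 (h.N_V hn.1)
  have e5 : D.h k * n * D.v 1 * (D.h k * n)⁻¹ = D.v c := by rw [← e4, ← e3]; group
  refine ⟨D.h k * n * g ^ (m * m) * (D.h k * n)⁻¹, ?_, ?_, fun b => ?_, fun b => ?_⟩
  · rw [show D.h k * n * g ^ (m * m) * (D.h k * n)⁻¹ = D.h k * (n * g ^ (m * m) * n⁻¹) * (D.h k)⁻¹
      by group]
    have : D.h k ∈ D.B ⊓ Cs D.O := ⟨D.h_mem_B k, mem_Cs.2 fun o ho => (D.K_h o (D.O_le ho) k).symm⟩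
    exact mul_mem (mul_mem this ⟨⟨e2.2, h.N_V e2.1.1⟩, e2.1.2⟩) (inv_mem this)
  · exact (Odd.pow (by decide)).of_dvd_nat (orderOf_dvd_of_pow_eq_one (n := 3 ^ j) (by
      rw [conj_pow, g0, mul_one, mul_inv_cancel]))
  · rw [conj_pow, ← pow_mul, mul_comm _ 3, pow_mul]
    exact mem_Cs.1 (mem_normalizer_conj (mem_Ns_Cs hp) (pow_mem g3 _)) _ (D.v_mem b)
  obtain ⟨b', e6⟩ := mem_normalizer_conj (inv_mem hp) (D.v_mem b)
  have e7 : D.v b = D.h k * n * D.v b' * (D.h k * n)⁻¹ := by rw [← e6]; group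
  rw [← D.v_eq_one, ← D.v_inj.eq_iff (b := c), ← e5, e7, conj_eq_one_iff, mul_left_inj,
    mul_right_inj, D.v_eq_one, D.v_inj.eq_iff, ← IsIdempotentElem.iff_eq_zero_or_one,
    IsIdempotentElem, ← sq b', ← D.v_inj.eq_iff, ← e]
  refine Iff.trans ?_ mul_inv_eq_iff_eq_mul.symm
  refine (Commute.conj_iff _).trans ?_
  rw [hi, pow_add, pow_one, pow_mul]
  have := StdSz.mem_Cs.1 (pow_mem g3 i) _ (D.v_mem b')
  exact ⟨fun k => by simpa [Commute, SemiconjBy] using k.mul_left this.inv_left,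
    fun k => Commute.mul_left k this⟩

omit [Finite F] in
theorem mem_A_of {S : Subgroup G} (hS : IsPGroup 2 S) (h1 : U ⊔ zpowers D.t ≤ S)
    (h2 : S ≤ D.NU U) {s : G} (hs : s ∈ S) (hc : s ∈ Cs D.V) : s ∈ U ⊔ zpowers D.t := by
  obtain ⟨u, hu, o, ho, e⟩ := h.cV s (h2 hs) fun b => StdSz.mem_Cs.1 hc _ (D.v_mem b)
  have k : o ∈ S → o = 1 := fun k =>
    have ⟨_, e⟩ := pow_of_two hS k
    StdU3.eq_one_of_odd_pow (odd_orderOf D.O_odd ho) e
  have ht := h1 (mem_sup_right (mem_zpowers _))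
  have hu' := h1 (mem_sup_left hu)
  rcases e with rfl | rfl
  · rw [k ((S.mul_mem_cancel_left hu').1 hs), mul_one]
    exact mem_sup_left hu
  · rw [k ((S.mul_mem_cancel_left hu').1 ((S.mul_mem_cancel_left ht).1 hs)), mul_one]
    exact mul_mem (mem_sup_right (mem_zpowers _)) (mem_sup_left hu)

end Exc

theorem Exc.cs_V {D : Dat G F} (h : Exc D D.V) {g y : G} (hg : g * D.t * g⁻¹ = y)
    (hy : y ∈ D.NU D.V ⊓ Cs D.O) : y ∈ Cs D.V := by
  by_contra hn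
  have E := h.e8
  have y2 : y * y = 1 := hg ▸ Comp.conj_sq D.t_sq g
  have hV := h.N_V hy.1
  obtain ⟨c, T⟩ := E.exists_tv hV (y2 ▸ one_mem _) hn
  obtain ⟨e, he, ye⟩ := T.ex
  have nf : ∀ w ∈ D.V, y * (D.t * w) * y⁻¹ ≠ D.t * w := fun w hw k => by
    obtain ⟨n, hn', e1⟩ := h.trans w hw
    have hn'' := h.N_V hn'.1
    refine hn ((mem_normalizer_iff.1 (mem_Ns_Cs (inv_mem hn'')) y).2 (h.A_V (D.le_W h.eight
      (two_zpowers (k := 1) (by simpa [sq] using Comp.conj_sq y2 n⁻¹)) (zpowers_le.2 (D.mem_B.2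
      ⟨commute_of_conj_eq ?_, mem_normalizer_conj (inv_mem (le_normalizer hn'')) hV⟩))
      (mem_zpowers _))))
    rw [show n⁻¹ * y * n⁻¹⁻¹ * D.t * (n⁻¹ * y * n⁻¹⁻¹)⁻¹ =
      n⁻¹ * (y * (n * D.t * n⁻¹) * y⁻¹) * n by group, e1, k, ← e1]
    group
  obtain ⟨a, ha, yt⟩ := h.cls inf_le_left ⟨y, hy, rfl⟩
  replace yt : y * D.t * y⁻¹ = D.t * a := yt.symm
  have tV : ∀ w ∈ D.V, D.t * w = w * D.t := fun w hw => (D.W_t (D.V_le_W hw)).symm
  have a1 : a ≠ 1 := fun k => nf 1 (one_mem _) (by rw [mul_one, yt, k, mul_one])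
  have ac : a ≠ c := fun k => nf e he (by
    rw [← conj_mul, yt, ye, k, mul_assoc, E.comm he T.mem, ← mul_assoc c, E.sq c T.mem, one_mul])
  have ya : y * a * y⁻¹ = a := by
    have : y * (y * D.t * y⁻¹) * y⁻¹ = y * y * D.t * (y * y)⁻¹ := by group
    rw [y2, one_mul, inv_one, mul_one, yt, ← conj_mul, yt, mul_assoc, mul_eq_left,
      mul_eq_one_iff_inv_eq, inv_eq_of_sq (E.sq a ha)] at this
    exact this.symm
  have yc := XC.fx.2 (T.fix E)
  have e4 : ¬ XC.In4 c a e := fun k => T.not_fix ye (k.mem (T.fix E) (XC.fx.1 ya))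
  obtain ⟨x, hx, xc, xa, xe⟩ : ∃ x ∈ D.NU D.V ⊓ Cs D.O, x * c * x⁻¹ = c ∧ x * a * x⁻¹ = a * c ∧
      x * e * x⁻¹ = e * a := by
    obtain ⟨c, rfl⟩ := T.mem
    obtain ⟨a, rfl⟩ := ha
    obtain ⟨e, rfl⟩ := he
    simp only [XC.In4, not_or, ← D.v_add, D.v_eq_one, D.v_inj.eq_iff] at e4
    obtain ⟨L, h1, h2, h3⟩ := exists_unip h.eight D.two (mt D.v_eq_one.2 T.ne) (mt D.v_eq_one.2 a1)
      (fun k => ac (congrArg _ k)) e4.1 e4.2.1 e4.2.2.1 e4.2.2.2
    obtain ⟨x, hx, k⟩ := h.lin L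
    exact ⟨x, hx, by rw [k, h1], by rw [k, h2, D.v_add], by rw [k, h3, D.v_add]⟩
  have m : ∀ s s' y : G, s * s' * y * (s * s')⁻¹ = s * (s' * y * s'⁻¹) * s⁻¹ := fun _ _ _ => by group
  have i : ∀ v, x * (y * v * y⁻¹) * x⁻¹ = y * (x * v * x⁻¹) * y⁻¹ → v ∈ C1 ((y * x)⁻¹ * (x * y)) :=
    fun v k => XC.fx.1 (by rw [m, m x, k]; group)
  have hz := XC.cs_of (E.span T.mem ha he T.ne a1 ac e4 (i c (by rw [yc, xc, yc]))
    (i a (by rw [ya, xa, ← conj_mul, ya, yc])) (i e (by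
      rw [ye, xe, ← conj_mul, ← conj_mul, xe, xc, ye, ya, mul_assoc, mul_assoc, E.comm ha T.mem])))
  obtain ⟨w, hw, o, ho, e1⟩ : ∃ w ∈ D.W, ∃ o ∈ D.O, (y * x)⁻¹ * (x * y) = w * o := by
    obtain ⟨u, hu, o, ho, k | k⟩ := h.cV _ (mul_mem (inv_mem (mul_mem hy.1 hx.1)) (mul_mem hx.1 hy.1))
      fun b => StdSz.mem_Cs.1 hz _ (D.v_mem b)
    · exact ⟨u, D.V_le_W hu, o, ho, k⟩
    · exact ⟨_, mul_mem D.t_mem_W (D.V_le_W hu), o, ho, k.trans (mul_assoc ..).symm⟩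
  have e2 : y * w * y⁻¹ * w = (o * o)⁻¹ := by
    have k : y * (w * o) * y⁻¹ * (w * o) = y * x⁻¹ * (y * y)⁻¹ * x * y := by rw [← e1]; group
    rw [y2, inv_one, mul_one, inv_mul_cancel_right, y2, ← conj_mul,
      conj_eq_of_commute (StdSz.mem_Cs.1 hy.2 o ho), mul_assoc, ← mul_assoc o, (D.O_W ho hw).eq] at k
    rw [eq_inv_iff_mul_eq_one, ← k, mul_assoc, mul_assoc w]
  obtain rfl : o = 1 := StdU3.eq_one_of_odd_pow (k := 2) (odd_orderOf D.O_odd ho) (by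
    have := D.W_sq (mul_mem (mem_normalizer_conj hy.1 hw) hw)
    rw [e2, ← mul_inv_rev, inv_eq_one] at this
    simpa [pow_succ, mul_assoc] using this)
  rw [mul_one, inv_one, mul_eq_one_iff_eq_inv, inv_eq_of_sq (D.W_sq hw)] at e2
  obtain ⟨w', hw', e3⟩ : ∃ w' ∈ D.W, w' * (y * w' * y⁻¹) = w := by
    rcases T.in4 E ha a1 ac (XC.fx.1 ya) ((D.mem_W'.1 hw).resolve_right fun k =>
      nf _ k (by rw [D.tt_mul, e2])) (XC.fx.1 e2) with k | k | k | k <;> rw [k]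
    · exact ⟨1, one_mem _, by simp⟩
    · exact ⟨e, D.V_le_W he, by rw [ye, ← mul_assoc, E.sq e he, one_mul]⟩
    · exact ⟨_, D.t_mem_W, by rw [yt, D.tt_mul]⟩
    · refine ⟨_, mul_mem D.t_mem_W (D.V_le_W he), ?_⟩
      rw [← conj_mul, yt, ye, tV e he, mul_assoc e, ← mul_assoc D.t, D.tt_mul, ← mul_assoc a,
        E.comm ha he, ← mul_assoc, ← mul_assoc, E.sq e he, one_mul]
  have k : ∀ v ∈ D.V, x * w' * v * (x * w')⁻¹ = x * v * x⁻¹ := fun v hv => by
    rw [m, conj_eq_of_commute (D.W_comm hw' (D.V_le_W hv))]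
  have hc : Commute (x * w') (g * D.t * g⁻¹) := by
    rw [hg]
    refine commute_of_conj_eq ?_
    rw [m, inv_eq_of_sq (D.W_sq hw'), show w' * y * w' = w' * (y * w' * y⁻¹) * y by group, e3,
      ← mul_one w, ← e1, mul_assoc _ _ y, mul_assoc x y, y2, mul_inv_rev, inv_eq_of_sq y2]
    group
  rw [← k c T.mem] at xc
  rw [← k a ha] at xa
  rw [← k e he] at xe
  have hx' := mul_mem (h.N_V hx.1) (D.W_le_B hw').2
  generalize x * w' = x at xc xa xe hc hx'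
  obtain ⟨j, n, ⟨n, rfl⟩, e5⟩ := Nat.exists_eq_two_pow_mul_odd (orderOf_pos x).ne'
  have e6 := D.sq_one h.eight (hc.pow_left (2 * n + 1)) (k := j) (by
    rw [← pow_mul, mul_comm, ← e5, pow_orderOf_eq_one])
  have e7 := pow_mem (E.hyp (mul_mem hx' hx') T.mem ha T.ne a1 ac (XC.fx.1 (by rw [m, xc, xc]))
    (XC.fx.1 (by rw [m, xa, ← conj_mul, xa, xc, mul_assoc, E.sq c T.mem, mul_one]))) n
  have e8 := StdSz.mem_Cs.1 ((mul_mem_cancel_left e7).1 (show (x * x * (x * x)) ^ n * (x * x) ∈ _ by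
    convert (Cs D.V).one_mem
    rw [← e6, ← sq, ← sq x, ← sq]
    group)) e he
  have e9 := conj_eq_of_commute e8
  rw [m, xe, ← conj_mul, xe, xa, mul_assoc, ← mul_assoc a, E.sq a ha, one_mul, mul_eq_left] at e9
  exact T.ne e9

namespace Exc

variable {D : Dat G F} {U : Subgroup G} (h : Exc D U)
include h

theorem cs_of_conj {g : G} (hy : g * D.t * g⁻¹ ∈ D.NU U ⊓ Cs D.O) : g * D.t * g⁻¹ ∈ Cs D.V := by
  by_cases h4 : ∀ u ∈ U, u * u * (u * u) = 1 → u * u = 1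
  · have : ∀ k, ∀ u ∈ U, u ^ 2 ^ k = 1 → u * u = 1 := fun k => by
      induction k with
      | zero => exact fun u _ e => by rw [show u = 1 by simpa using e, mul_one]
      | succ k ih => exact fun u hu e => h4 u hu (ih _ (mul_mem hu hu) (by
          rwa [← sq, ← pow_mul, ← pow_succ']))
    obtain rfl : U = D.V := le_antisymm (fun u hu =>
      have ⟨k, e⟩ := pow_of_two h.inv.two hu
      h.omega hu (this k u hu e)) h.inv.V_le
    exact h.cs_V rfl hy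
  obtain ⟨u, hu, u4, u2⟩ : ∃ u ∈ U, u * u * (u * u) = 1 ∧ u * u ≠ 1 := by simpa using h4
  obtain ⟨c, hc⟩ := h.omega (mul_mem hu hu) u4
  refine StdSz.mem_Cs.2 ?_
  rintro _ ⟨b, rfl⟩
  by_cases hb : b = 0
  · simp [hb]
  obtain ⟨k, e⟩ := D.exists_h (b := c) (fun k => u2 (hc.trans (D.v_eq_one.2 k))) hb
  rw [← hc, ← conj_sq] at e
  have hu' := mem_normalizer_conj (h.inv.B_le (D.h_mem_B k)) hu
  have y2 := Comp.conj_sq D.t_sq g
  have hs := @D.sq_one _ _ _ _ _ _ h.eight g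
  generalize D.h k * u * (D.h k)⁻¹ = u at e hu'
  generalize g * D.t * g⁻¹ = y at hy y2 hs
  have hu'' := mem_normalizer_conj (h.N_U hy.1) hu'
  obtain ⟨j, hj⟩ := pow_of_two h.inv.two (mul_mem hu' hu'')
  have := hs (commute_of_conj_eq (by
    rw [← conj_mul, (h.comm hu' hu'').eq, show y * (y * u * y⁻¹) * y⁻¹ = y * y * u * (y * y)⁻¹ by group,
      y2, one_mul, inv_one, mul_one])).symm hj
  rw [(h.comm hu'' hu').mul_mul_mul_comm, conj_sq, e, mul_eq_one_iff_inv_eq, D.v_inv] at this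
  exact commute_of_conj_eq this.symm

theorem exS {X A : Subgroup G} (a : Amb D.toMod X A) {R : Subgroup G} (hR : IsPGroup 2 R)
    (hN : R ≤ D.NU U ⊓ Cs D.O) : ∃ E : ExS D X U, R ≤ E.S := by
  obtain ⟨S, hS, hle⟩ := exists_isSylowIn_ge (Comp.isPGroup_sup h.two_A hR (hN.trans inf_le_left))
    (sup_le h.A_le hN)
  have hA := le_sup_left.trans hle
  have hSN := hS.le.trans inf_le_left
  have hW : D.W ≤ C1 D.t := D.W_le_B.trans inf_le_left
  have c16 : Nat.card D.W = 16 := by rw [D.card_W, h.eight]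
  have h1 := card_mul_relIndex (inf_le_left : S ⊓ C1 D.t ≤ S)
  rw [inf_relIndex_left, (D.syl8 h.eight).eq_inf hS.isPGroup (h.W_le.trans hA), c16,
    ← KL.ncard_conj] at h1
  have h2 := Set.ncard_le_ncard (h.cls hSN)
  have h3 : ((D.t * ·) '' U).ncard = Nat.card U :=
    Set.ncard_image_of_injective _ (mul_right_injective _)
  have h4 : 16 * Nat.card U ∣ Nat.card S := by
    obtain ⟨k, hk⟩ := h.inv.two.exists_card_eq
    have := card_mul_relIndex (inf_le_left : D.NU U ⊓ Cs D.O ⊓ C1 D.t ≤ _)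
    rw [inf_relIndex_left, h.relIndex, ← card_mul_relIndex hS.le] at this
    refine Nat.Coprime.dvd_of_dvd_mul_right ?_ (this ▸ mul_dvd_mul_right
      (c16 ▸ card_dvd_of_le (le_inf (h.W_le.trans h.A_le) hW)) _)
    rw [hk, show 16 * 2 ^ k = 2 ^ (4 + k) by ring]
    exact ((Nat.Prime.coprime_iff_not_dvd Nat.prime_two).2 hS.not_dvd).pow_left _
  have h5 := Nat.le_of_dvd Nat.card_pos h4
  have hc : Nat.card S = 16 * Nat.card U := by omega
  have h6 := Set.eq_of_subset_of_ncard_le (h.cls hSN) (by omega)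
  obtain ⟨T⟩ := D.exists_syl
  have hT := T.T_eq (T.f_eq_one h.eight)
  have nU : ∀ g, g * D.t * g⁻¹ ∉ U := fun g hg => by
    obtain ⟨b, hb⟩ := h.omega hg (Comp.conj_sq D.t_sq g)
    obtain ⟨_, ⟨c, rfl⟩, c1, -, hz, -⟩ := Comp.exists_fix hS.isPGroup D.two_V (hSN.trans h.N_V)
      fun e => D.v1_ne (mem_bot.1 (e ▸ D.v_mem 1))
    obtain ⟨k, e⟩ := D.exists_h (b := b) (fun k => D.t_ne (conj_eq_one_iff.1
      (hb.trans (D.v_eq_one.2 k)))) (mt D.v_eq_one.2 c1)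
    have := T.card_le (g := D.h k * g) hS.isPGroup fun s hs => StdSz.mem_C1.2 (by
      rw [show D.h k * g * D.t * (D.h k * g)⁻¹ = D.h k * (g * D.t * g⁻¹) * (D.h k)⁻¹ by group, hb, e]
      exact (StdSz.mem_Cs.1 hz s hs).symm)
    have h7 := Subgroup.card_le_of_le h.inv.V_le
    rw [D.card_V, h.eight] at h7
    rw [hT, c16] at this
    omega
  have cl : ∀ g, g * D.t * g⁻¹ ∈ S →
      D.t * (g * D.t * g⁻¹) ∈ U ∧ ∃ s ∈ S, g * D.t * g⁻¹ = s * D.t * s⁻¹ := fun g hg => by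
    have k := (h.mem_A.1 (h.mem_A_of hS.isPGroup hA hSN hg (h.cs_of_conj (hS.le hg)))).resolve_left
      (nU g)
    obtain ⟨s, hs, e⟩ := h6.ge ⟨_, k, D.tt_mul _⟩
    exact ⟨k, s, hs, e.symm⟩
  have ht := hA (mem_sup_right (mem_zpowers _))
  obtain ⟨P, rfl⟩ := T.sylow_of hS.isPGroup (hT ▸ h.W_le.trans hA) fun g hg =>
    (cl g (mem_normalizer_conj hg ht)).2
  refine ⟨⟨P, h, hA, hS.le, hc, cl, ?_, ?_⟩, le_sup_right.trans hle⟩
  · have sq : ∀ s ∈ (P : Subgroup G), s * s ∈ Cs D.V → s * s ∈ U := fun s hs k =>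
      (h.mem_A.1 (h.mem_A_of hS.isPGroup hA hSN (mul_mem hs hs) k)).resolve_right fun k => by
        obtain ⟨n, -, e⟩ := h.trans _ k
        obtain ⟨j, hj⟩ := pow_of_two hS.isPGroup hs
        rw [D.tt_mul] at e
        exact D.t_ne (conj_eq_one_iff.1 (e.trans (D.sq_one h.eight
          (e ▸ (Commute.refl s).mul_right (.refl s)) hj)))
    obtain ⟨x, hx, x4, x2, hs⟩ := h.e8.sq_cases hS.isPGroup (hSN.trans h.N_V)
    have hP := fun z => Local.JC.mem_sup_zpowers_two (x := z) (h.N_U (hSN (mul_mem hx hx)))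
      (sq _ (mul_mem hx hx) x4)
    have key : ∀ x ∈ (P : Subgroup G), ∀ m ∈ (P : Subgroup G), m ∈ Cs D.V →
        x * m * x⁻¹ * m ∈ U := fun x hx m hm k => by
      rcases h.mem_A.1 (h.mem_A_of hS.isPGroup hA hSN hm k) with k | k
      · exact mul_mem (mem_normalizer_conj (h.N_U (hSN hx)) k) k
      · convert mul_mem (mul_mem (mem_normalizer_conj h.t_Ns (cl x (mem_normalizer_conj
          (le_normalizer hx) ht)).1) (mem_normalizer_conj h.t_Ns
          (mem_normalizer_conj (h.N_U (hSN hx)) k))) k using 1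
        simp [mul_assoc, D.tt_mul, D.t_inv]
    refine a.tr P (P := U ⊔ zpowers (x * x)) (fun y hy z hz => comm_mem_of_sq (fun s hs' => ?_) hy hz)
      (fun g hg k => ?_) fun g g' hg hg' => mem_sup_left ?_
    · rcases hs s hs' with k | k | k
      · exact mem_sup_left (sq s hs' k)
      · refine (hP _).2 (.inr ?_)
        convert key x hx _ (mul_mem hx hs') k using 1
        group
      · convert mul_mem (mem_sup_right (mem_zpowers (x * x)))
          (mem_sup_left (key _ (inv_mem hx) _ (mul_mem (inv_mem hx) hs') k)) using 1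
        group
    · have k := ((hP _).1 k).resolve_left (nU g)
      rcases x2 with rfl | x2
      · exact nU g (by simpa using k)
      · exact x2 ((mul_mem_cancel_right (h.cs_of_conj (hS.le hg))).1 (h.A_V (mem_sup_left k)))
    · convert mul_mem (inv_mem (cl g hg).1) (cl g' hg').1 using 1
      simp [mul_assoc, D.tt_mul, D.t_inv]
  · obtain ⟨k, hk⟩ := D.exists_unit
    refine a.le_X' (h.inv.B_le (D.h_mem_B k)) fun z hz hc => by_contra fun z1 => ?_
    obtain ⟨n, n1, n2⟩ := (Comp.Tw.of_mem h.inv.two hz).exists_invol z1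
    obtain ⟨b, e⟩ := h.omega (pow_mem hz n) n2
    exact n1 (e.trans (D.v_eq_one.2 ((D.eq_of_commute_h (e ▸ (hc.pow_left n).symm)).resolve_left hk)))

end Exc

end Cfsg.Lib.StdL2
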