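import Cfsg.Agent.StdL2.ExBA
import Cfsg.Agent.StdL2.ExA

/-!
# Standard subgroups of type `L₂(2ᵃ)`: generators in the exceptional configuration with `U = V`
-/

set_option autoImplicit false

namespace Cfsg.Lib.StdL2

open Subgroup Cfsg.Lib.Gold Cfsg.Lib.Trans Cfsg.Lib.StdSz
open scoped commutatorElement

variable {G : Type*} [Group G] [Finite G] {F : Type*} [Field F] [Finite F]

namespace E1

variable {D : Dat G F} {X A : Subgroup G} {e1 e2 e3 : F}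

/-- The span of `e1`, `e2`. -/
def InL (e1 e2 b : F) : Prop := b = 0 ∨ b = e1 ∨ b = e2 ∨ b = e1 + e2

/-- Elements of `X ∩ N(W) ∩ C(O)` centralising `e1`, `e2`. -/
def Y (D : Dat G F) (X : Subgroup G) (e1 e2 : F) : Subgroup G :=
  (D.NU D.V ⊓ Cs D.O) ⊓ X ⊓ (C1 (D.v e1) ⊓ C1 (D.v e2))

/-- A 2-element inducing the transvection with centre `c`. -/
structure Tr (D : Dat G F) (X : Subgroup G) (e1 e2 e3 : F) (x : G) (c : F) : Prop where
  mem : x ∈ Y D X e1 e2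
  two : ∃ k : ℕ, x ^ 2 ^ k = 1
  act : x * D.v e3 * x⁻¹ = D.v (e3 + c)

omit [Finite G] [Finite F] in
theorem conj_add (x : G) (b c : F) :
    x * D.v (b + c) * x⁻¹ = x * D.v b * x⁻¹ * (x * D.v c * x⁻¹) := by rw [D.v_add]; group

omit [Finite G] [Finite F] in
theorem Y_L {y : G} (hy : y ∈ Y D X e1 e2) {b : F} (hb : InL e1 e2 b) : Commute y (D.v b) := by
  have h1 := StdSz.mem_C1.1 hy.2.1
  have h2 := StdSz.mem_C1.1 hy.2.2
  rcases hb with rfl | rfl | rfl | rfl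
  · rw [D.v_zero]; exact Commute.one_right _
  · exact h1
  · exact h2
  · rw [D.v_add]; exact h1.mul_right h2

variable (h : Exc D D.V) (I : ExB.Ind e1 e2 e3)

section
include h I

omit [Finite G] in
theorem cases (b : F) : InL e1 e2 b ∨ ∃ l, InL e1 e2 l ∧ b = e3 + l := by
  rcases ExB.span D.two h.eight I b with h | h | h | h | h | h | h | h
  · exact Or.inl (Or.inl h)
  · exact Or.inl (Or.inr (Or.inl h))
  · exact Or.inl (Or.inr (Or.inr (Or.inl h)))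
  · exact Or.inl (Or.inr (Or.inr (Or.inr h)))
  · exact Or.inr ⟨0, Or.inl rfl, by rw [h, add_zero]⟩
  · exact Or.inr ⟨e1, Or.inr (Or.inl rfl), h⟩
  · exact Or.inr ⟨e2, Or.inr (Or.inr (Or.inl rfl)), h⟩
  · exact Or.inr ⟨e1 + e2, Or.inr (Or.inr (Or.inr rfl)), by rw [h, add_assoc]⟩

omit [Finite G] in
theorem act_of {y : G} (hy : y ∈ Y D X e1 e2) {c : F} (e : y * D.v e3 * y⁻¹ = D.v (e3 + c))
    (b : F) : InL e1 e2 b ∨ y * D.v b * y⁻¹ = D.v (b + c) := by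
  rcases cases h I b with h1 | ⟨l, h1, rfl⟩
  · exact Or.inl h1
  · right
    rw [conj_add, e, conj_eq_of_commute (Y_L hy h1), ← D.v_add, add_right_comm]

omit [Finite G] in
theorem InL_of {y : G} (hy : y ∈ Y D X e1 e2) {c : F} (e : y * D.v e3 * y⁻¹ = D.v (e3 + c))
    (hc : c ≠ 0) {b : F} (hb : Commute y (D.v b)) : InL e1 e2 b :=
  (act_of h I hy e b).resolve_right fun h1 => hc (by
    rw [conj_eq_of_commute hb] at h1; exact left_eq_add.1 (D.v_inj h1))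

omit [Finite G] in
theorem exists_c {y : G} (hy : y ∈ Y D X e1 e2) :
    ∃ c, InL e1 e2 c ∧ y * D.v e3 * y⁻¹ = D.v (e3 + c) := by
  obtain ⟨b, hb⟩ := mem_normalizer_conj (h.N_V hy.1.1.1) (D.v_mem e3)
  rcases cases h I b with h1 | ⟨l, h1, rfl⟩
  · rw [← conj_eq_of_commute (Y_L hy h1), mul_left_inj, mul_right_inj] at hb
    obtain rfl := D.v_inj hb
    obtain ⟨-, -, -, k1, k2, k3, k4⟩ := I
    rcases h1 with h1 | h1 | h1 | h1 <;> contradiction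
  · exact ⟨l, h1, hb⟩

omit [Finite G] in
theorem comm_all {y : G} (hy : y ∈ Y D X e1 e2) (e : Commute y (D.v e3)) (b : F) :
    Commute y (D.v b) := by
  rcases cases h I b with h1 | ⟨l, h1, rfl⟩
  · exact Y_L hy h1
  · rw [D.v_add]; exact e.mul_right (Y_L hy h1)

omit [Finite G] in
theorem sq_comm {y : G} (hy : y ∈ Y D X e1 e2) (b : F) : Commute (y * y) (D.v b) := by
  obtain ⟨c, h1, e⟩ := exists_c h I hy
  refine comm_all h I (mul_mem hy hy) (commute_of_conj_eq ?_) b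
  rw [show y * y * D.v e3 * (y * y)⁻¹ = y * (y * D.v e3 * y⁻¹) * y⁻¹ by group, e, conj_add, e,
    conj_eq_of_commute (Y_L hy h1), ← D.v_add, add_assoc, D.addF, add_zero]

end

include h in
theorem ker {g : G} (hg : g ∈ D.NU D.V) (hc : ∀ b, Commute g (D.v b)) :
    ∃ w ∈ D.W, ∃ o ∈ D.O, g = w * o := by
  obtain ⟨u, hu, o, ho, e | e⟩ := h.cV g hg hc
  · exact ⟨u, D.V_le_W hu, o, ho, e⟩
  · exact ⟨_, D.W.mul_mem D.t_mem_W (D.V_le_W hu), o, ho, by rw [e, mul_assoc]⟩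

variable (a : Amb D.toMod X A) (ht : D.t ∉ X)

include a ht in
theorem W_X {w : G} (hw : w ∈ D.W) (hX : w ∈ X) : w ∈ D.V :=
  (D.mem_W'.1 hw).resolve_right fun h1 => ht ((X.mul_mem_cancel_right hX).1 (a.V_le h1))

include h a ht in
theorem kerV {g : G} (hg : g ∈ D.NU D.V) (hX : g ∈ X) (hc : ∀ b, Commute g (D.v b)) {k : ℕ}
    (hk : g ^ 2 ^ k = 1) : g ∈ D.V := by
  obtain ⟨w, hw, o, ho, rfl⟩ := ker h hg hc
  have h1 : o ^ 2 ^ (k + 1) = 1 := by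
    have := congrArg (· ^ 2) hk
    simp only [← pow_mul, one_pow] at this
    rwa [(D.O_W ho hw).symm.mul_pow, mul_comm (2 ^ k), pow_mul, sq, D.W_sq hw, one_pow, one_mul,
      mul_comm, ← pow_succ] at this
  obtain rfl := StdU3.eq_one_of_odd_pow (odd_orderOf D.O_odd ho) h1
  rw [mul_one] at hX ⊢
  exact W_X a ht hw hX

omit [Finite F] in
theorem W_N1 {w : G} (hw : w ∈ D.W) : w ∈ D.NU D.V ⊓ Cs D.O :=
  ⟨le_normalizer hw, StdSz.mem_Cs.2 fun _ ho => (D.O_W ho hw).symm⟩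

omit [Finite F] in
include a in
theorem v_Y (b : F) : D.v b ∈ Y D X e1 e2 :=
  ⟨⟨W_N1 (D.v_mem_W b), a.v_X b⟩, StdSz.mem_C1.2 (D.v_comm _ _), StdSz.mem_C1.2 (D.v_comm _ _)⟩

omit [Finite F] in
include h a in
theorem linX (L : F ≃+ F) : ∃ g ∈ (D.NU D.V ⊓ Cs D.O) ⊓ X, ∀ b, g * D.v b * g⁻¹ = D.v (L b) := by
  obtain ⟨g, hg, e⟩ := h.lin L
  rcases a.gen g with h1 | h1
  · exact ⟨g, ⟨hg, h1⟩, e⟩
  · refine ⟨_, ⟨mul_mem (W_N1 D.t_mem_W) hg, h1⟩, fun b => ?_⟩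
    rw [show D.t * g * D.v b * (D.t * g)⁻¹ = D.t * (g * D.v b * g⁻¹) * D.t⁻¹ by group, e,
      conj_eq_of_commute (D.t_v _)]

include h I a in
theorem lin3 {f1 f2 f3 : F} (I' : ExB.Ind f1 f2 f3) : ∃ g ∈ (D.NU D.V ⊓ Cs D.O) ⊓ X,
    g * D.v e1 * g⁻¹ = D.v f1 ∧ g * D.v e2 * g⁻¹ = D.v f2 ∧ g * D.v e3 * g⁻¹ = D.v f3 := by
  obtain ⟨L, h1, h2, h3⟩ := ExB.exists_equiv D.two h.eight I I'
  obtain ⟨g, hg, e⟩ := linX h a L
  exact ⟨g, hg, by rw [e, h1], by rw [e, h2], by rw [e, h3]⟩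

include h I in
theorem exists_R : ∃ R : Subgroup G, IsPGroup 2 R ∧
    (∀ y, y ∈ R ↔ y ∈ Y D X e1 e2 ∧ ∃ k : ℕ, y ^ 2 ^ k = 1) ∧
    ∀ y ∈ Y D X e1 e2, ∃ x ∈ R, ∃ o ∈ D.O, y = x * o :=
  exists_two_part D.O_odd (fun _ hy _ ho => StdSz.mem_Cs.1 hy.1.1.2 _ ho) fun y hy => by
    obtain ⟨w, hw, o, ho, e⟩ := ker h (mul_mem hy hy).1.1.1 (sq_comm h I hy)
    refine ⟨2, ?_⟩
    rw [show 2 ^ 2 = 2 * 2 from rfl, pow_mul, sq y, e, (D.O_W ho hw).symm.mul_pow, sq, D.W_sq hw,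
      one_mul]
    exact D.O.pow_mem ho 2

include h I in
theorem two_mul {x y : G} (hx : x ∈ Y D X e1 e2) (hy : y ∈ Y D X e1 e2)
    (h1 : ∃ k : ℕ, x ^ 2 ^ k = 1) (h2 : ∃ k : ℕ, y ^ 2 ^ k = 1) : ∃ k : ℕ, (x * y) ^ 2 ^ k = 1 := by
  obtain ⟨R, -, hR, -⟩ := exists_R (X := X) h I
  exact ((hR _).1 (R.mul_mem ((hR x).2 ⟨hx, h1⟩) ((hR y).2 ⟨hy, h2⟩))).2

include h I in
theorem Tr.mul {x y : G} {c d : F} (hx : Tr D X e1 e2 e3 x c) (hy : Tr D X e1 e2 e3 y d)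
    (hd : InL e1 e2 d) : Tr D X e1 e2 e3 (x * y) (c + d) :=
  ⟨mul_mem hx.mem hy.mem, two_mul h I hx.mem hy.mem hx.two hy.two, by
    rw [show x * y * D.v e3 * (x * y)⁻¹ = x * (y * D.v e3 * y⁻¹) * x⁻¹ by group, hy.act, conj_add,
      hx.act, conj_eq_of_commute (Y_L hx.mem hd), ← D.v_add, add_assoc]⟩

include h I a in
theorem Tr.vmul {x : G} {c : F} (hx : Tr D X e1 e2 e3 x c) (hc : InL e1 e2 c) (b : F) :
    Tr D X e1 e2 e3 (D.v b * x) c := by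
  have := Tr.mul h I (c := 0) ⟨v_Y a b, ⟨1, by rw [pow_one, sq, D.v_sq]⟩, by
    rw [conj_eq_of_commute (D.v_comm _ _), add_zero]⟩ hx hc
  rwa [zero_add] at this

omit [Finite G] [Finite F] in
theorem two_conj {x : G} (g : G) (hx : ∃ k : ℕ, x ^ 2 ^ k = 1) :
    ∃ k : ℕ, (g * x * g⁻¹) ^ 2 ^ k = 1 :=
  hx.imp fun k hk => by rw [conj_pow, hk, mul_one, mul_inv_cancel]

omit [Finite G] [Finite F] in
theorem Y_conj {g x : G} (hg : g ∈ (D.NU D.V ⊓ Cs D.O) ⊓ X) {l1 l2 : F} (h1 : InL e1 e2 l1)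
    (h2 : InL e1 e2 l2) (k1 : g * D.v l1 * g⁻¹ = D.v e1) (k2 : g * D.v l2 * g⁻¹ = D.v e2)
    (hx : x ∈ Y D X e1 e2) : g * x * g⁻¹ ∈ Y D X e1 e2 :=
  ⟨Subgroup.mul_mem _ (Subgroup.mul_mem _ hg hx.1) (Subgroup.inv_mem _ hg), StdSz.mem_C1.2 (k1 ▸ commute_conj (Y_L hx h1) g),
    StdSz.mem_C1.2 (k2 ▸ commute_conj (Y_L hx h2) g)⟩

omit [Finite G] [Finite F] in
theorem Tr.conj {g x : G} (hg : g ∈ (D.NU D.V ⊓ Cs D.O) ⊓ X) {l1 l2 : F} (h1 : InL e1 e2 l1)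
    (h2 : InL e1 e2 l2) (k1 : g * D.v l1 * g⁻¹ = D.v e1) (k2 : g * D.v l2 * g⁻¹ = D.v e2)
    (k3 : g * D.v e3 * g⁻¹ = D.v e3) {c d : F} (k : g * D.v c * g⁻¹ = D.v d)
    (hx : Tr D X e1 e2 e3 x c) : Tr D X e1 e2 e3 (g * x * g⁻¹) d :=
  ⟨Y_conj hg h1 h2 k1 k2 hx.mem, two_conj g hx.two, by
    rw [D.v_add, ← k, ← k3, ← conj_add, ← hx.act]; group⟩

include h I a ht

theorem sq_mem {x : G} (hx : x ∈ Y D X e1 e2) (h2 : ∃ k : ℕ, x ^ 2 ^ k = 1) :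
    ∃ l, InL e1 e2 l ∧ x * x = D.v l := by
  obtain ⟨c, -, e⟩ := exists_c h I hx
  obtain ⟨k, hk⟩ := h2
  by_cases hc : c = 0
  · rw [hc, add_zero] at e
    exact ⟨0, Or.inl rfl, by
      rw [D.V_sq (kerV h a ht hx.1.1.1 hx.1.2 (comm_all h I hx (commute_of_conj_eq e)) hk),
        D.v_zero]⟩
  obtain ⟨l, hl⟩ := kerV h a ht (mul_mem hx hx).1.1.1 (mul_mem hx hx).1.2 (sq_comm h I hx) (k := k)
    (by rw [← sq, ← pow_mul, mul_comm, pow_mul, hk, one_pow])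
  exact ⟨l, InL_of h I hx e hc (hl ▸ (Commute.refl x).mul_right (Commute.refl x)), hl⟩

theorem exists_Tr {c : F} (hc : InL e1 e2 c) : ∃ x, Tr D X e1 e2 e3 x c := by
  have I' : ExB.Ind e1 e2 (e3 + c) := by
    obtain ⟨k1, k2, k3, k4, k5, k6, k7⟩ := I
    have two := D.two
    refine ⟨k1, k2, k3, ?_, ?_, ?_, ?_⟩ <;> rcases hc with rfl | rfl | rfl | rfl <;> intro e <;>
      first
      | exact k4 (by linear_combination e)
      | exact k5 (by linear_combination e)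
      | exact k6 (by linear_combination e)
      | exact k7 (by linear_combination e)
      | exact k4 (by linear_combination e - e1 * two)
      | exact k5 (by linear_combination e - c * two)
      | exact k6 (by linear_combination e - c * two)
      | exact k7 (by linear_combination e - c * two)
      | exact k5 (by linear_combination e - e1 * two)
      | exact k6 (by linear_combination e - e2 * two)
      | exact k7 (by linear_combination e - (e1 + e2) * two)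
  obtain ⟨g, hg, k1, k2, k3⟩ := lin3 h I a I'
  obtain ⟨R, -, hR, hd⟩ := exists_R (X := X) h I
  obtain ⟨x, hx, o, ho, rfl⟩ := hd g ⟨hg, StdSz.mem_C1.2 (commute_of_conj_eq k1),
    StdSz.mem_C1.2 (commute_of_conj_eq k2)⟩
  refine ⟨x, ((hR x).1 hx).1, ((hR x).1 hx).2, ?_⟩
  rw [← k3, show x * o * D.v e3 * (x * o)⁻¹ = x * (o * D.v e3 * o⁻¹) * x⁻¹ by group,
    conj_eq_of_commute (D.O_W ho (D.v_mem_W e3))]

theorem Tr.eq {x y : G} {c : F} (hx : Tr D X e1 e2 e3 x c) (hy : Tr D X e1 e2 e3 y c) :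
    ∃ b, y = D.v b * x := by
  have h1 : x⁻¹ * y ∈ Y D X e1 e2 := mul_mem (inv_mem hx.mem) hy.mem
  obtain ⟨k, hk⟩ := two_mul h I (inv_mem hx.mem) hy.mem
    (hx.two.imp fun k hk => by rw [inv_pow, hk, inv_one]) hy.two
  obtain ⟨b, hb⟩ := mem_normalizer_conj (h.N_V hx.mem.1.1.1) (kerV h a ht h1.1.1.1 h1.1.2
    (comm_all h I h1 (commute_of_conj_eq (by
      rw [show x⁻¹ * y * D.v e3 * (x⁻¹ * y)⁻¹ = x⁻¹ * (y * D.v e3 * y⁻¹) * x by group, hy.act,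
        ← hx.act]; group))) hk)
  exact ⟨b, by rw [← hb]; group⟩

omit h I a ht [Finite G] [Finite F] in
theorem comm_iff {x y : G} {l b c b' c' : F} (e : ⁅x, y⁆ = D.v l) (k1 : x * D.v c * x⁻¹ = D.v c')
    (k2 : y * D.v b * y⁻¹ = D.v b') :
    Commute (D.v b * x) (D.v c * y) ↔ b + c' + l = c + b' := by
  rw [← D.v_inj.eq_iff, D.v_add, D.v_add, D.v_add, ← k1, ← k2, ← e, Commute, SemiconjBy,
    ← mul_left_inj (x⁻¹ * y⁻¹), commutatorElement_def]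
  constructor <;> intro h
  · calc _ = D.v b * x * (D.v c * y) * (x⁻¹ * y⁻¹) := by group
      _ = _ := by rw [h]; group
  · calc _ = D.v b * (x * D.v c * x⁻¹) * (x * y * x⁻¹ * y⁻¹) := by group
      _ = _ := by rw [h]; group

theorem exists_pair : ∃ x y, Tr D X e1 e2 e3 x e1 ∧ Tr D X e1 e2 e3 y e2 ∧ Commute x y := by
  have l1 : InL e1 e2 e1 := Or.inr (Or.inl rfl)
  have l2 : InL e1 e2 e2 := Or.inr (Or.inr (Or.inl rfl))
  obtain ⟨x, hx⟩ := exists_Tr h I a ht l1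
  obtain ⟨y, hy⟩ := exists_Tr h I a ht l2
  obtain ⟨R, -, hR, -⟩ := exists_R (X := X) h I
  obtain ⟨⟨l, hl⟩, h1⟩ := comm_mem_of_sq (S := R) (Ψ := D.V ⊓ C1 x) (fun z hz => by
    obtain ⟨l, h1, e⟩ := sq_mem h I a ht ((hR z).1 hz).1 ((hR z).1 hz).2
    exact e ▸ ⟨D.v_mem l, StdSz.mem_C1.2 (Y_L hx.mem h1).symm⟩) ((hR x).2 ⟨hx.mem, hx.two⟩)
    ((hR y).2 ⟨hy.mem, hy.two⟩)
  have z : ∀ g : G, g * D.v 0 * g⁻¹ = D.v 0 := fun g => by rw [D.v_zero]; group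
  have two := D.two
  rcases InL_of h I hx.mem hx.act I.1 (hl ▸ (StdSz.mem_C1.1 h1).symm) with e | e | e | e
  · exact ⟨_, _, hx.vmul h I a l1 0, hy.vmul h I a l2 0,
      (comm_iff hl (z x) (z y)).2 (by rw [e]; ring)⟩
  · exact ⟨_, _, hx.vmul h I a l1 0, hy.vmul h I a l2 e3,
      (comm_iff hl hx.act (z y)).2 (by linear_combination e + e1 * two)⟩
  · exact ⟨_, _, hx.vmul h I a l1 e3, hy.vmul h I a l2 0,
      (comm_iff hl (z x) hy.act).2 (by linear_combination e)⟩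
  · exact ⟨_, _, hx.vmul h I a l1 e3, hy.vmul h I a l2 e3,
      (comm_iff hl hx.act hy.act).2 (by linear_combination e + e1 * two)⟩

theorem uniq {x y x' y' : G} (hx : Tr D X e1 e2 e3 x e1) (hy : Tr D X e1 e2 e3 y e2)
    (hc : Commute x y) (hx' : Tr D X e1 e2 e3 x' e1) (hy' : Tr D X e1 e2 e3 y' e2)
    (hc' : Commute x' y') : (∃ b, InL e1 e2 b ∧ x' = D.v b * x) ∧
      ∃ c, InL e1 e2 c ∧ y' = D.v c * y := by
  obtain ⟨b, rfl⟩ := hx.eq h I a ht hx'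
  obtain ⟨c, rfl⟩ := hy.eq h I a ht hy'
  have e : ⁅x, y⁆ = D.v 0 := by rw [D.v_zero, commutatorElement_eq_one_iff_commute.2 hc]
  obtain ⟨k1, k2, k3, -⟩ := id I
  rcases act_of h I hx.mem hx.act c with h1 | h1 <;>
    rcases act_of h I hy.mem hy.act b with h2 | h2
  · exact ⟨⟨b, h2, rfl⟩, c, h1, rfl⟩
  · have := (comm_iff e (conj_eq_of_commute (Y_L hx.mem h1)) h2).1 hc'
    exact absurd (by linear_combination -this) k2
  · have := (comm_iff e h1 (conj_eq_of_commute (Y_L hy.mem h2))).1 hc'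
    exact absurd (by linear_combination this) k1
  · have := (comm_iff e h1 h2).1 hc'
    exact absurd (by linear_combination this) k3

omit I ht in
theorem tc {x : G} (hx : x ∈ D.NU D.V ⊓ Cs D.O) (h2 : x * x ∈ D.V)
    (hn : ¬ ∀ b, Commute x (D.v b)) : ∃ c, D.t * x * D.t = x * D.v c ∧ Commute x (D.v c) ∧
      ∀ b, x * D.v b * x⁻¹ ≠ D.v (b + c) := by
  have _ := a
  obtain ⟨c, e | e⟩ := D.mem_W.1 (mem_normalizer_conj' hx.1 D.t_mem_W)
  · refine absurd ?_ D.t_not_mem_V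
    rw [show D.t = x * (x⁻¹ * D.t * x) * x⁻¹ by group, e]
    exact mem_normalizer_conj (h.N_V hx.1) (D.v_mem c)
  have k1 : Commute x (D.v c) := by
    have h3 := conj_eq_of_commute (D.W_t (D.V_le_W h2)).inv_left
    rw [show (x * x)⁻¹ * D.t * (x * x)⁻¹⁻¹ = x⁻¹ * (x⁻¹ * D.t * x) * x by simp [mul_assoc], e,
      show x⁻¹ * (D.t * D.v c) * x = x⁻¹ * D.t * x * (x⁻¹ * D.v c * x⁻¹⁻¹) by group, e, mul_assoc,
      mul_eq_left, mul_eq_one_iff_inv_eq, D.v_inv] at h3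
    simpa using (commute_of_conj_eq h3.symm).inv_left
  have k2 : x * D.t * x⁻¹ = D.t * D.v c := by
    have h3 : D.t = x * D.t * x⁻¹ * (x * D.v c * x⁻¹) := by
      rw [show x * D.t * x⁻¹ * (x * D.v c * x⁻¹) = x * (D.t * D.v c) * x⁻¹ by group, ← e]; group
    rw [conj_eq_of_commute k1] at h3
    rw [h3, mul_assoc _ (D.v c), D.v_sq, mul_one, ← h3]
  refine ⟨c, ?_, k1, fun b hb => hn fun d => ?_⟩
  · rw [show D.t * x * D.t = x * (x⁻¹ * D.t * x * D.t) by group, e, (D.t_v c).eq, mul_assoc,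
      D.t_sq, mul_one]
  obtain ⟨g, hg, k3⟩ := h.trans _ (D.v_mem b)
  have k4 : x * (D.t * D.v b) * x⁻¹ = D.t * D.v b := by
    rw [show x * (D.t * D.v b) * x⁻¹ = x * D.t * x⁻¹ * (x * D.v b * x⁻¹) by group, k2, hb,
      mul_assoc, ← D.v_add, add_left_comm, D.addF, add_zero]
  have k5 := h.cocycle (y := g⁻¹ * x * g) (mul_mem (mul_mem (inv_mem hg.1) hx.1) hg.1) (k := 2)
    (by
      have := conj_pow (i := 2 ^ 2) (a := g⁻¹) (b := x)
      rw [inv_inv] at this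
      rw [this, show 2 ^ 2 = 2 * 2 from rfl, pow_mul, sq x, sq, D.V_sq h2, mul_one, inv_mul_cancel])
    D.V.one_mem (by
      rw [show g⁻¹ * x * g * D.t * (g⁻¹ * x * g)⁻¹ = g⁻¹ * (x * (g * D.t * g⁻¹) * x⁻¹) * g by group,
        k3, k4, ← k3]; group)
  have k6 := mem_normalizer_conj hg.1 k5
  rw [show g * (g⁻¹ * x * g) * g⁻¹ = x by group] at k6
  exact D.W_v k6 d

theorem Tr.tc {x : G} {c : F} (hx : Tr D X e1 e2 e3 x c) (hc : c ≠ 0) :
    ∃ d, D.t * x * D.t = x * D.v d ∧ InL e1 e2 d ∧ d ≠ 0 ∧ d ≠ c := by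
  obtain ⟨l, -, e⟩ := sq_mem h I a ht hx.mem hx.two
  obtain ⟨d, k1, k2, k3⟩ := E1.tc h a hx.mem.1.1 ⟨l, e⟩ fun k => hc (by
    have := hx.act
    rw [conj_eq_of_commute (k e3)] at this
    exact left_eq_add.1 (D.v_inj this))
  refine ⟨d, k1, InL_of h I hx.mem hx.act hc k2, ?_, ?_⟩
  · rintro rfl
    exact k3 0 (by rw [add_zero, D.v_zero]; group)
  · rintro rfl
    exact k3 e3 hx.act

end E1

open E1 in
theorem Exc.ex1 {D : Dat G F} {X A : Subgroup G} (h : Exc D D.V) (a : Amb D.toMod X A) :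
    Nonempty (Ex1 D X) := by
  classical
  obtain ⟨E0, -⟩ := h.exS a (R := ⊥) IsPGroup.of_bot bot_le
  have ht := E0.t_X
  have two := D.two
  obtain ⟨e1, e2, e3, I⟩ : ∃ e1 e2 e3 : F, ExB.Ind e1 e2 e3 := by
    obtain ⟨e2, h2⟩ := exists_not_mem_finset ({0, 1} : Finset F)
      (lt_of_le_of_lt Finset.card_le_two (by rw [h.eight]; omega))
    obtain ⟨e3, h3⟩ := exists_not_mem_finset ({0, 1, e2, 1 + e2} : Finset F)
      (lt_of_le_of_lt Finset.card_le_four (by rw [h.eight]; omega))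
    simp only [Finset.mem_insert, Finset.mem_singleton, not_or] at h2 h3
    exact ⟨1, e2, e3, one_ne_zero, h2.1, Ne.symm h2.2, h3⟩
  obtain ⟨i1, i2, i3, i4, i5, i6, i7⟩ := id I
  have i8 : e1 + e2 ≠ 0 := fun e => i3 (D.add_eq_zeroF.1 e)
  have l1 : InL e1 e2 e1 := Or.inr (Or.inl rfl)
  have l2 : InL e1 e2 e2 := Or.inr (Or.inr (Or.inl rfl))
  have l3 : InL e1 e2 (e1 + e2) := Or.inr (Or.inr (Or.inr rfl))
  obtain ⟨x, y, hx, hy, hc⟩ := exists_pair h I a ht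
  have sq : x * x = 1 ∨ x * x = D.v e1 := by
    obtain ⟨n, hn, k1, k2, k3⟩ := lin3 h I a (f1 := e1) (f2 := e1 + e2) (f3 := e3)
      ⟨i1, i8, fun e => i2 (by linear_combination -e), i4, i5, i7,
        fun e => i6 (by linear_combination e + e1 * two)⟩
    have k4 : n * D.v (e1 + e2) * n⁻¹ = D.v e2 := by
      rw [conj_add, k1, k2, ← D.v_add, ← add_assoc, D.addF, zero_add]
    obtain ⟨⟨b, hb, e⟩, -⟩ := uniq h I a ht hx hy hc (hx.conj hn l1 l3 k1 k4 k3 k1)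
      ((hx.mul h I hy l2).conj hn l1 l3 k1 k4 k3 k4)
      (commute_conj ((Commute.refl x).mul_right hc) n)
    obtain ⟨l, hl, e'⟩ := sq_mem h I a ht hx.mem hx.two
    have k5 : n * D.v l * n⁻¹ = D.v l := by
      rw [← e', ← conj_sq, e, (Y_L hx.mem hb).mul_mul_mul_comm, D.v_sq, one_mul]
    rcases hl with rfl | rfl | rfl | rfl
    · exact Or.inl (by rw [e', D.v_zero])
    · exact Or.inr e'
    · exact absurd (by linear_combination D.v_inj (k2.symm.trans k5)) i1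
    · exact absurd (by linear_combination -D.v_inj (k4.symm.trans k5)) i1
  obtain ⟨z, hz, hz2⟩ : ∃ z, Tr D X e1 e2 e3 z e1 ∧ z * z = 1 := by
    rcases sq with e | e
    · exact ⟨x, hx, e⟩
    refine ⟨_, hx.vmul h I a l1 e3, ?_⟩
    rw [show D.v e3 * x * (D.v e3 * x) = D.v e3 * (x * D.v e3 * x⁻¹) * (x * x) by group, hx.act, e,
      ← D.v_add, ← D.v_add, D.v_eq_one]
    linear_combination (e3 + e1) * two
  obtain ⟨n, hn, k1, k2, k3⟩ := lin3 h I a (f1 := e1 + e2) (f2 := e3) (f3 := e1)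
    ⟨i8, i4, i7.symm, i1, fun e => i2 (by linear_combination -e), i5.symm,
      fun e => i6 (by linear_combination -e - e2 * two)⟩
  have hw : n * z * n⁻¹ ∈ (D.NU D.V ⊓ Cs D.O) ⊓ X := mul_mem (mul_mem hn hz.mem.1) (inv_mem hn)
  have w2 : n * z * n⁻¹ * (n * z * n⁻¹) = 1 := by rw [conj_sq, hz2, mul_one, mul_inv_cancel]
  have w3 : Commute (n * z * n⁻¹) (D.v e3) := k2 ▸ commute_conj (Y_L hz.mem l2) n
  have w1 : n * z * n⁻¹ * D.v e1 * (n * z * n⁻¹)⁻¹ = D.v e2 := by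
    rw [← k3, show n * z * n⁻¹ * (n * D.v e3 * n⁻¹) * (n * z * n⁻¹)⁻¹ =
      n * (z * D.v e3 * z⁻¹) * n⁻¹ by group, hz.act, conj_add, k3, k1, ← D.v_add, ← add_assoc,
      D.addF, zero_add]
  generalize n * z * n⁻¹ = w at hw w2 w3 w1
  have wi : w⁻¹ = w := inv_eq_of_mul_eq_one_right w2
  have w1' : w * D.v e2 * w⁻¹ = D.v e1 := by
    rw [← w1, show w * (w * D.v e1 * w⁻¹) * w⁻¹ = w * w * D.v e1 * (w * w)⁻¹ by group, w2]; group
  have w3' := conj_eq_of_commute w3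
  have hy' := hx.conj hw l2 l1 w1' w1 w3' w1
  have hc' : Commute x (w * x * w⁻¹) := by
    obtain ⟨-, c, h1, e⟩ := uniq h I a ht hx hy hc (hy.conj hw l2 l1 w1' w1 w3' w1') hy'
      (commute_conj hc.symm w)
    exact e ▸ (Y_L hx.mem h1).mul_right hc
  obtain ⟨R, hR2, hR, -⟩ := exists_R (X := X) h I
  have hwR : zpowers w ≤ Ns R := zpowers_le.2 (mem_Ns fun g hg => (hR _).2
    ⟨Y_conj hw l2 l1 w1' w1 ((hR g).1 hg).1, two_conj w ((hR g).1 hg).2⟩)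
  obtain ⟨E, hE⟩ := h.exS a (R := zpowers w ⊔ R) ((two_zpowers (k := 1)
    (by rw [pow_one, pow_two, w2])).to_sup_of_normal_right' hR2 hwR)
    (sup_le (zpowers_le.2 hw.1) fun g hg => ((hR g).1 hg).1.1.1)
  refine ⟨⟨E, e1, e2, e3, x, w * x * w⁻¹, w, ExB.span two h.eight I, I,
    ⟨hE (mem_sup_right ((hR x).2 ⟨hx.mem, hx.two⟩)), hx.mem.1.2⟩,
    ⟨hE (mem_sup_left (mem_zpowers w)), hw.2⟩, hc', Y_L hx.mem l1, Y_L hx.mem l2, hx.act, w2,
    by rw [wi], by rw [← w1, wi], w3, sq, ?_, ?_⟩⟩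
  · obtain ⟨c1, p1, p2, p3, p4⟩ := hx.tc h I a ht i1
    obtain ⟨c2, q1, q2, q3, q4⟩ := hy'.tc h I a ht i2
    obtain ⟨c3, r1, -, r3, r4⟩ := (hx.mul h I hy' l2).tc h I a ht i8
    have e : c3 = c1 + c2 := by
      rw [show D.t * (x * (w * x * w⁻¹)) * D.t = D.t * x * D.t⁻¹ * (D.t * (w * x * w⁻¹) * D.t) by
        group, D.t_inv, p1, q1, mul_assoc x (D.v c1), ← mul_assoc (D.v c1),
        ← (Y_L hy'.mem p2).eq, mul_assoc _ (D.v c1), ← D.v_add, ← mul_assoc x, mul_right_inj] at r1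
      exact (D.v_inj r1).symm
    rcases p2 with p | p | p | p <;> rcases q2 with q | q | q | q <;> try contradiction
    · exact absurd (by rw [e, p, q, add_comm]) r4
    · exact Or.inl ⟨p ▸ p1, q ▸ q1⟩
    · exact Or.inr ⟨p ▸ p1, q ▸ q1⟩
    · exact absurd (by rw [e, p, q, D.addF]) r3
  · obtain ⟨c, p1, p2, p3⟩ := tc h a hw.1 (w2 ▸ D.V.one_mem) fun k => i3 (by
      rw [conj_eq_of_commute (k e1)] at w1; exact D.v_inj w1)
    have p4 := conj_eq_of_commute p2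
    rcases ExB.span two h.eight I c with rfl | rfl | rfl | rfl | rfl | rfl | rfl | rfl
    · exact absurd (by rw [add_zero, D.v_zero]; group) (p3 0)
    · exact absurd (D.v_inj (p4.symm.trans w1)) i3
    · exact absurd (D.v_inj (w1'.symm.trans p4)) i3
    · exact absurd (by rw [w1, ← add_assoc, D.addF, zero_add]) (p3 e1)
    · exact Or.inl p1
    · rw [conj_add, w3', w1, ← D.v_add] at p4
      exact absurd (by linear_combination -D.v_inj p4) (sub_ne_zero.2 i3)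
    · rw [conj_add, w3', w1', ← D.v_add] at p4
      exact absurd (by linear_combination D.v_inj p4) (sub_ne_zero.2 i3)
    · exact Or.inr p1

end Cfsg.Lib.StdL2
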