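import Cfsg.Agent.StdL2.TopA
import Cfsg.Agent.G2T.TM
import Cfsg.Agent.G2T.Frame
import Cfsg.Agent.Local.InvCent

/-!
# Standard subgroups of type `L₂(2ᵃ)`: the top of the abelian tower
-/

set_option autoImplicit false
set_option linter.unusedSectionVars false

namespace Cfsg.Lib.StdL2

open Subgroup Cfsg.Lib.Gold Cfsg.Lib.Trans Cfsg.Lib.StdSz
open scoped commutatorElement

variable {G : Type*} [Group G] [Finite G] {F : Type*} [Field F] [Finite F]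

namespace Top

variable {D : Dat G F} {Z X A : Subgroup G} (h : Top D Z) (S : Syl D.toMod) {g s w x y z : G}
include h

theorem conj_Z1 (h4 : Nat.card F ≠ 4) (hy : g * D.t * g⁻¹ ∈ Z ⊔ S.T) :
    g * D.t * g⁻¹ ∈ Z ⊔ zpowers D.t := by
  by_contra y1
  obtain ⟨s, hs, s1, -, w, e⟩ := h.conj_T S hy y1 (Comp.conj_sq D.t_sq g)
  exact h4 (h.four_of_conj S (g := w⁻¹ * g) hs s1 (by
    calc _ = w⁻¹ * (g * D.t * g⁻¹) * w := by group
      _ = s := by rw [e]; group))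

theorem pow_four (h4 : Nat.card F = 4) (hs : s ∈ S.T) (s1 : S.σ s ≠ 1) (e : g * D.t * g⁻¹ = s)
    (hz : z ∈ Z) : z * z * (z * z) = 1 := by
  have s2 : s * s = 1 := e ▸ Comp.conj_sq D.t_sq g
  have nt : D.t ∈ Ns (Z ⊓ C1 s) := mem_Ns_inf h.t_N (mem_Ns_C1 (S.T_t hs).symm.eq)
  have ns : s ∈ Ns (Z ⊓ C1 s ⊔ zpowers D.t) := mem_normalizer_of_cj_le (by
    rw [cj_sup, cj_zpowers, conj_eq_of_commute (S.T_t hs),
      cj_eq_of_mem_normalizer (mem_Ns_inf (h.T_N S hs) (mem_Ns_C1 rfl))])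
  have l1 : Z ⊓ C1 s ⊔ zpowers D.t ≤ Z ⊔ zpowers D.t := sup_le_sup_right inf_le_left _
  have c1 := Comp.card_of_idx le_sup_left
    (fun e => h.t_not (mem_inf.1 (e (mem_sup_right (mem_zpowers _)))).1)
    (Comp.idx_sup_zpowers D.t_sq nt)
  have c2 := Comp.card_of_idx le_sup_left (fun e => s1 ((h.mem_Z1 S (one_mem Z) hs).1 (by
    rw [one_mul]; exact l1 (e (mem_sup_right (mem_zpowers _)))))) (Comp.idx_sup_zpowers s2 ns)
  have c3 := S.card_le (g := g) (R := Z ⊓ C1 s ⊔ zpowers D.t ⊔ zpowers s)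
    ((h.two_S S).to_le (sup_le (l1.trans (Z1_le S)) (zpowers_le.2 (mem_sup_right hs))))
    (by
      rw [e]
      exact sup_le (sup_le inf_le_right (zpowers_le.2 (StdSz.mem_C1.2 (S.T_t hs).symm)))
        (zpowers_le.2 (StdSz.mem_C1.2 (Commute.refl s))))
  have c4 := S.f_le_two h4
  rw [c2, c1, S.card_T, h4] at c3
  by_contra hn
  obtain ⟨n, n1, n2⟩ := (Comp.Tw.of_mem h.two (mul_mem (mul_mem hz hz) (mul_mem hz hz))).exists_invol hn
  obtain ⟨c, hc⟩ := h.omega _ (pow_mem (mul_mem (mul_mem hz hz) (mul_mem hz hz)) n) n2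
  obtain ⟨b, hb⟩ : ∃ b, S.σ s b ≠ b := by
    by_contra! e1; exact s1 (RingEquiv.ext e1)
  obtain ⟨w, hw, e1⟩ := h.exists_pow_eq (pow_mem hz n) (n := 4) (c := c) (by
      rw [← hc, ← pow_mul, mul_comm, pow_mul]; simp only [pow_succ, pow_zero, one_mul, mul_assoc])
    (fun e => n1 (by rw [hc, e, D.v_zero])) (b := b) fun e => hb (by rw [e, map_zero])
  have hm : w * (s * w * s⁻¹) ∈ Z ⊓ C1 s := ⟨mul_mem hw (mem_normalizer_conj (h.T_N S hs) hw),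
    StdSz.mem_C1.2 (h.nm_comm S hs s2 hw)⟩
  obtain ⟨j, hj⟩ := IsPGroup.iff_card.1 (h.two.to_inf_left (K := C1 s))
  have j2 : j ≤ 2 := (Nat.pow_le_pow_iff_right one_lt_two).1 (by omega)
  have e2 := h.nm_pow S hs hw e1
  rw [orderOf_dvd_iff_pow_eq_one.1 ((Subgroup.orderOf_dvd_natCard _ hm).trans
    (hj ▸ pow_dvd_pow 2 j2)), eq_comm, D.v_eq_one, D.add_eq_zeroF] at e2
  exact hb e2.symm

theorem inv_t (h4 : Nat.card F = 4) (hs : s ∈ S.T) (s1 : S.σ s ≠ 1) (s2 : s * s = 1) {b : F}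
    (hb : b ≠ 0) : ∃ a ∈ Z, a * a = D.v b ∧ a * D.t * a = D.t := by
  obtain ⟨z, hz, e⟩ := h.root 1
  have ti := D.t_inv
  have hz' := mem_normalizer_conj h.t_N hz
  obtain ⟨c, hc⟩ := h.cent_t (mul_mem hz hz') (commute_of_conj_eq (by
    rw [← conj_mul, show D.t * (D.t * z * D.t⁻¹) * D.t⁻¹ = D.t * D.t * z * (D.t * D.t)⁻¹ by group,
      D.t_sq, (h.comm _ hz _ hz').eq]; group)).symm
  have hz2 := mem_normalizer_conj (h.T_N S hs) hz
  obtain ⟨d, hd⟩ := h.omega _ (mul_mem (inv_mem hz) hz2) (by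
    rw [(h.comm _ hz2 _ (inv_mem hz)).mul_mul_mul_comm, conj_sq, ← mul_inv_rev, e, S.act s hs,
      map_one, inv_mul_cancel])
  rw [inv_mul_eq_iff_eq_mul] at hd
  have e1 : S.σ s c = c := D.v_inj (by
    rw [← S.act s hs, ← hc, ← conj_mul, show s * (D.t * z * D.t⁻¹) * s⁻¹ =
      s * D.t * s⁻¹ * (s * z * s⁻¹) * (s * D.t * s⁻¹)⁻¹ by group, conj_eq_of_commute (S.T_t hs),
      hd, ← conj_mul, conj_eq_of_commute (D.t_v d), (h.cV hz' d).symm.mul_mul_mul_comm, D.v_sq,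
      mul_one])
  have c0 : c = 0 := by
    have h1 := card_fix D.two s1 (S.σ_sq hs s2)
    by_contra c0
    by_cases c1 : c = 1
    · rw [c1, ← e, mul_right_inj] at hc
      exact D.v1_ne (e ▸ D.V_sq (h.cent_t hz (commute_of_conj_eq hc).symm))
    · have := Fintype.ofFinite {b : F // S.σ s b = b}
      have h2 : 2 < Fintype.card {b : F // S.σ s b = b} := Fintype.two_lt_card_iff.2
        ⟨⟨c, e1⟩, ⟨0, map_zero _⟩, ⟨1, map_one _⟩, by simpa, by simpa, by simp⟩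
      rw [← Nat.card_eq_fintype_card] at h2
      nlinarith
  obtain ⟨k, hk⟩ := D.exists_h one_ne_zero hb
  refine ⟨_, mem_normalizer_conj (h.h_N k) hz, by rw [conj_sq, e, hk], ?_⟩
  rw [c0, D.v_zero] at hc
  calc _ = D.h k * (z * ((D.h k)⁻¹ * D.t * D.h k) * z * D.t⁻¹ * D.t) * (D.h k)⁻¹ := by group
    _ = _ := by
      rw [(D.t_h k).symm.inv_mul_cancel, mul_assoc z, mul_assoc z, hc, one_mul,
        conj_eq_of_commute (D.t_h k).symm]

variable (a : Amb D.toMod X A)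
include a

theorem le_X : Z ≤ X := by
  classical
  obtain ⟨k, hk⟩ := exists_not_mem_finset ({0, 1} : Finset F)
    (Finset.card_le_two.trans_lt (by have := D.big; omega))
  simp only [Finset.mem_insert, Finset.mem_singleton, not_or] at hk
  refine a.le_X h.two (Units.mk0 k hk.1) (h.h_N _) fun z hz c => by_contra fun z1 => ?_
  obtain ⟨n, n1, n2⟩ := (Comp.Tw.of_mem h.two hz).exists_invol z1
  obtain ⟨b, hb⟩ := h.omega _ (pow_mem hz n) n2
  have := conj_eq_of_commute (c.pow_left n).symm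
  rw [hb, D.h_v, D.v_inj.eq_iff] at this
  exact hk.2 (mul_left_eq_self₀.1 this |>.resolve_right fun e => n1 (by rw [hb, e, D.v_zero]))

theorem not_X (H : ∀ g, g * D.t * g⁻¹ ∈ Z ⊔ S.T → g * D.t * g⁻¹ ∈ Z ⊔ zpowers D.t) : D.t ∉ X := by
  obtain ⟨P, hP⟩ := h.exists_sylow S
  exact a.tr P (P := Z) (fun x hx y hy => h.comm_mem S (hP ▸ hx) (hP ▸ hy))
    (fun g _ => h.not_Z S g) fun g g' e e' => Comp.idx_sup_zpowers D.t_sq h.t_N _ (H g (hP ▸ e)) _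
      (H g' (hP ▸ e')) (h.not_Z S g) (h.not_Z S g')

theorem tz_not (ht : D.t ∉ X) (hx : x ∈ X) : D.t * x ∉ Z := fun e =>
  ht ((mul_mem_cancel_right hx).1 (h.le_X a e))

include S in
theorem rank (h4 : Nat.card F = 4) (ht : D.t ∉ X) : PRankLE 2 2 X := fun E _ hE => by
  obtain ⟨P, hP⟩ := h.exists_sylow S
  have h2 : ∀ e ∈ E.map X.subtype, e * e = 1 := by
    rintro _ ⟨e, he, rfl⟩
    exact congrArg Subtype.val ((pow_two e).symm.trans (hE e he))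
  obtain ⟨g, -, hg⟩ := (isSylowIn_top P).exists_cj_le (Q := E.map X.subtype)
    (two_of_pow fun e he => ⟨1, by rw [pow_one, pow_two, h2 e he]⟩) le_top
  rw [← card_map_of_injective X.subtype_injective, ← card_cj g]
  rcases h.elem S (hP ▸ hg) (by rintro _ ⟨e, he, rfl⟩; exact Comp.conj_sq (h2 e he) g)
    (by rintro _ ⟨_, ⟨e, -, rfl⟩, rfl⟩; exact h.tz_not a ht (a.normal.conj_mem _ e.2 g)) with
    e | ⟨e, -⟩
  · simpa [D.card_V, h4] using Subgroup.card_le_of_le e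
  · nlinarith

theorem closed (h4 : Nat.card F ≠ 4) (ht : D.t ∉ X) : IsStronglyClosed D.V (Z ⊔ S.T) := by
  obtain ⟨P, hP⟩ := h.exists_sylow S
  refine ⟨h.V_le.trans le_sup_left, ?_⟩
  rintro _ ⟨b, rfl⟩ g hy
  have yX := a.normal.conj_mem _ (a.V_le (D.v_mem b)) g
  have y2 := Comp.conj_sq (D.v_sq b) g
  by_contra yV
  obtain ⟨s, hs, s1, s2, w, e⟩ := h.conj_T S hy (fun e => yV (h.omega _
    ((h.memZ1.1 e).resolve_right (h.tz_not a ht yX)) y2)) y2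
  obtain ⟨k, hk⟩ := D.exists_h (b := b) (fun e => yV (by simp [e, one_mem])) one_ne_zero
  obtain ⟨u, e1, e2⟩ := Local.exists_extremal_conj (p := 2) (z := D.v 1) (a := s)
    (hP ▸ isSylowIn_of_le P (hP ▸ h.S_v1 S)) (isConj_iff.2 ⟨D.h k * g⁻¹ * w, by
      rw [← hk, show D.v b = g⁻¹ * (g * D.v b * g⁻¹) * g by group, e]; group⟩)
    (Comp.Tw.of_sq D.t_sq).isPGroup fun r hr =>
      (StdSz.mem_C1.1 (zpowers_le.2 (StdSz.mem_C1.2 (S.T_t hs).symm) hr)).eq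
  have t1 := h.conj_Z1 S h4 (e2 _ (mem_zpowers _))
  have t2 := Comp.conj_sq D.t_sq u
  have nV := D.mem_Ns_V (h.Z1_cV t1)
  have cE := Comp.card_of_idx le_sup_left (fun e => h.not_V S u (e (mem_sup_right (mem_zpowers _))))
    (Comp.idx_sup_zpowers t2 nV)
  have sE := Comp.sq_sup (fun _ => D.V_sq) (Comp.sq_zpowers t2) (by
    rintro _ ⟨c, rfl⟩ r hr
    exact (StdSz.mem_C1.1 (zpowers_le.2 (StdSz.mem_C1.2 (h.Z1_cV t1 c)) hr)).symm.eq)
  obtain ⟨c, hc, e3⟩ := S.syl.exists_cj_le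
    (isPGroup_cj (two_of_pow fun e he => ⟨1, by rw [pow_one, pow_two, sE e he]⟩) u⁻¹) (by
      rw [cj_inv_le_iff_le_cj, Gold.cj_C1]
      exact sup_le (by rintro _ ⟨c, rfl⟩; exact StdSz.mem_C1.2 (h.Z1_cV t1 c).symm)
        (zpowers_le.2 (StdSz.mem_C1.2 (Commute.refl _))))
  rw [cj_cj] at e3
  rcases S.elem e3 (by rintro _ ⟨e, he, rfl⟩; exact Comp.conj_sq (sE e he) _) with e4 | e4
  · have e5 := cj_le_iff.1 e4 _ (mem_sup_left (D.v_mem 1))
    have e6 := a.normal.conj_mem _ (a.V_le (D.v_mem 1)) (c * u⁻¹)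
    rw [← e1, show c * u⁻¹ * (u * s * u⁻¹) * (c * u⁻¹)⁻¹ = c⁻¹⁻¹ * s * c⁻¹ by group] at e5 e6
    obtain ⟨d, rfl⟩ := D.mem_V_of_conj (StdSz.mem_C1.1 hc).inv_left (S.le_B hs).2
      (h.omega _ ((h.memZ1.1 (h.W_le e5)).resolve_right (h.tz_not a ht e6))
        (by simpa using Comp.conj_sq s2 c))
    exact s1 ((S.σ_eq_one hs).2 (D.v_comm d))
  · have := D.big
    rw [card_cj, cE, D.card_V] at e4
    exact h4 (by nlinarith)

theorem m12 (ht : D.t ∈ X) : Nat.card F = 4 ∧ Spor.IsoM12 X := by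
  obtain ⟨S⟩ := D.exists_syl
  obtain ⟨P, hP⟩ := h.exists_sylow S
  obtain ⟨g, hy, y1⟩ : ∃ g, g * D.t * g⁻¹ ∈ Z ⊔ S.T ∧ g * D.t * g⁻¹ ∉ Z ⊔ zpowers D.t := by
    by_contra! H; exact h.not_X S a H ht
  obtain ⟨s, hs, s1, s2, w, e⟩ := h.conj_T S hy y1 (Comp.conj_sq D.t_sq g)
  have e' : w⁻¹ * g * D.t * (w⁻¹ * g)⁻¹ = s := by
    calc _ = w⁻¹ * (g * D.t * g⁻¹) * w := by group
      _ = s := by rw [e]; group
  have h4 := h.four_of_conj S hs s1 e'
  refine ⟨h4, ?_⟩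
  obtain ⟨b, hb⟩ : ∃ b, S.σ s b ≠ b := by
    by_contra! e1; exact s1 (RingEquiv.ext e1)
  obtain ⟨u, hu, u2, ut⟩ := h.inv_t S h4 hs s1 s2 (b := b) fun e => hb (by rw [e, map_zero])
  obtain ⟨ψ, hψ, hr⟩ := G2T.exists_hom_GM 0 (a := u) (b := s * u * s⁻¹) (σ := s) (γ := D.t)
    (by rw [show 2 ^ (0 + 2) = 2 * 2 from rfl, pow_mul, pow_two u, u2, pow_two, D.v_sq])
    (h.comm _ (mem_normalizer_conj (h.T_N S hs) hu) _ hu).eq (by group) ut s2 D.t_sq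
    (S.T_t hs).symm.eq (by
      rw [h.nm_pow S hs hu (by rw [← u2]; exact pow_two u), Ne, D.v_eq_one, D.add_eq_zeroF]
      exact fun e => hb e.symm)
  have c1 : Nat.card h.sqH.range ≤ 4 := by
    rw [← h4, ← D.card_V]
    refine Subgroup.card_le_of_le ?_
    rintro _ ⟨z, rfl⟩
    exact h.omega _ (mul_mem z.2 z.2) (h.pow_four S h4 hs s1 e' z.2)
  have c2 := S.f_le_two h4
  have c3 : ψ.range = P := eq_of_le_of_card_ge
    (hP ▸ hr _ (mem_sup_left hu) (mem_sup_right hs) (mem_sup_right (t_T S))) (by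
      rw [hP, h.card_S, h.card_eq, h4, ψ.range_eq_map, card_map_of_injective hψ, card_top,
        G2T.GM.card, Nat.card_zmod]
      exact Nat.mul_le_mul (Nat.mul_le_mul_left 4 c1) (Nat.mul_le_mul_left 2 c2))
  have := a.simple
  obtain rfl := a.top_of ht
  have : IsSimpleGroup G := topEquiv.symm.isSimpleGroup
  obtain ⟨i⟩ := G2T.isoM12_of_two (G := G) ⟨ψ, hψ, c3 ▸ P.not_dvd_index⟩ ⟨D.t, D.v 1, D.orderOf_t,
    orderOf_eq_prime (by rw [pow_two, D.v_sq]) D.v1_ne, fun e => by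
      obtain ⟨c, hc⟩ := isConj_iff.1 e
      exact h.not_V S c (hc ▸ D.v_mem 1)⟩
  exact ⟨topEquiv.trans i⟩

theorem out : Out D.toMod X := by
  by_cases ht : D.t ∈ X
  · exact Or.inr (Or.inr (Or.inl ((h.m12 a ht).imp_right Or.inl)))
  obtain ⟨S⟩ := D.exists_syl
  by_cases h4 : Nat.card F = 4
  · exact Or.inr (Or.inl ⟨h4, ht, h.rank S a h4 ht⟩)
  obtain ⟨P, hP⟩ := h.exists_sylow S
  refine a.fin_sc P le_rfl (fun _ => D.V_sq) (hP ▸ h.closed S a h4 ht) ?_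
  have h1 := Subgroup.card_le_of_le (le_inf (hP ▸ le_sup_left : Z ≤ P) (h.le_X a))
  have h2 := h.card_ge
  have h3 := D.big
  nlinarith

end Top

end Cfsg.Lib.StdL2
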