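import Cfsg.Agent.StdL2.Base

/-!
# Standard subgroups of type `L₂(2ᵃ)`: the case `N(W) ≤ C(t)`, and `t` is not a square in `K`
-/

set_option autoImplicit false
set_option linter.unusedSectionVars false

namespace Cfsg.Lib.StdL2

open Subgroup Cfsg.Lib.Gold Cfsg.Lib.Trans Cfsg.Lib.StdSz

variable {G : Type*} [Group G] [Finite G] {F : Type*} [Field F] [Finite F]

namespace L0

variable {M : Mod G F} {x y w u g : G}

theorem eq_t (hx : x ∈ M.K) (h2 : x * x = 1) : x = 1 ∨ x = M.t := by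
  obtain ⟨b, rfl | rfl⟩ := M.mem_W.1 (M.mem_W_of_sq (M.K_t x hx) (M.K_v x hx) h2)
  · exact .inl (M.v_eq_one.2 (M.v_K b hx))
  · rw [M.v_K b ((mul_mem_cancel_left M.t_K).1 hx), M.v_zero, mul_one]
    exact .inr rfl

omit [Finite G] [Finite F] in
theorem cj_sq (h : IsConj M.t x) : x * x = 1 ∧ x ≠ 1 := by
  obtain ⟨g, rfl⟩ := isConj_iff.1 h
  exact ⟨by rw [conj_mul, M.t_sq]; simp, by simpa using M.t_ne⟩

theorem sq_eq (h1 : Commute w M.t) (h2 : ∀ b, Commute w (M.v b)) (h : IsConj M.t (w * w)) :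
    w * w = M.t := by
  obtain ⟨b, c, hc, rfl⟩ := M.cent w h1 h2
  refine (eq_t ?_ (cj_sq h).1).resolve_left (cj_sq h).2
  rw [(M.K_v c hc b).mul_mul_mul_comm, M.v_sq, one_mul]
  exact mul_mem hc hc

theorem σ_sq (S : Syl M) (hx : x ∈ S.T) (h2 : x * x = 1) : S.σ x * S.σ x = 1 := by
  rw [← S.σ_mul hx hx, h2, S.σ_eq_one (one_mem _)]
  exact fun _ => Commute.one_left _

/-- A field involution `s` is conjugate to `s v(c)`. -/
theorem conj_v (S : Syl M) (hx : x ∈ S.T) (h2 : x * x = 1) (h : S.σ x ≠ 1) {c : F}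
    (hc : S.σ x c = c) : ∃ d, M.v d * x * (M.v d)⁻¹ = M.v c * x := by
  obtain ⟨d, rfl⟩ := exists_trace M.two h (σ_sq S hx h2) hc
  exact ⟨d, by rw [M.v_add, ← S.act x hx, M.v_inv]; group⟩

theorem frame (S : Syl M) (h : IsConj M.t u) {R : Subgroup G} (hR : IsPGroup 2 R)
    (hc : R ≤ C1 u) : ∃ g, g * u * g⁻¹ = M.t ∧ ∀ x ∈ R, g * x * g⁻¹ ∈ S.T := by
  obtain ⟨g, rfl⟩ := isConj_iff.1 h
  obtain ⟨k, e, hk⟩ := S.conj_le hR hc
  exact ⟨k⁻¹, by rw [← e]; group, fun x hx => by simpa using mem_cj.1 (hk hx)⟩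

theorem zst {X A : Subgroup G} (a : Amb M X A) (S : Syl M) (h : Ns S.T ≤ C1 M.t) :
    ∃ u ∈ S.T, IsConj M.t u ∧ u ≠ M.t := by
  obtain ⟨P, hP⟩ := S.sylow_of S.two le_rfl fun g hg =>
    ⟨1, one_mem _, by simpa using conj_eq_of_commute (StdSz.mem_C1.1 (h hg))⟩
  obtain ⟨g, h1, h2⟩ := a.zstar P (hP ▸ S.W_le (mem_sup_right (mem_zpowers _)))
  exact ⟨_, hP ▸ h1, isConj_iff.2 ⟨g, rfl⟩, h2⟩

theorem t_mem (S : Syl M) : M.t ∈ S.T := S.W_le (mem_sup_right (mem_zpowers _))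

theorem v_mem (S : Syl M) (b : F) : M.v b ∈ S.T := S.W_le (mem_sup_left (M.v_mem b))

omit [Finite G] [Finite F] in
theorem isConj_cj (h : IsConj M.t x) (g : G) : IsConj M.t (g * x * g⁻¹) :=
  h.trans (isConj_iff.2 ⟨g, rfl⟩)

end L0

open L0

theorem Amb.l0_big {M : Mod G F} {X A : Subgroup G} (a : Amb M X A) (h8 : 8 ≤ Nat.card F)
    (hN : Ns M.W ≤ C1 M.t) : False := by
  obtain ⟨S⟩ := M.exists_syl
  have k1 : ∀ g, cj g M.W ≤ S.T → g ∈ C1 M.t := fun g hg => by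
    rcases S.elem hg (fun e he => by
      simpa [mul_assoc] using congrArg (fun x => g * x * g⁻¹) (M.W_sq (mem_cj.1 he))) with e | e
    · exact hN (mem_normalizer_of_cj_le e)
    · rw [card_cj, M.card_W] at e; nlinarith
  have k2 : ∀ x ∈ M.W, IsConj M.t x → x = M.t := fun x hx h => by
    obtain ⟨g, e, hg⟩ := frame S h M.two_W fun y hy => StdSz.mem_C1.2 (M.W_comm hy hx)
    have := conj_eq_of_commute (StdSz.mem_C1.1 (k1 g (cj_le_iff.2 hg)))
    simpa using e.trans this.symm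
  obtain ⟨s, hs, cs, ns⟩ := zst a S fun g hg => k1 g ((cj_mono g S.W_le).trans (mem_Ns_iff.1 hg).le)
  have s2 := (cj_sq cs).1
  have σ1 : S.σ s ≠ 1 := fun e =>
    ns (k2 s (M.mem_W_of_sq (S.T_t hs) ((S.σ_eq_one hs).1 e) s2) cs)
  have cm : ∀ c, S.σ s c = c → Commute (M.v c) s := fun c hc =>
    (commute_of_conj_eq ((S.act s hs c).trans (by rw [hc]))).symm
  obtain ⟨g, e, hg⟩ := frame S cs (R := M.V ⊓ C1 s) (M.two_W.to_le (inf_le_left.trans le_sup_left))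
    inf_le_right
  have m : ∀ c, S.σ s c = c → g * M.v c * g⁻¹ ∈ S.T := fun c hc =>
    hg _ ⟨M.v_mem c, StdSz.mem_C1.2 (cm c hc)⟩
  have q : ∀ c, g * M.v c * g⁻¹ * (g * M.v c * g⁻¹) = 1 := fun c => by rw [conj_mul, M.v_sq]; simp
  have k3 : ∀ c, S.σ s c = c → S.σ (g * M.v c * g⁻¹) = 1 → c = 0 := fun c hc h => by
    obtain ⟨d, hd⟩ := conj_v S hs s2 σ1 hc
    have := k2 _ (mul_mem (M.mem_W_of_sq (S.T_t (m c hc)) ((S.σ_eq_one (m c hc)).1 h) (q c))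
      (mem_sup_right (mem_zpowers M.t))) (by
        rw [← e, conj_mul, ← hd, e]; exact isConj_cj (isConj_cj cs _) _)
    simpa [M.v_eq_one] using this
  have h3 := card_fix M.two σ1 (σ_sq S hs s2)
  obtain ⟨⟨c, hc⟩, c0, c1⟩ := ENat.exists_ne_ne_of_three_le (α := {b : F // S.σ s b = b}) (by
    rw [ENat.card_eq_coe_natCard]
    exact_mod_cast (show 3 ≤ Nat.card {b : F // S.σ s b = b} by nlinarith)) ⟨0, map_zero _⟩
    ⟨1, map_one _⟩
  have n1 := mt (k3 c hc) (by simpa using c0)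
  have n2 := mt (k3 1 (map_one _)) one_ne_zero
  refine c1 (Subtype.ext (M.add_eq_zeroF.1 (k3 _ (by rw [map_add, hc, map_one]) ?_)))
  rw [M.v_add, ← conj_mul, S.σ_mul (m c hc) (m 1 (map_one _)), ← S.σ_invol (m c hc)
    (m 1 (map_one _)) n1 n2 (σ_sq S (m c hc) (q c)) (σ_sq S (m 1 (map_one _)) (q 1)),
    σ_sq S (m c hc) (q c)]

theorem Amb.not_sq {M : Mod G F} {X A : Subgroup G} (a : Amb M X A) {y : G} (hy : y ∈ M.K) :
    y * y ≠ M.t := fun e => by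
  by_cases h8 : 8 ≤ Nat.card F
  · refine a.l0_big h8 fun g hg => StdSz.mem_C1.2 (commute_of_conj_eq ?_)
    have c : ∀ w ∈ M.W, Commute (g * y * g⁻¹) w := fun w hw => by
      obtain ⟨b, e | e⟩ := M.mem_W.1 (mem_normalizer_conj' hg hw)
      · simpa [← e, mul_assoc] using commute_conj (M.K_v y hy b) g
      · simpa [← e, mul_assoc] using commute_conj ((M.K_t y hy).mul_right (M.K_v y hy b)) g
    have := sq_eq (c _ (mem_sup_right (mem_zpowers _))) (fun b => c _ (mem_sup_left (M.v_mem b)))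
      (by rw [conj_mul, e]; exact isConj_cj (.refl _) g)
    rwa [conj_mul, e] at this
  have h4 : Nat.card F = 4 := by
    obtain ⟨n, h1, h2⟩ := M.exists_pow
    rw [h2] at h8 ⊢
    obtain rfl : n = 2 := le_antisymm (by_contra fun h =>
      h8 (Nat.pow_le_pow_right (n := 2) (by decide) (show 3 ≤ n by omega))) h1
    rfl
  obtain ⟨S⟩ := M.exists_syl
  obtain ⟨r, rT, rK, r2⟩ : ∃ r ∈ S.T, r ∈ M.K ∧ r * r = M.t := by
    obtain ⟨g, e1, hg⟩ := frame S (.refl _) (two_zpowers (x := y) (k := 2) (by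
      rw [pow_two 2, pow_mul, sq, sq, e, M.t_sq])) (zpowers_le.2 (StdSz.mem_C1.2 (M.K_t y hy)))
    exact ⟨_, hg y (mem_zpowers y), mem_normalizer_conj (M.K_n g (commute_of_conj_eq e1)) hy,
      by rw [conj_mul, e, e1]⟩
  let T0 := S.T ⊓ Cs M.V
  have m0 : ∀ x, x ∈ T0 ↔ x ∈ S.T ∧ ∀ b, Commute x (M.v b) := fun x =>
    and_congr_right' (StdSz.mem_Cs.trans ⟨fun h b => h _ (M.v_mem b), by rintro h _ ⟨b, rfl⟩; exact h b⟩)
  have idx : ∀ D ≤ S.T, Nat.card D = Nat.card T0 → ∀ x ∈ S.T, ∀ z ∈ S.T, x ∉ D → z ∉ D →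
      x * z ∈ D := fun D h1 h2 x hx z hz n1 n2 => by
    have e1 := card_mul_relIndex h1
    rw [h2, ← card_mul_relIndex (inf_le_left : T0 ≤ S.T), inf_relIndex_left] at e1
    have e2 : D.relIndex S.T ≤ 2 := (Nat.eq_of_mul_eq_mul_left Nat.card_pos e1).le.trans (S.f_le_two h4)
    have e3 : D.relIndex S.T ≠ 0 := index_ne_zero_of_finite
    have e4 : D.relIndex S.T ≠ 1 := fun e => n1 (relIndex_eq_one.1 e hx)
    exact (mul_mem_iff_of_index_two (H := D.subgroupOf S.T) (show D.relIndex S.T = 2 by omega)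
      (a := ⟨x, hx⟩) (b := ⟨z, hz⟩)).2 (iff_of_false n1 n2)
  have ab : ∀ x ∈ T0, ∀ z ∈ T0, Commute x z := fun x hx z hz => by
    obtain ⟨b, c, hc, rfl⟩ := M.cent x (S.T_t hx.1) ((m0 x).1 hx).2
    obtain ⟨b', c', hc', rfl⟩ := M.cent z (S.T_t hz.1) ((m0 z).1 hz).2
    have := M.K_cyc (S.T ⊓ M.K) inf_le_right S.two.to_inf_left
    have cc : Commute c c' := congrArg Subtype.val (this.isMulCommutative.is_comm.comm
      ⟨c, (mul_mem_cancel_left (v_mem S b)).1 hx.1, hc⟩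
      ⟨c', (mul_mem_cancel_left (v_mem S b')).1 hz.1, hc'⟩)
    exact ((M.v_comm b b').mul_right (M.K_v c' hc' b).symm).mul_left
      ((M.K_v c hc b').mul_right cc)
  have r0 : r ∈ T0 := (m0 r).2 ⟨rT, M.K_v r rK⟩
  have cl : ∀ u ∈ T0, IsConj M.t u → u = M.t := fun u hu h => by
    obtain ⟨g, e1, hg⟩ := frame S h (R := T0) S.two.to_inf_left fun x hx =>
      StdSz.mem_C1.2 (ab x hx u hu)
    by_cases hb : ∀ b, Commute (g * r * g⁻¹) (M.v b)
    · have := sq_eq (S.T_t (hg r r0)) hb (by rw [conj_mul, r2]; exact isConj_cj (.refl _) g)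
      rw [conj_mul, r2] at this
      simpa using e1.trans this.symm
    obtain ⟨b, hb⟩ := not_forall.1 hb
    obtain ⟨x, hx, x2⟩ : ∃ x ∈ cj g T0, x * x = M.t := by
      by_cases hr : r ∈ cj g T0
      · exact ⟨r, hr, r2⟩
      · refine ⟨_, idx _ (cj_le_iff.2 hg) (card_cj g _) r rT _ (v_mem S b) hr fun hv => hb ?_, ?_⟩
        · simpa [mul_assoc] using commute_conj (ab r r0 _ (mem_cj.1 hv)) g
        · rw [(M.K_v r rK b).symm.mul_mul_mul_comm, M.v_sq, mul_one, r2]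
    have e2 : g⁻¹ * x * g * (g⁻¹ * x * g) = u := by
      rw [← mul_right_inj g, ← mul_left_inj g⁻¹, e1, ← x2]; group
    exact e2 ▸ sq_eq (S.T_t (mem_cj.1 hx).1) ((m0 _).1 (mem_cj.1 hx)).2 (e2 ▸ h)
  obtain ⟨u, uT, cu, nu⟩ := zst a S fun g hg => StdSz.mem_C1.2 (commute_of_conj_eq (cl _
    ((m0 _).2 ⟨mem_normalizer_conj hg (t_mem S), fun b => by
      simpa [mul_assoc] using commute_conj (S.T_t (mem_normalizer_conj' hg (v_mem S b))).symm g⟩)
    (isConj_cj (.refl _) g)))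
  obtain ⟨g, e1, hg⟩ := frame S cu (R := S.T ⊓ C1 u) S.two.to_inf_left inf_le_right
  have k : ∀ w, IsConj M.t (w * u) → g * w * g⁻¹ ∈ T0 → w = 1 := fun w h1 h2 => by
    have := cl _ (mul_mem h2 ((m0 _).2 ⟨t_mem S, M.t_v⟩)) (by
      rw [← e1, conj_mul, e1]; exact isConj_cj h1 g)
    simpa using this
  have ut := S.T_t uT
  rcases eq_t (mul_mem (mem_normalizer_conj (M.K_n u ut) rK) (inv_mem rK)) (by
    rw [(ab r r0 _ ((m0 _).2 ⟨mul_mem (mul_mem uT rT) (inv_mem uT), M.K_v _ (mem_normalizer_conj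
      (M.K_n u ut) rK)⟩)).inv_left.mul_mul_mul_comm, conj_mul, ← mul_inv_rev, r2,
      conj_eq_of_commute ut, mul_inv_cancel]) with e2 | e2
  · have m := hg r ⟨rT, StdSz.mem_C1.2 (commute_of_conj_eq (mul_inv_eq_one.1 e2)).symm⟩
    have := cl _ (by_cases (fun h : g * r * g⁻¹ ∈ T0 => mul_mem h h) fun h =>
      idx _ inf_le_left rfl _ m _ m h h) (by rw [conj_mul, r2]; exact isConj_cj (.refl _) g)
    rw [conj_mul, r2] at this
    exact nu (by simpa using e1.trans this.symm)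
  have c1 : r⁻¹ * u * r⁻¹⁻¹ = M.t * u := by
    rw [mul_assoc, inv_mul_eq_iff_eq_mul, ← mul_assoc, (M.K_t r rK).eq, ← e2]; group
  obtain ⟨d, c2⟩ := conj_v S uT (cj_sq cu).1 (fun e => nu (cl u ((m0 u).2
    ⟨uT, (S.σ_eq_one uT).1 e⟩) cu)) (map_one _)
  have n1 := mt (k _ (c1 ▸ isConj_cj cu _)) M.t_ne
  have n2 := mt (k _ (c2 ▸ isConj_cj cu _)) M.v1_ne
  refine M.t_not_mem_V ⟨1, (eq_inv_of_mul_eq_one_left (k _ ?_ (by
    rw [← conj_mul]
    exact idx _ inf_le_left rfl _ (hg _ ⟨t_mem S, StdSz.mem_C1.2 ut.symm⟩) _ (hg _ ⟨v_mem S 1,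
      StdSz.mem_C1.2 (S.T_v1 uT).symm⟩) n1 n2))).trans (M.v_inv 1)⟩
  rw [mul_assoc, ← c2, ← mul_assoc, ← mul_assoc, (M.t_v d).eq, mul_assoc _ M.t, ← c1]
  exact isConj_cj (isConj_cj cu _) _

end Cfsg.Lib.StdL2
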