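import Cfsg.Agent.StdL2.Defs
import Cfsg.Agent.StdU3.Base
import Cfsg.Agent.Gold.Cm

/-!
# A criterion for strong closure of an elementary abelian subgroup
-/

set_option autoImplicit false

namespace Cfsg.Lib.StdL2

open Subgroup Cfsg.Lib.Gold Cfsg.Lib.Trans Cfsg.Lib.StdSz
open scoped commutatorElement

variable {G : Type*} [Group G] [Finite G]

namespace SCA

variable {B B' D : Subgroup G} {y : G}

theorem ineq (hB : ∀ b ∈ B, b * b = 1) (hy : y * y = 1) (hn : y ∈ Ns B) (hD : D ≤ B)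
    (hc : D ≤ C1 y) : (C1 y).relIndex B ≤ D.relIndex (B ⊓ Ns (D ⊔ zpowers y)) := by
  have cm := comm_of_sq hB
  have yi := inv_eq_of_mul_eq_one_right hy
  have e : ∀ b ∈ B, ⁅b, y⁆ = b * (y * b * y⁻¹) := fun b hb => by
    rw [commutatorElement_def, inv_eq_of_mul_eq_one_right (hB b hb), mul_assoc b, mul_assoc b]
  let φ : B →* G := MonoidHom.mk' (fun b => ⁅(b : G), y⁆) fun a b => by
    simp only [coe_mul, e _ a.2, e _ b.2, e _ (mul_mem a.2 b.2)]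
    rw [← conj_mul, mul_assoc (a : G), mul_assoc (a : G), ← mul_assoc (b : G),
      cm _ b.2 _ (mem_normalizer_conj hn a.2), mul_assoc (y * a * y⁻¹)]
  have h1 : φ.range ≤ B ⊓ C1 y := by
    rintro _ ⟨b, rfl⟩
    change ⁅(b : G), y⁆ ∈ _
    rw [e _ b.2]
    refine ⟨mul_mem b.2 (mem_normalizer_conj hn b.2), Gold.mem_C1.2 ?_⟩
    rw [mul_assoc, inv_mul_cancel_right, cm _ b.2 _ (mem_normalizer_conj hn b.2), yi]
    simp only [← mul_assoc, hy, one_mul]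
  have h2 : D.comap φ ≤ (B ⊓ Ns (D ⊔ zpowers y)).subgroupOf B := fun b hb => ⟨b.2, mem_Ns_iff.2 (by
    change cj (b : G) _ = _
    rw [cj_sup, cj_eq_of_mem_centralizer (mem_centralizer_iff.2 fun d hd => cm _ (hD hd) _ b.2),
      cj_zpowers, show (b : G) * y * (b : G)⁻¹ = φ b * y from (inv_mul_cancel_right _ y).symm]
    exact le_antisymm (sup_le le_sup_left (zpowers_le.2 (mul_mem (mem_sup_left hb)
      (mem_sup_right (mem_zpowers y))))) (sup_le le_sup_left (zpowers_le.2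
      ((mul_mem_cancel_left (mem_sup_left (show φ b ∈ D from hb))).1 (mem_sup_right (mem_zpowers _))))))⟩
  have h3 : B ⊓ C1 y ≤ B ⊓ Ns (D ⊔ zpowers y) := fun b hb => h2 (x := ⟨b, hb.1⟩) (by
    change ⁅b, y⁆ ∈ D
    rw [commutatorElement_eq_one_iff_mul_comm.2 (Gold.mem_C1.1 hb.2)]
    exact one_mem _)
  rw [← inf_relIndex_left, ← relIndex_mul_relIndex _ _ _ h3 inf_le_left,
    ← relIndex_mul_relIndex D _ _ (le_inf hD hc) h3, mul_comm]
  refine Nat.mul_le_mul_right _ ((Nat.le_of_dvd (Nat.pos_of_ne_zero index_ne_zero_of_finite)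
    (index_dvd_of_le h2)).trans ?_)
  rw [index_comap]
  exact relIndex_le_of_le_right h1 index_ne_zero_of_finite

/-- Two conjugates of `B` and an element of the second normalising the first. -/
def Tr (B : Subgroup G) (x : G × G × G) : Prop :=
  x.2.2 ∈ cj x.2.1 B ∧ x.2.2 ∈ Ns (cj x.1 B) ∧ x.2.2 ∉ cj x.1 B

omit [Finite G] in
theorem sq_cj (hB : ∀ b ∈ B, b * b = 1) (g : G) : ∀ b ∈ cj g B, b * b = 1 := by
  rintro _ ⟨b, hb, rfl⟩
  rw [← map_mul, hB b hb, map_one]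

theorem no_tr (hB : ∀ b ∈ B, b * b = 1)
    (h : ∀ (g g' : G) (E : Subgroup G), E ≤ Ns (cj g' B) → E ≤ cj g B →
      (∀ e ∈ E, e ∉ cj g' B → (C1 e).relIndex (cj g' B) ≤ (cj g' B).relIndex E) → E ≤ cj g' B)
    (x : G × G × G) : ¬ Tr B x := fun hx => by
  let f : G × G × G → ℕ ×ₗ ℕ := fun x => toLex (Nat.card (cj x.1 B ⊓ cj x.2.1 B : Subgroup G),
    (cj x.1 B ⊓ cj x.2.1 B).relIndex (cj x.1 B ⊓ Ns (cj x.1 B ⊓ cj x.2.1 B ⊔ zpowers x.2.2)))
  obtain ⟨⟨g₁, g₂, y⟩, ⟨y2, yn, y1⟩, hm⟩ := Set.exists_max_image {x | Tr B x} f (Set.toFinite _)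
    ⟨x, hx⟩
  have two : ∀ g, IsPGroup 2 (cj g B) := fun g => two_of_pow fun b hb =>
    ⟨1, by rw [pow_one, sq, sq_cj hB g b hb]⟩
  have iq : ∀ g g' z, Tr B (g, g', z) → (C1 z).relIndex (cj g B) ≤ (f (g, g', z)).2 :=
    fun g g' z hz => ineq (sq_cj hB g) (sq_cj hB g' z hz.1) hz.2.1 inf_le_left fun d hd =>
      Gold.mem_C1.2 (comm_of_sq (sq_cj hB g') _ hd.2 _ hz.1)
  dsimp only at y1 y2 yn
  set B₁ := cj g₁ B
  set D := B₁ ⊓ cj g₂ B with hD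
  set Y := D ⊔ zpowers y
  have m1 : ∀ g g' z, Tr B (g, g', z) → D ≤ cj g B ⊓ cj g' B → D = cj g B ⊓ cj g' B :=
    fun g g' z hz l => eq_of_le_of_card_ge l (Prod.Lex.monotone_fst _ _ (hm _ hz))
  have hY : Y ≤ cj g₂ B := sup_le inf_le_right (zpowers_le.2 y2)
  obtain ⟨R, hR, hE⟩ := exists_isSylowIn_ge (Q := B₁ ⊓ Ns Y) (two g₁).to_inf_left inf_le_right
  obtain ⟨m, hm', h3⟩ := hR.exists_cj_le (two g₂) fun b hb => centralizer_le_normalizer _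
    (mem_centralizer_iff.2 fun c hc => comm_of_sq (sq_cj hB g₂) _ (hY hc) _ hb)
  rw [cj_cj] at h3
  have hY3 : Y ≤ cj (m * g₂) B := by rw [cj_mul, ← mem_Ns_iff.1 hm']; exact cj_mono m hY
  set g₃ := m * g₂
  have hN : R ≤ Ns (cj g₃ B) := by
    by_contra hn
    obtain ⟨r, ⟨r1, r2⟩, r3⟩ := SetLike.exists_of_lt (lt_inf_normalizer hR.isPGroup
      (inf_lt_left.2 hn : R ⊓ Ns (cj g₃ B) < R))
    have : ¬ cj r (cj g₃ B) ≤ cj g₃ B := fun k => r3 ⟨r1, mem_normalizer_of_cj_le k⟩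
    obtain ⟨z, z1, z2⟩ := SetLike.not_le_iff_exists.1 this
    have z3 := (mem_Ns_iff.1 r2).le (cj_mono r (le_inf h3 le_normalizer) z1)
    have l : Y ≤ cj g₃ B ⊓ cj (r * g₃) B :=
      le_inf hY3 (by rw [cj_mul, ← mem_Ns_iff.1 (hR.le r1)]; exact cj_mono r hY3)
    have := m1 g₃ (r * g₃) z ⟨cj_mul r g₃ B ▸ z1, z3.2, z2⟩ (le_sup_left.trans l)
    exact y1 (this.ge (l (mem_sup_right (mem_zpowers y)))).1
  have e3 := m1 g₁ g₃ y ⟨hY3 (mem_sup_right (mem_zpowers y)), yn, y1⟩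
    (le_inf inf_le_left (le_sup_left.trans hY3))
  have hle := h g₁ g₃ (B₁ ⊓ Ns Y) (hE.trans hN) inf_le_left fun e he hne => by
    have t : Tr B (g₃, g₁, e) := ⟨he.1, hN (hE he), hne⟩
    refine (iq _ _ _ t).trans ?_
    rcases Prod.Lex.le_iff.1 (hm _ t) with k | ⟨-, k⟩
    · exact absurd k (by
        change ¬ Nat.card (cj g₃ B ⊓ B₁ : Subgroup G) < Nat.card D
        rw [inf_comm, ← e3]; exact lt_irrefl _)
    · refine k.trans (le_of_eq ?_)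
      change D.relIndex (B₁ ⊓ Ns Y) = _
      rw [← inf_relIndex_right D, ← inf_relIndex_right (cj g₃ B), e3]
      congr 1
      rw [← e3]
      exact le_antisymm (inf_le_inf_right _ (e3.le.trans inf_le_right))
        (le_inf (fun a ha => e3.ge ⟨ha.2.1, ha.1⟩) inf_le_right)
  have k := iq g₁ g₂ y ⟨y2, yn, y1⟩
  change _ ≤ D.relIndex (B₁ ⊓ Ns Y) at k
  have hED : B₁ ⊓ Ns Y ≤ D := e3.ge.trans' (le_inf inf_le_left hle)
  rw [relIndex_eq_one.2 hED, Nat.le_one_iff_eq_zero_or_eq_one, relIndex_eq_one] at k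
  have hC := k.resolve_left index_ne_zero_of_finite
  have hYC : Y ≤ Cs B₁ :=
    sup_le (fun d hd => Gold.mem_Cs.2 fun c hc => comm_of_sq (sq_cj hB g₁) _ hc _ hd.1)
      (zpowers_le.2 (Gold.mem_Cs.2 fun c hc => Gold.mem_C1.1 (hC hc)))
  have : B₁ ≤ cj g₂ B := fun b hb =>
    (hED ⟨hb, centralizer_le_normalizer _ (le_Cs_comm.1 hYC hb)⟩).2
  exact y1 ((eq_of_le_of_card_ge this (by rw [card_cj, card_cj])).ge y2)

end SCA

theorem sc_lemma {B S : Subgroup G} (hB : ∀ b ∈ B, b * b = 1) (hS : IsSylowIn 2 S (Ns B))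
    (h : ∀ (g : G) (E : Subgroup G), E ≤ S → E ≤ cj g B →
      (∀ e ∈ E, e ∉ B → (C1 e).relIndex B ≤ B.relIndex E) → E ≤ B) :
    ∃ P : Sylow 2 G, (P : Subgroup G) = S ∧ IsStronglyClosed B S := by
  have two : ∀ g, IsPGroup 2 (cj g B) := fun g => two_of_pow fun b hb =>
    ⟨1, by rw [pow_one, sq, SCA.sq_cj hB g b hb]⟩
  have key := SCA.no_tr hB fun g g' E h1 h2 h3 => by
    obtain ⟨n, hn, k⟩ := hS.exists_cj_le (isPGroup_cj ((two g).to_le h2) g'⁻¹)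
      (by rw [cj_inv_le_iff_le_cj, cj_Ns]; exact h1)
    rw [cj_cj] at k
    have e : cj (n * g'⁻¹) (cj g' B) = B := by
      rw [cj_cj, inv_mul_cancel_right, mem_Ns_iff.1 hn]
    rw [← cj_le_cj (g := n * g'⁻¹), e]
    refine h (n * g'⁻¹ * g) _ k (by rw [cj_mul _ g]; exact cj_mono _ h2) ?_
    rintro _ ⟨x, hx, rfl⟩ hx'
    have := h3 x hx fun l => hx' (e ▸ mem_map_of_mem _ l)
    rwa [← relIndex_cj (n * g'⁻¹), ← relIndex_cj (n * g'⁻¹) (cj g' B), e, cj_C1] at this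
  have k1 : ∀ g y, y ∈ cj g B → y ∈ S → y ∈ B := fun g y h1 h2 => by_contra fun h3 =>
    key (1, g, y) ⟨h1, by rw [cj_one]; exact hS.le h2, by rwa [cj_one]⟩
  have hBS : B ≤ S := hS.le_of_normal (cj_one B ▸ two 1) le_normalizer le_rfl
  obtain ⟨P, hP⟩ := hS.isPGroup.exists_le_sylow
  refine ⟨P, by_contra fun hn => ?_, hBS, fun x hx g => k1 g _ (conj_mem_cj.2 hx)⟩
  obtain ⟨r, ⟨r1, r2⟩, r3⟩ := SetLike.exists_of_lt (lt_inf_normalizer P.isPGroup'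
    (lt_of_le_of_ne hP (Ne.symm hn)))
  exact r3 ((hS.eq_inf P.isPGroup' hP).le ⟨r1, mem_normalizer_of_cj_le fun y hy =>
    k1 r y hy ((mem_Ns_iff.1 r2).le (cj_mono r hBS hy))⟩)

end Cfsg.Lib.StdL2
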